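import Cfsg.Agent.Lib.Helper28.TC2Upper
import Cfsg.Agent.Lib.Helper16.HSM.EHSDataC0
import Cfsg.Agent.Lib.Helper16.HSM.EHSDataC1
import Cfsg.Agent.Lib.Helper16.HSM.EHSDataC2
set_option autoImplicit false
set_option maxRecDepth 100000

namespace Cfsg.Agent.Lib.Helper16.HSM.EHSData
open Cfsg.Agent.Lib.Helper28.TC2Upper

/-- relators -/
def relT : BT (ℕ × List ℕ × List ℕ) := (BT.node 128 (BT.node 64 (BT.node 32 (BT.node 16 (BT.node 8 (BT.node 4 (BT.node 2 (BT.node 1 (BT.node 0 (BT.leaf (6, [1, 1, 1, 0, 0, 0], [1, 1, 1, 0, 0, 0])) (BT.leaf (6, [3, 1, 1, 2, 0, 0], [1, 1, 3, 0, 0, 2]))) (BT.leaf (6, [5, 1, 1, 4, 0, 0], [1, 1, 5, 0, 0, 4]))) (BT.node 3 (BT.leaf (10, [1, 3, 3, 3, 3, 0, 2, 2, 2, 2], [3, 3, 3, 3,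 1, 2, 2, 2, 2, 0])) (BT.leaf (10, [3, 3, 3, 3, 3, 2, 2, 2, 2, 2], [3, 3, 3, 3, 3, 2, 2, 2, 2, 2])))) (BT.node 6 (BT.node 5 (BT.leaf (10, [5, 3, 3, 3, 3, 4, 2, 2, 2, 2], [3, 3, 3, 3, 5, 2, 2, 2, 2, 4])) (BT.leaf (46, [1, 1, 3, 1, 3, 1, 3, 1, 3, 1, 3, 1, 3, 1, 3, 1, 3, 1, 3, 1, 3, 1, 3, 0, 2, 0, 2, 0, 2, 0, 2, 0, 2, 0, 2, 0, 2, 0, 2, 0, 2, 0, 2, 0, 2, 0], [1, 3, 1, 3, 1, 3, 1, 3, 1, 3, 1, 3, 1, 3, 1, 3, 1, 3, 1, 3, 1, 3, 1, 2, 0, 2, 0, 2, 0, 2, 0, 2, 0, 2, 0, 2, 0, 2, 0, 2, 0, 2, 0, 2, 0, 0]))) (BT.node 7 (BT.leaf (46, [3, 1, 3, 1, 3, 1, 3, 1, 3, 1, 3, 1, 3, 1, 3, 1, 3, 1, 3, 1, 3, 1, 3, 2, 2, 0, 2, 0, 2, 0, 2, 0, 2, 0, 2, 0, 2, 0, 2, 0, 2, 0, 2, 0, 2, 0], [1, 3, 1, 3, 1, 3, 1, 3, 1, 3, 1, 3, 1, 3, 1, 3, 1,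 3, 1, 3, 1, 3, 3, 2, 0, 2, 0, 2, 0, 2, 0, 2, 0, 2, 0, 2, 0, 2, 0, 2, 0, 2, 0, 2, 0, 2])) (BT.leaf (46, [5, 1, 3, 1, 3, 1, 3, 1, 3, 1, 3, 1, 3, 1, 3, 1, 3, 1, 3, 1, 3, 1, 3, 4, 2, 0, 2, 0, 2, 0, 2, 0, 2, 0, 2, 0, 2, 0, 2, 0, 2, 0, 2, 0, 2, 0], [1, 3, 1, 3, 1, 3, 1, 3, 1, 3, 1, 3, 1, 3, 1, 3, 1, 3, 1, 3, 1, 3, 5, 2, 0, 2, 0, 2, 0, 2, 0, 2, 0, 2, 0, 2, 0, 2, 0, 2, 0, 2, 0, 2, 0, 4]))))) (BT.node 12 (BT.node 10 (BT.node 9 (BT.leaf (38, [1, 1, 3, 3, 1, 3, 3, 1, 3, 3, 1, 3, 3, 1, 3, 3, 1, 3, 3, 0, 2, 2, 0, 2, 2, 0, 2, 2, 0, 2, 2, 0, 2, 2, 0, 2, 2, 0], [1, 3, 3, 1, 3, 3, 1, 3, 3, 1, 3, 3, 1, 3, 3, 1, 3, 3, 1, 2, 2, 0, 2, 2, 0, 2, 2, 0, 2, 2, 0, 2, 2, 0, 2, 2, 0, 0])) (BT.leaf (38, [3, 1, 3, 3, 1, 3, 3, 1, 3, 3,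 1, 3, 3, 1, 3, 3, 1, 3, 3, 2, 2, 2, 0, 2, 2, 0, 2, 2, 0, 2, 2, 0, 2, 2, 0, 2, 2, 0], [1, 3, 3, 1, 3, 3, 1, 3, 3, 1, 3, 3, 1, 3, 3, 1, 3, 3, 3, 2, 2, 0, 2, 2, 0, 2, 2, 0, 2, 2, 0, 2, 2, 0, 2, 2, 0, 2]))) (BT.node 11 (BT.leaf (38, [5, 1, 3, 3, 1, 3, 3, 1, 3, 3, 1, 3, 3, 1, 3, 3, 1, 3, 3, 4, 2, 2, 0, 2, 2, 0, 2, 2, 0, 2, 2, 0, 2, 2, 0, 2, 2, 0], [1, 3, 3, 1, 3, 3, 1, 3, 3, 1, 3, 3, 1, 3, 3, 1, 3, 3, 5, 2, 2, 0, 2, 2, 0, 2, 2, 0, 2, 2, 0, 2, 2, 0, 2, 2, 0, 4])) (BT.leaf (40, [1, 1, 3, 1, 3, 1, 2, 1, 3, 1, 3, 3, 1, 2, 1, 3, 1, 2, 1, 2, 0, 3, 0, 3, 0, 2, 0, 3, 0, 2, 2, 0, 2, 0, 3, 0, 2, 0, 2, 0], [1, 3, 1, 3, 1, 2, 1, 3, 1, 3, 3, 1, 2, 1, 3, 1, 2, 1, 2, 1, 3, 0, 3, 0, 2, 0, 3, 0, 2, 2, 0, 2, 0, 3, 0, 2, 0, 2,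 0, 0])))) (BT.node 14 (BT.node 13 (BT.leaf (40, [3, 1, 3, 1, 3, 1, 2, 1, 3, 1, 3, 3, 1, 2, 1, 3, 1, 2, 1, 2, 2, 3, 0, 3, 0, 2, 0, 3, 0, 2, 2, 0, 2, 0, 3, 0, 2, 0, 2, 0], [1, 3, 1, 3, 1, 2, 1, 3, 1, 3, 3, 1, 2, 1, 3, 1, 2, 1, 2, 3, 3, 0, 3, 0, 2, 0, 3, 0, 2, 2, 0, 2, 0, 3, 0, 2, 0, 2, 0, 2])) (BT.leaf (40, [5, 1, 3, 1, 3, 1, 2, 1, 3, 1, 3, 3, 1, 2, 1, 3, 1, 2, 1, 2, 4, 3, 0, 3, 0, 2, 0, 3, 0, 2, 2, 0, 2, 0, 3, 0, 2, 0, 2, 0], [1, 3, 1, 3, 1, 2, 1, 3, 1, 3, 3, 1, 2, 1, 3, 1, 2, 1, 2, 5, 3, 0, 3, 0, 2, 0, 3, 0, 2, 2, 0, 2, 0, 3, 0, 2, 0, 2, 0, 4]))) (BT.node 15 (BT.leaf (6, [1, 5, 5, 0, 4, 4], [5, 5, 1, 4, 4, 0])) (BT.leaf (6, [3, 5, 5, 2, 4, 4], [5, 5, 3, 4, 4, 2])))))) (BT.node 24 (BT.node 20 (BT.node 18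 (BT.node 17 (BT.leaf (6, [5, 5, 5, 4, 4, 4], [5, 5, 5, 4, 4, 4])) (BT.leaf (18, [1, 2, 1, 5, 1, 3, 1, 5, 1, 0, 0, 4, 0, 2, 0, 4, 0, 3], [2, 1, 5, 1, 3, 1, 5, 1, 1, 0, 4, 0, 2, 0, 4, 0, 3, 0]))) (BT.node 19 (BT.leaf (18, [3, 2, 1, 5, 1, 3, 1, 5, 1, 2, 0, 4, 0, 2, 0, 4, 0, 3], [2, 1, 5, 1, 3, 1, 5, 1, 3, 0, 4, 0, 2, 0, 4, 0, 3, 2])) (BT.leaf (18, [5, 2, 1, 5, 1, 3, 1, 5, 1, 4, 0, 4, 0, 2, 0, 4, 0, 3], [2, 1, 5, 1, 3, 1, 5, 1, 5, 0, 4, 0, 2, 0, 4, 0, 3, 4])))) (BT.node 22 (BT.node 21 (BT.leaf (22, [1, 1, 3, 3, 1, 5, 1, 2, 2, 1, 5, 0, 4, 0, 3, 3, 0, 4, 0, 2, 2, 0], [1, 3, 3, 1, 5, 1, 2, 2, 1, 5, 1, 4, 0, 3, 3, 0, 4, 0, 2, 2, 0, 0])) (BT.leaf (22, [3, 1, 3, 3, 1, 5, 1, 2, 2, 1, 5, 2, 4, 0, 3, 3, 0, 4, 0, 2, 2,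 0], [1, 3, 3, 1, 5, 1, 2, 2, 1, 5, 3, 4, 0, 3, 3, 0, 4, 0, 2, 2, 0, 2]))) (BT.node 23 (BT.leaf (22, [5, 1, 3, 3, 1, 5, 1, 2, 2, 1, 5, 4, 4, 0, 3, 3, 0, 4, 0, 2, 2, 0], [1, 3, 3, 1, 5, 1, 2, 2, 1, 5, 5, 4, 0, 3, 3, 0, 4, 0, 2, 2, 0, 4])) (BT.leaf (30, [1, 2, 1, 5, 2, 1, 5, 1, 3, 1, 5, 3, 1, 5, 1, 0, 0, 4, 0, 2, 4, 0, 2, 0, 4, 0, 3, 4, 0, 3], [2, 1, 5, 2, 1, 5, 1, 3, 1, 5, 3, 1, 5, 1, 1, 0, 4, 0, 2, 4, 0, 2, 0, 4, 0, 3, 4, 0, 3, 0]))))) (BT.node 28 (BT.node 26 (BT.node 25 (BT.leaf (30, [3, 2, 1, 5, 2, 1, 5, 1, 3, 1, 5, 3, 1, 5, 1, 2, 0, 4, 0, 2, 4, 0, 2, 0, 4, 0, 3, 4, 0, 3], [2, 1, 5, 2, 1, 5, 1, 3, 1, 5, 3, 1, 5, 1, 3, 0, 4, 0, 2, 4, 0, 2, 0, 4, 0, 3, 4, 0, 3, 2])) (BT.leaf (30, [5, 2, 1, 5, 2, 1, 5, 1,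 3, 1, 5, 3, 1, 5, 1, 4, 0, 4, 0, 2, 4, 0, 2, 0, 4, 0, 3, 4, 0, 3], [2, 1, 5, 2, 1, 5, 1, 3, 1, 5, 3, 1, 5, 1, 5, 0, 4, 0, 2, 4, 0, 2, 0, 4, 0, 3, 4, 0, 3, 4]))) (BT.node 27 (BT.leaf (30, [1, 2, 1, 5, 3, 1, 5, 1, 2, 1, 5, 3, 1, 5, 1, 0, 0, 4, 0, 2, 4, 0, 3, 0, 4, 0, 2, 4, 0, 3], [2, 1, 5, 3, 1, 5, 1, 2, 1, 5, 3, 1, 5, 1, 1, 0, 4, 0, 2, 4, 0, 3, 0, 4, 0, 2, 4, 0, 3, 0])) (BT.leaf (30, [3, 2, 1, 5, 3, 1, 5, 1, 2, 1, 5, 3, 1, 5, 1, 2, 0, 4, 0, 2, 4, 0, 3, 0, 4, 0, 2, 4, 0, 3], [2, 1, 5, 3, 1, 5, 1, 2, 1, 5, 3, 1, 5, 1, 3, 0, 4, 0, 2, 4, 0, 3, 0, 4, 0, 2, 4, 0, 3, 2])))) (BT.node 30 (BT.node 29 (BT.leaf (30, [5, 2, 1, 5, 3, 1, 5, 1, 2, 1, 5, 3, 1, 5, 1, 4, 0, 4, 0, 2, 4, 0, 3, 0, 4, 0, 2, 4, 0, 3], [2, 1, 5,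 3, 1, 5, 1, 2, 1, 5, 3, 1, 5, 1, 5, 0, 4, 0, 2, 4, 0, 3, 0, 4, 0, 2, 4, 0, 3, 4])) (BT.leaf (30, [1, 1, 3, 1, 5, 2, 1, 5, 1, 3, 1, 5, 2, 1, 5, 0, 4, 0, 3, 4, 0, 2, 0, 4, 0, 3, 4, 0, 2, 0], [1, 3, 1, 5, 2, 1, 5, 1, 3, 1, 5, 2, 1, 5, 1, 4, 0, 3, 4, 0, 2, 0, 4, 0, 3, 4, 0, 2, 0, 0]))) (BT.node 31 (BT.leaf (30, [3, 1, 3, 1, 5, 2, 1, 5, 1, 3, 1, 5, 2, 1, 5, 2, 4, 0, 3, 4, 0, 2, 0, 4, 0, 3, 4, 0, 2, 0], [1, 3, 1, 5, 2, 1, 5, 1, 3, 1, 5, 2, 1, 5, 3, 4, 0, 3, 4, 0, 2, 0, 4, 0, 3, 4, 0, 2, 0, 2])) (BT.leaf (30, [5, 1, 3, 1, 5, 2, 1, 5, 1, 3, 1, 5, 2, 1, 5, 4, 4, 0, 3, 4, 0, 2, 0, 4, 0, 3, 4, 0, 2, 0], [1, 3, 1, 5, 2, 1, 5, 1, 3, 1, 5, 2, 1, 5, 5, 4, 0, 3, 4, 0, 2, 0, 4, 0, 3, 4, 0, 2, 0, 4]))))))) (BT.node 48 (BT.node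 40 (BT.node 36 (BT.node 34 (BT.node 33 (BT.leaf (34, [1, 2, 1, 5, 3, 3, 1, 5, 1, 2, 2, 1, 5, 3, 1, 5, 1, 0, 0, 4, 0, 2, 4, 0, 3, 3, 0, 4, 0, 2, 2, 4, 0, 3], [2, 1, 5, 3, 3, 1, 5, 1, 2, 2, 1, 5, 3, 1, 5, 1, 1, 0, 4, 0, 2, 4, 0, 3, 3, 0, 4, 0, 2, 2, 4, 0, 3, 0])) (BT.leaf (34, [3, 2, 1, 5, 3, 3, 1, 5, 1, 2, 2, 1, 5, 3, 1, 5, 1, 2, 0, 4, 0, 2, 4, 0, 3, 3, 0, 4, 0, 2, 2, 4, 0, 3], [2, 1, 5, 3, 3, 1, 5, 1, 2, 2, 1, 5, 3, 1, 5, 1, 3, 0, 4, 0, 2, 4, 0, 3, 3, 0, 4, 0, 2, 2, 4, 0, 3, 2]))) (BT.node 35 (BT.leaf (34, [5, 2, 1, 5, 3, 3, 1, 5, 1, 2, 2, 1, 5, 3, 1, 5, 1, 4, 0, 4, 0, 2, 4, 0, 3, 3, 0, 4, 0, 2, 2, 4, 0, 3], [2, 1, 5, 3, 3, 1, 5, 1, 2, 2, 1, 5, 3, 1, 5, 1, 5, 0, 4, 0, 2, 4, 0, 3, 3, 0, 4, 0, 2, 2, 4, 0,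 3, 4])) (BT.leaf (34, [1, 1, 3, 1, 5, 3, 3, 1, 5, 1, 2, 2, 1, 5, 2, 1, 5, 0, 4, 0, 3, 4, 0, 3, 3, 0, 4, 0, 2, 2, 4, 0, 2, 0], [1, 3, 1, 5, 3, 3, 1, 5, 1, 2, 2, 1, 5, 2, 1, 5, 1, 4, 0, 3, 4, 0, 3, 3, 0, 4, 0, 2, 2, 4, 0, 2, 0, 0])))) (BT.node 38 (BT.node 37 (BT.leaf (34, [3, 1, 3, 1, 5, 3, 3, 1, 5, 1, 2, 2, 1, 5, 2, 1, 5, 2, 4, 0, 3, 4, 0, 3, 3, 0, 4, 0, 2, 2, 4, 0, 2, 0], [1, 3, 1, 5, 3, 3, 1, 5, 1, 2, 2, 1, 5, 2, 1, 5, 3, 4, 0, 3, 4, 0, 3, 3, 0, 4, 0, 2, 2, 4, 0, 2, 0, 2])) (BT.leaf (34, [5, 1, 3, 1, 5, 3, 3, 1, 5, 1, 2, 2, 1, 5, 2, 1, 5, 4, 4, 0, 3, 4, 0, 3, 3, 0, 4, 0, 2, 2, 4, 0, 2, 0], [1, 3, 1, 5, 3, 3, 1, 5, 1, 2, 2, 1, 5, 2, 1, 5, 5, 4, 0, 3, 4, 0, 3, 3, 0, 4, 0, 2, 2, 4, 0, 2, 0, 4]))) (BT.node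 39 (BT.leaf (34, [1, 1, 3, 3, 1, 5, 2, 1, 5, 1, 3, 1, 5, 2, 2, 1, 5, 0, 4, 0, 3, 3, 4, 0, 2, 0, 4, 0, 3, 4, 0, 2, 2, 0], [1, 3, 3, 1, 5, 2, 1, 5, 1, 3, 1, 5, 2, 2, 1, 5, 1, 4, 0, 3, 3, 4, 0, 2, 0, 4, 0, 3, 4, 0, 2, 2, 0, 0])) (BT.leaf (34, [3, 1, 3, 3, 1, 5, 2, 1, 5, 1, 3, 1, 5, 2, 2, 1, 5, 2, 4, 0, 3, 3, 4, 0, 2, 0, 4, 0, 3, 4, 0, 2, 2, 0], [1, 3, 3, 1, 5, 2, 1, 5, 1, 3, 1, 5, 2, 2, 1, 5, 3, 4, 0, 3, 3, 4, 0, 2, 0, 4, 0, 3, 4, 0, 2, 2, 0, 2]))))) (BT.node 44 (BT.node 42 (BT.node 41 (BT.leaf (34, [5, 1, 3, 3, 1, 5, 2, 1, 5, 1, 3, 1, 5, 2, 2, 1, 5, 4, 4, 0, 3, 3, 4, 0, 2, 0, 4, 0, 3, 4, 0, 2, 2, 0], [1, 3, 3, 1, 5, 2, 1, 5, 1, 3, 1, 5, 2, 2, 1, 5, 5, 4, 0, 3, 3, 4, 0, 2, 0, 4, 0, 3, 4, 0, 2, 2, 0, 4])) (BT.leaf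 (34, [1, 1, 5, 1, 3, 3, 5, 1, 3, 1, 5, 1, 2, 5, 1, 2, 2, 0, 3, 3, 0, 4, 3, 0, 4, 0, 2, 0, 4, 2, 2, 0, 4, 0], [1, 5, 1, 3, 3, 5, 1, 3, 1, 5, 1, 2, 5, 1, 2, 2, 1, 3, 3, 0, 4, 3, 0, 4, 0, 2, 0, 4, 2, 2, 0, 4, 0, 0]))) (BT.node 43 (BT.leaf (34, [3, 1, 5, 1, 3, 3, 5, 1, 3, 1, 5, 1, 2, 5, 1, 2, 2, 2, 3, 3, 0, 4, 3, 0, 4, 0, 2, 0, 4, 2, 2, 0, 4, 0], [1, 5, 1, 3, 3, 5, 1, 3, 1, 5, 1, 2, 5, 1, 2, 2, 3, 3, 3, 0, 4, 3, 0, 4, 0, 2, 0, 4, 2, 2, 0, 4, 0, 2])) (BT.leaf (34, [5, 1, 5, 1, 3, 3, 5, 1, 3, 1, 5, 1, 2, 5, 1, 2, 2, 4, 3, 3, 0, 4, 3, 0, 4, 0, 2, 0, 4, 2, 2, 0, 4, 0], [1, 5, 1, 3, 3, 5, 1, 3, 1, 5, 1, 2, 5, 1, 2, 2, 5, 3, 3, 0, 4, 3, 0, 4, 0, 2, 0, 4, 2, 2, 0, 4, 0, 4])))) (BT.node 46 (BT.node 45 (BT.leaf (34,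 [1, 5, 3, 1, 2, 1, 3, 1, 2, 5, 3, 1, 2, 1, 3, 1, 2, 0, 3, 0, 2, 0, 3, 0, 2, 4, 3, 0, 2, 0, 3, 0, 2, 4], [5, 3, 1, 2, 1, 3, 1, 2, 5, 3, 1, 2, 1, 3, 1, 2, 1, 3, 0, 2, 0, 3, 0, 2, 4, 3, 0, 2, 0, 3, 0, 2, 4, 0])) (BT.leaf (34, [3, 5, 3, 1, 2, 1, 3, 1, 2, 5, 3, 1, 2, 1, 3, 1, 2, 2, 3, 0, 2, 0, 3, 0, 2, 4, 3, 0, 2, 0, 3, 0, 2, 4], [5, 3, 1, 2, 1, 3, 1, 2, 5, 3, 1, 2, 1, 3, 1, 2, 3, 3, 0, 2, 0, 3, 0, 2, 4, 3, 0, 2, 0, 3, 0, 2, 4, 2]))) (BT.node 47 (BT.leaf (34, [5, 5, 3, 1, 2, 1, 3, 1, 2, 5, 3, 1, 2, 1, 3, 1, 2, 4, 3, 0, 2, 0, 3, 0, 2, 4, 3, 0, 2, 0, 3, 0, 2, 4], [5, 3, 1, 2, 1, 3, 1, 2, 5, 3, 1, 2, 1, 3, 1, 2, 5, 3, 0, 2, 0, 3, 0, 2, 4, 3, 0, 2, 0, 3, 0, 2, 4, 4])) (BT.leaf (38, [1, 2, 1, 5, 3, 1, 2, 5, 3, 1,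 2, 1, 3, 1, 2, 5, 3, 5, 1, 0, 0, 4, 2, 4, 3, 0, 2, 0, 3, 0, 2, 4, 3, 0, 2, 4, 0, 3], [2, 1, 5, 3, 1, 2, 5, 3, 1, 2, 1, 3, 1, 2, 5, 3, 5, 1, 1, 0, 4, 2, 4, 3, 0, 2, 0, 3, 0, 2, 4, 3, 0, 2, 4, 0, 3, 0])))))) (BT.node 56 (BT.node 52 (BT.node 50 (BT.node 49 (BT.leaf (38, [3, 2, 1, 5, 3, 1, 2, 5, 3, 1, 2, 1, 3, 1, 2, 5, 3, 5, 1, 2, 0, 4, 2, 4, 3, 0, 2, 0, 3, 0, 2, 4, 3, 0, 2, 4, 0, 3], [2, 1, 5, 3, 1, 2, 5, 3, 1, 2, 1, 3, 1, 2, 5, 3, 5, 1, 3, 0, 4, 2, 4, 3, 0, 2, 0, 3, 0, 2, 4, 3, 0, 2, 4, 0, 3, 2])) (BT.leaf (38, [5, 2, 1, 5, 3, 1, 2, 5, 3, 1, 2, 1, 3, 1, 2, 5, 3, 5, 1, 4, 0, 4, 2, 4, 3, 0, 2, 0, 3, 0, 2, 4, 3, 0, 2, 4, 0, 3], [2, 1, 5, 3, 1, 2, 5, 3, 1, 2, 1, 3, 1, 2, 5, 3, 5, 1, 5, 0, 4, 2, 4, 3, 0, 2, 0,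 3, 0, 2, 4, 3, 0, 2, 4, 0, 3, 4]))) (BT.node 51 (BT.leaf (38, [1, 1, 5, 1, 3, 3, 5, 1, 3, 3, 1, 5, 1, 2, 2, 5, 1, 2, 2, 0, 3, 3, 0, 4, 3, 3, 0, 4, 0, 2, 2, 0, 4, 2, 2, 0, 4, 0], [1, 5, 1, 3, 3, 5, 1, 3, 3, 1, 5, 1, 2, 2, 5, 1, 2, 2, 1, 3, 3, 0, 4, 3, 3, 0, 4, 0, 2, 2, 0, 4, 2, 2, 0, 4, 0, 0])) (BT.leaf (38, [3, 1, 5, 1, 3, 3, 5, 1, 3, 3, 1, 5, 1, 2, 2, 5, 1, 2, 2, 2, 3, 3, 0, 4, 3, 3, 0, 4, 0, 2, 2, 0, 4, 2, 2, 0, 4, 0], [1, 5, 1, 3, 3, 5, 1, 3, 3, 1, 5, 1, 2, 2, 5, 1, 2, 2, 3, 3, 3, 0, 4, 3, 3, 0, 4, 0, 2, 2, 0, 4, 2, 2, 0, 4, 0, 2])))) (BT.node 54 (BT.node 53 (BT.leaf (38, [5, 1, 5, 1, 3, 3, 5, 1, 3, 3, 1, 5, 1, 2, 2, 5, 1, 2, 2, 4, 3, 3, 0, 4, 3, 3, 0, 4, 0, 2, 2, 0, 4, 2, 2, 0, 4, 0], [1, 5, 1, 3, 3,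 5, 1, 3, 3, 1, 5, 1, 2, 2, 5, 1, 2, 2, 5, 3, 3, 0, 4, 3, 3, 0, 4, 0, 2, 2, 0, 4, 2, 2, 0, 4, 0, 4])) (BT.leaf (42, [1, 2, 1, 5, 3, 1, 5, 3, 1, 5, 1, 2, 1, 5, 2, 1, 5, 3, 1, 5, 1, 0, 0, 4, 0, 2, 4, 0, 3, 4, 0, 3, 0, 4, 0, 2, 4, 0, 2, 4, 0, 3], [2, 1, 5, 3, 1, 5, 3, 1, 5, 1, 2, 1, 5, 2, 1, 5, 3, 1, 5, 1, 1, 0, 4, 0, 2, 4, 0, 3, 4, 0, 3, 0, 4, 0, 2, 4, 0, 2, 4, 0, 3, 0]))) (BT.node 55 (BT.leaf (42, [3, 2, 1, 5, 3, 1, 5, 3, 1, 5, 1, 2, 1, 5, 2, 1, 5, 3, 1, 5, 1, 2, 0, 4, 0, 2, 4, 0, 3, 4, 0, 3, 0, 4, 0, 2, 4, 0, 2, 4, 0, 3], [2, 1, 5, 3, 1, 5, 3, 1, 5, 1, 2, 1, 5, 2, 1, 5, 3, 1, 5, 1, 3, 0, 4, 0, 2, 4, 0, 3, 4, 0, 3, 0, 4, 0, 2, 4, 0, 2, 4, 0, 3, 2])) (BT.leaf (42, [5, 2, 1, 5, 3, 1, 5, 3, 1, 5, 1, 2, 1, 5,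 2, 1, 5, 3, 1, 5, 1, 4, 0, 4, 0, 2, 4, 0, 3, 4, 0, 3, 0, 4, 0, 2, 4, 0, 2, 4, 0, 3], [2, 1, 5, 3, 1, 5, 3, 1, 5, 1, 2, 1, 5, 2, 1, 5, 3, 1, 5, 1, 5, 0, 4, 0, 2, 4, 0, 3, 4, 0, 3, 0, 4, 0, 2, 4, 0, 2, 4, 0, 3, 4]))))) (BT.node 60 (BT.node 58 (BT.node 57 (BT.leaf (42, [1, 2, 1, 5, 3, 3, 1, 3, 3, 1, 2, 2, 1, 2, 2, 1, 2, 2, 5, 1, 2, 0, 3, 0, 4, 3, 3, 0, 3, 3, 0, 3, 3, 0, 2, 2, 0, 2, 2, 4, 0, 3], [2, 1, 5, 3, 3, 1, 3, 3, 1, 2, 2, 1, 2, 2, 1, 2, 2, 5, 1, 2, 1, 3, 0, 4, 3, 3, 0, 3, 3, 0, 3, 3, 0, 2, 2, 0, 2, 2, 4, 0, 3, 0])) (BT.leaf (42, [3, 2, 1, 5, 3, 3, 1, 3, 3, 1, 2, 2, 1, 2, 2, 1, 2, 2, 5, 1, 2, 2, 3, 0, 4, 3, 3, 0, 3, 3, 0, 3, 3, 0, 2, 2, 0, 2, 2, 4, 0, 3], [2, 1, 5, 3, 3, 1, 3, 3, 1, 2, 2, 1, 2, 2, 1, 2,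 2, 5, 1, 2, 3, 3, 0, 4, 3, 3, 0, 3, 3, 0, 3, 3, 0, 2, 2, 0, 2, 2, 4, 0, 3, 2]))) (BT.node 59 (BT.leaf (42, [5, 2, 1, 5, 3, 3, 1, 3, 3, 1, 2, 2, 1, 2, 2, 1, 2, 2, 5, 1, 2, 4, 3, 0, 4, 3, 3, 0, 3, 3, 0, 3, 3, 0, 2, 2, 0, 2, 2, 4, 0, 3], [2, 1, 5, 3, 3, 1, 3, 3, 1, 2, 2, 1, 2, 2, 1, 2, 2, 5, 1, 2, 5, 3, 0, 4, 3, 3, 0, 3, 3, 0, 3, 3, 0, 2, 2, 0, 2, 2, 4, 0, 3, 4])) (BT.leaf (42, [1, 2, 1, 5, 3, 3, 1, 3, 3, 1, 3, 3, 1, 2, 2, 1, 2, 2, 5, 1, 2, 0, 3, 0, 4, 3, 3, 0, 3, 3, 0, 2, 2, 0, 2, 2, 0, 2, 2, 4, 0, 3], [2, 1, 5, 3, 3, 1, 3, 3, 1, 3, 3, 1, 2, 2, 1, 2, 2, 5, 1, 2, 1, 3, 0, 4, 3, 3, 0, 3, 3, 0, 2, 2, 0, 2, 2, 0, 2, 2, 4, 0, 3, 0])))) (BT.node 62 (BT.node 61 (BT.leaf (42, [3, 2, 1, 5, 3, 3, 1, 3, 3, 1, 3, 3, 1,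 2, 2, 1, 2, 2, 5, 1, 2, 2, 3, 0, 4, 3, 3, 0, 3, 3, 0, 2, 2, 0, 2, 2, 0, 2, 2, 4, 0, 3], [2, 1, 5, 3, 3, 1, 3, 3, 1, 3, 3, 1, 2, 2, 1, 2, 2, 5, 1, 2, 3, 3, 0, 4, 3, 3, 0, 3, 3, 0, 2, 2, 0, 2, 2, 0, 2, 2, 4, 0, 3, 2])) (BT.leaf (42, [5, 2, 1, 5, 3, 3, 1, 3, 3, 1, 3, 3, 1, 2, 2, 1, 2, 2, 5, 1, 2, 4, 3, 0, 4, 3, 3, 0, 3, 3, 0, 2, 2, 0, 2, 2, 0, 2, 2, 4, 0, 3], [2, 1, 5, 3, 3, 1, 3, 3, 1, 3, 3, 1, 2, 2, 1, 2, 2, 5, 1, 2, 5, 3, 0, 4, 3, 3, 0, 3, 3, 0, 2, 2, 0, 2, 2, 0, 2, 2, 4, 0, 3, 4]))) (BT.node 63 (BT.leaf (42, [1, 1, 5, 1, 3, 5, 1, 2, 5, 1, 2, 1, 5, 1, 3, 5, 1, 3, 5, 1, 2, 0, 3, 0, 4, 2, 0, 4, 2, 0, 4, 0, 3, 0, 4, 3, 0, 4, 2, 0, 4, 0], [1, 5, 1, 3, 5, 1, 2, 5, 1, 2, 1, 5, 1, 3, 5, 1, 3, 5, 1, 2, 1, 3, 0,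 4, 2, 0, 4, 2, 0, 4, 0, 3, 0, 4, 3, 0, 4, 2, 0, 4, 0, 0])) (BT.leaf (42, [3, 1, 5, 1, 3, 5, 1, 2, 5, 1, 2, 1, 5, 1, 3, 5, 1, 3, 5, 1, 2, 2, 3, 0, 4, 2, 0, 4, 2, 0, 4, 0, 3, 0, 4, 3, 0, 4, 2, 0, 4, 0], [1, 5, 1, 3, 5, 1, 2, 5, 1, 2, 1, 5, 1, 3, 5, 1, 3, 5, 1, 2, 3, 3, 0, 4, 2, 0, 4, 2, 0, 4, 0, 3, 0, 4, 3, 0, 4, 2, 0, 4, 0, 2])))))))) (BT.node 96 (BT.node 80 (BT.node 72 (BT.node 68 (BT.node 66 (BT.node 65 (BT.leaf (42, [5, 1, 5, 1, 3, 5, 1, 2, 5, 1, 2, 1, 5, 1, 3, 5, 1, 3, 5, 1, 2, 4, 3, 0, 4, 2, 0, 4, 2, 0, 4, 0, 3, 0, 4, 3, 0, 4, 2, 0, 4, 0], [1, 5, 1, 3, 5, 1, 2, 5, 1, 2, 1, 5, 1, 3, 5, 1, 3, 5, 1, 2, 5, 3, 0, 4, 2, 0, 4, 2, 0, 4, 0, 3, 0, 4, 3, 0, 4, 2, 0, 4, 0, 4])) (BT.leaf (42, [1, 5, 2, 1, 2, 1, 3,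 1, 2, 1, 2, 5, 3, 1, 3, 1, 2, 1, 3, 1, 3, 0, 2, 0, 2, 0, 3, 0, 2, 0, 2, 4, 3, 0, 3, 0, 2, 0, 3, 0, 3, 4], [5, 2, 1, 2, 1, 3, 1, 2, 1, 2, 5, 3, 1, 3, 1, 2, 1, 3, 1, 3, 1, 2, 0, 2, 0, 3, 0, 2, 0, 2, 4, 3, 0, 3, 0, 2, 0, 3, 0, 3, 4, 0]))) (BT.node 67 (BT.leaf (42, [3, 5, 2, 1, 2, 1, 3, 1, 2, 1, 2, 5, 3, 1, 3, 1, 2, 1, 3, 1, 3, 2, 2, 0, 2, 0, 3, 0, 2, 0, 2, 4, 3, 0, 3, 0, 2, 0, 3, 0, 3, 4], [5, 2, 1, 2, 1, 3, 1, 2, 1, 2, 5, 3, 1, 3, 1, 2, 1, 3, 1, 3, 3, 2, 0, 2, 0, 3, 0, 2, 0, 2, 4, 3, 0, 3, 0, 2, 0, 3, 0, 3, 4, 2])) (BT.leaf (42, [5, 5, 2, 1, 2, 1, 3, 1, 2, 1, 2, 5, 3, 1, 3, 1, 2, 1, 3, 1, 3, 4, 2, 0, 2, 0, 3, 0, 2, 0, 2, 4, 3, 0, 3, 0, 2, 0, 3, 0, 3, 4], [5, 2, 1, 2, 1, 3, 1, 2, 1, 2, 5, 3, 1, 3, 1, 2, 1,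 3, 1, 3, 5, 2, 0, 2, 0, 3, 0, 2, 0, 2, 4, 3, 0, 3, 0, 2, 0, 3, 0, 3, 4, 4])))) (BT.node 70 (BT.node 69 (BT.leaf (42, [1, 5, 2, 1, 2, 1, 5, 2, 5, 2, 5, 3, 5, 2, 5, 2, 1, 5, 2, 5, 3, 0, 2, 4, 3, 4, 0, 3, 4, 3, 4, 2, 4, 3, 4, 3, 4, 0, 3, 0, 3, 4], [5, 2, 1, 2, 1, 5, 2, 5, 2, 5, 3, 5, 2, 5, 2, 1, 5, 2, 5, 3, 1, 2, 4, 3, 4, 0, 3, 4, 3, 4, 2, 4, 3, 4, 3, 4, 0, 3, 0, 3, 4, 0])) (BT.leaf (42, [3, 5, 2, 1, 2, 1, 5, 2, 5, 2, 5, 3, 5, 2, 5, 2, 1, 5, 2, 5, 3, 2, 2, 4, 3, 4, 0, 3, 4, 3, 4, 2, 4, 3, 4, 3, 4, 0, 3, 0, 3, 4], [5, 2, 1, 2, 1, 5, 2, 5, 2, 5, 3, 5, 2, 5, 2, 1, 5, 2, 5, 3, 3, 2, 4, 3, 4, 0, 3, 4, 3, 4, 2, 4, 3, 4, 3, 4, 0, 3, 0, 3, 4, 2]))) (BT.node 71 (BT.leaf (42, [5, 5, 2, 1, 2, 1, 5, 2, 5, 2, 5, 3, 5, 2,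 5, 2, 1, 5, 2, 5, 3, 4, 2, 4, 3, 4, 0, 3, 4, 3, 4, 2, 4, 3, 4, 3, 4, 0, 3, 0, 3, 4], [5, 2, 1, 2, 1, 5, 2, 5, 2, 5, 3, 5, 2, 5, 2, 1, 5, 2, 5, 3, 5, 2, 4, 3, 4, 0, 3, 4, 3, 4, 2, 4, 3, 4, 3, 4, 0, 3, 0, 3, 4, 4])) (BT.leaf (42, [1, 5, 2, 1, 3, 1, 2, 5, 3, 1, 2, 1, 3, 1, 2, 5, 1, 5, 1, 3, 1, 0, 0, 2, 0, 4, 0, 4, 3, 0, 2, 0, 3, 0, 2, 4, 3, 0, 2, 0, 3, 4], [5, 2, 1, 3, 1, 2, 5, 3, 1, 2, 1, 3, 1, 2, 5, 1, 5, 1, 3, 1, 1, 0, 2, 0, 4, 0, 4, 3, 0, 2, 0, 3, 0, 2, 4, 3, 0, 2, 0, 3, 4, 0]))))) (BT.node 76 (BT.node 74 (BT.node 73 (BT.leaf (42, [3, 5, 2, 1, 3, 1, 2, 5, 3, 1, 2, 1, 3, 1, 2, 5, 1, 5, 1, 3, 1, 2, 0, 2, 0, 4, 0, 4, 3, 0, 2, 0, 3, 0, 2, 4, 3, 0, 2, 0, 3, 4], [5, 2, 1, 3, 1, 2, 5, 3, 1, 2, 1, 3, 1, 2, 5, 1,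 5, 1, 3, 1, 3, 0, 2, 0, 4, 0, 4, 3, 0, 2, 0, 3, 0, 2, 4, 3, 0, 2, 0, 3, 4, 2])) (BT.leaf (42, [5, 5, 2, 1, 3, 1, 2, 5, 3, 1, 2, 1, 3, 1, 2, 5, 1, 5, 1, 3, 1, 4, 0, 2, 0, 4, 0, 4, 3, 0, 2, 0, 3, 0, 2, 4, 3, 0, 2, 0, 3, 4], [5, 2, 1, 3, 1, 2, 5, 3, 1, 2, 1, 3, 1, 2, 5, 1, 5, 1, 3, 1, 5, 0, 2, 0, 4, 0, 4, 3, 0, 2, 0, 3, 0, 2, 4, 3, 0, 2, 0, 3, 4, 4]))) (BT.node 75 (BT.leaf (42, [1, 5, 2, 1, 5, 2, 5, 2, 1, 3, 5, 3, 5, 1, 3, 5, 3, 5, 1, 5, 2, 0, 3, 4, 0, 4, 2, 4, 2, 0, 4, 2, 4, 2, 0, 3, 4, 3, 4, 0, 3, 4], [5, 2, 1, 5, 2, 5, 2, 1, 3, 5, 3, 5, 1, 3, 5, 3, 5, 1, 5, 2, 1, 3, 4, 0, 4, 2, 4, 2, 0, 4, 2, 4, 2, 0, 3, 4, 3, 4, 0, 3, 4, 0])) (BT.leaf (42, [3, 5, 2, 1, 5, 2, 5, 2, 1, 3, 5, 3, 5, 1, 3, 5, 3, 5, 1, 5, 2,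 2, 3, 4, 0, 4, 2, 4, 2, 0, 4, 2, 4, 2, 0, 3, 4, 3, 4, 0, 3, 4], [5, 2, 1, 5, 2, 5, 2, 1, 3, 5, 3, 5, 1, 3, 5, 3, 5, 1, 5, 2, 3, 3, 4, 0, 4, 2, 4, 2, 0, 4, 2, 4, 2, 0, 3, 4, 3, 4, 0, 3, 4, 2])))) (BT.node 78 (BT.node 77 (BT.leaf (42, [5, 5, 2, 1, 5, 2, 5, 2, 1, 3, 5, 3, 5, 1, 3, 5, 3, 5, 1, 5, 2, 4, 3, 4, 0, 4, 2, 4, 2, 0, 4, 2, 4, 2, 0, 3, 4, 3, 4, 0, 3, 4], [5, 2, 1, 5, 2, 5, 2, 1, 3, 5, 3, 5, 1, 3, 5, 3, 5, 1, 5, 2, 5, 3, 4, 0, 4, 2, 4, 2, 0, 4, 2, 4, 2, 0, 3, 4, 3, 4, 0, 3, 4, 4])) (BT.leaf (42, [1, 5, 2, 5, 2, 1, 5, 2, 5, 3, 5, 2, 5, 1, 2, 1, 2, 5, 2, 5, 3, 0, 2, 4, 3, 4, 3, 0, 3, 0, 4, 3, 4, 2, 4, 3, 4, 0, 3, 4, 3, 4], [5, 2, 5, 2, 1, 5, 2, 5, 3, 5, 2, 5, 1, 2, 1, 2, 5, 2, 5, 3, 1, 2, 4, 3, 4, 3, 0,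 3, 0, 4, 3, 4, 2, 4, 3, 4, 0, 3, 4, 3, 4, 0]))) (BT.node 79 (BT.leaf (42, [3, 5, 2, 5, 2, 1, 5, 2, 5, 3, 5, 2, 5, 1, 2, 1, 2, 5, 2, 5, 3, 2, 2, 4, 3, 4, 3, 0, 3, 0, 4, 3, 4, 2, 4, 3, 4, 0, 3, 4, 3, 4], [5, 2, 5, 2, 1, 5, 2, 5, 3, 5, 2, 5, 1, 2, 1, 2, 5, 2, 5, 3, 3, 2, 4, 3, 4, 3, 0, 3, 0, 4, 3, 4, 2, 4, 3, 4, 0, 3, 4, 3, 4, 2])) (BT.leaf (42, [5, 5, 2, 5, 2, 1, 5, 2, 5, 3, 5, 2, 5, 1, 2, 1, 2, 5, 2, 5, 3, 4, 2, 4, 3, 4, 3, 0, 3, 0, 4, 3, 4, 2, 4, 3, 4, 0, 3, 4, 3, 4], [5, 2, 5, 2, 1, 5, 2, 5, 3, 5, 2, 5, 1, 2, 1, 2, 5, 2, 5, 3, 5, 2, 4, 3, 4, 3, 0, 3, 0, 4, 3, 4, 2, 4, 3, 4, 0, 3, 4, 3, 4, 4])))))) (BT.node 88 (BT.node 84 (BT.node 82 (BT.node 81 (BT.leaf (42, [1, 5, 2, 5, 2, 5, 2, 5, 2, 5, 2, 5, 2, 5, 2,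 5, 2, 5, 2, 5, 2, 0, 3, 4, 3, 4, 3, 4, 3, 4, 3, 4, 3, 4, 3, 4, 3, 4, 3, 4, 3, 4], [5, 2, 5, 2, 5, 2, 5, 2, 5, 2, 5, 2, 5, 2, 5, 2, 5, 2, 5, 2, 1, 3, 4, 3, 4, 3, 4, 3, 4, 3, 4, 3, 4, 3, 4, 3, 4, 3, 4, 3, 4, 0])) (BT.leaf (42, [3, 5, 2, 5, 2, 5, 2, 5, 2, 5, 2, 5, 2, 5, 2, 5, 2, 5, 2, 5, 2, 2, 3, 4, 3, 4, 3, 4, 3, 4, 3, 4, 3, 4, 3, 4, 3, 4, 3, 4, 3, 4], [5, 2, 5, 2, 5, 2, 5, 2, 5, 2, 5, 2, 5, 2, 5, 2, 5, 2, 5, 2, 3, 3, 4, 3, 4, 3, 4, 3, 4, 3, 4, 3, 4, 3, 4, 3, 4, 3, 4, 3, 4, 2]))) (BT.node 83 (BT.leaf (42, [5, 5, 2, 5, 2, 5, 2, 5, 2, 5, 2, 5, 2, 5, 2, 5, 2, 5, 2, 5, 2, 4, 3, 4, 3, 4, 3, 4, 3, 4, 3, 4, 3, 4, 3, 4, 3, 4, 3, 4, 3, 4], [5, 2, 5, 2, 5, 2, 5, 2, 5, 2, 5, 2, 5, 2, 5, 2, 5, 2, 5, 2, 5, 3, 4, 3, 4,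 3, 4, 3, 4, 3, 4, 3, 4, 3, 4, 3, 4, 3, 4, 3, 4, 4])) (BT.leaf (44, [1, 2, 1, 5, 2, 1, 3, 1, 3, 1, 2, 1, 3, 1, 2, 2, 1, 2, 1, 3, 5, 1, 0, 0, 4, 2, 0, 3, 0, 3, 3, 0, 2, 0, 3, 0, 2, 0, 2, 0, 3, 4, 0, 3], [2, 1, 5, 2, 1, 3, 1, 3, 1, 2, 1, 3, 1, 2, 2, 1, 2, 1, 3, 5, 1, 1, 0, 4, 2, 0, 3, 0, 3, 3, 0, 2, 0, 3, 0, 2, 0, 2, 0, 3, 4, 0, 3, 0])))) (BT.node 86 (BT.node 85 (BT.leaf (44, [3, 2, 1, 5, 2, 1, 3, 1, 3, 1, 2, 1, 3, 1, 2, 2, 1, 2, 1, 3, 5, 1, 2, 0, 4, 2, 0, 3, 0, 3, 3, 0, 2, 0, 3, 0, 2, 0, 2, 0, 3, 4, 0, 3], [2, 1, 5, 2, 1, 3, 1, 3, 1, 2, 1, 3, 1, 2, 2, 1, 2, 1, 3, 5, 1, 3, 0, 4, 2, 0, 3, 0, 3, 3, 0, 2, 0, 3, 0, 2, 0, 2, 0, 3, 4, 0, 3, 2])) (BT.leaf (44, [5, 2, 1, 5, 2, 1, 3, 1, 3, 1, 2, 1, 3, 1, 2, 2, 1, 2,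 1, 3, 5, 1, 4, 0, 4, 2, 0, 3, 0, 3, 3, 0, 2, 0, 3, 0, 2, 0, 2, 0, 3, 4, 0, 3], [2, 1, 5, 2, 1, 3, 1, 3, 1, 2, 1, 3, 1, 2, 2, 1, 2, 1, 3, 5, 1, 5, 0, 4, 2, 0, 3, 0, 3, 3, 0, 2, 0, 3, 0, 2, 0, 2, 0, 3, 4, 0, 3, 4]))) (BT.node 87 (BT.leaf (46, [1, 1, 5, 3, 1, 3, 5, 2, 1, 2, 1, 3, 1, 2, 1, 2, 5, 3, 1, 3, 5, 1, 2, 0, 3, 0, 4, 2, 0, 2, 4, 3, 0, 3, 0, 2, 0, 3, 0, 3, 4, 2, 0, 2, 4, 0], [1, 5, 3, 1, 3, 5, 2, 1, 2, 1, 3, 1, 2, 1, 2, 5, 3, 1, 3, 5, 1, 2, 1, 3, 0, 4, 2, 0, 2, 4, 3, 0, 3, 0, 2, 0, 3, 0, 3, 4, 2, 0, 2, 4, 0, 0])) (BT.leaf (46, [3, 1, 5, 3, 1, 3, 5, 2, 1, 2, 1, 3, 1, 2, 1, 2, 5, 3, 1, 3, 5, 1, 2, 2, 3, 0, 4, 2, 0, 2, 4, 3, 0, 3, 0, 2, 0, 3, 0, 3, 4, 2, 0, 2, 4, 0], [1, 5, 3, 1, 3, 5, 2, 1, 2, 1, 3, 1,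 2, 1, 2, 5, 3, 1, 3, 5, 1, 2, 3, 3, 0, 4, 2, 0, 2, 4, 3, 0, 3, 0, 2, 0, 3, 0, 3, 4, 2, 0, 2, 4, 0, 2]))))) (BT.node 92 (BT.node 90 (BT.node 89 (BT.leaf (46, [5, 1, 5, 3, 1, 3, 5, 2, 1, 2, 1, 3, 1, 2, 1, 2, 5, 3, 1, 3, 5, 1, 2, 4, 3, 0, 4, 2, 0, 2, 4, 3, 0, 3, 0, 2, 0, 3, 0, 3, 4, 2, 0, 2, 4, 0], [1, 5, 3, 1, 3, 5, 2, 1, 2, 1, 3, 1, 2, 1, 2, 5, 3, 1, 3, 5, 1, 2, 5, 3, 0, 4, 2, 0, 2, 4, 3, 0, 3, 0, 2, 0, 3, 0, 3, 4, 2, 0, 2, 4, 0, 4])) (BT.leaf (46, [1, 5, 2, 1, 2, 1, 2, 2, 2, 1, 2, 1, 2, 5, 3, 1, 3, 1, 2, 1, 3, 1, 3, 0, 2, 0, 2, 0, 3, 0, 2, 0, 2, 4, 3, 0, 3, 0, 3, 3, 3, 0, 3, 0, 3, 4], [5, 2, 1, 2, 1, 2, 2, 2, 1, 2, 1, 2, 5, 3, 1, 3, 1, 2, 1, 3, 1, 3, 1, 2, 0, 2, 0, 3, 0, 2, 0, 2, 4, 3, 0, 3, 0, 3, 3, 3,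 0, 3, 0, 3, 4, 0]))) (BT.node 91 (BT.leaf (46, [3, 5, 2, 1, 2, 1, 2, 2, 2, 1, 2, 1, 2, 5, 3, 1, 3, 1, 2, 1, 3, 1, 3, 2, 2, 0, 2, 0, 3, 0, 2, 0, 2, 4, 3, 0, 3, 0, 3, 3, 3, 0, 3, 0, 3, 4], [5, 2, 1, 2, 1, 2, 2, 2, 1, 2, 1, 2, 5, 3, 1, 3, 1, 2, 1, 3, 1, 3, 3, 2, 0, 2, 0, 3, 0, 2, 0, 2, 4, 3, 0, 3, 0, 3, 3, 3, 0, 3, 0, 3, 4, 2])) (BT.leaf (46, [5, 5, 2, 1, 2, 1, 2, 2, 2, 1, 2, 1, 2, 5, 3, 1, 3, 1, 2, 1, 3, 1, 3, 4, 2, 0, 2, 0, 3, 0, 2, 0, 2, 4, 3, 0, 3, 0, 3, 3, 3, 0, 3, 0, 3, 4], [5, 2, 1, 2, 1, 2, 2, 2, 1, 2, 1, 2, 5, 3, 1, 3, 1, 2, 1, 3, 1, 3, 5, 2, 0, 2, 0, 3, 0, 2, 0, 2, 4, 3, 0, 3, 0, 3, 3, 3, 0, 3, 0, 3, 4, 4])))) (BT.node 94 (BT.node 93 (BT.leaf (46, [1, 5, 2, 1, 2, 1, 5, 3, 3, 5, 3, 5, 2, 5, 3, 5, 2,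 2, 1, 5, 2, 5, 3, 0, 2, 4, 3, 4, 0, 3, 3, 4, 2, 4, 3, 4, 2, 4, 2, 2, 4, 0, 3, 0, 3, 4], [5, 2, 1, 2, 1, 5, 3, 3, 5, 3, 5, 2, 5, 3, 5, 2, 2, 1, 5, 2, 5, 3, 1, 2, 4, 3, 4, 0, 3, 3, 4, 2, 4, 3, 4, 2, 4, 2, 2, 4, 0, 3, 0, 3, 4, 0])) (BT.leaf (46, [3, 5, 2, 1, 2, 1, 5, 3, 3, 5, 3, 5, 2, 5, 3, 5, 2, 2, 1, 5, 2, 5, 3, 2, 2, 4, 3, 4, 0, 3, 3, 4, 2, 4, 3, 4, 2, 4, 2, 2, 4, 0, 3, 0, 3, 4], [5, 2, 1, 2, 1, 5, 3, 3, 5, 3, 5, 2, 5, 3, 5, 2, 2, 1, 5, 2, 5, 3, 3, 2, 4, 3, 4, 0, 3, 3, 4, 2, 4, 3, 4, 2, 4, 2, 2, 4, 0, 3, 0, 3, 4, 2]))) (BT.node 95 (BT.leaf (46, [5, 5, 2, 1, 2, 1, 5, 3, 3, 5, 3, 5, 2, 5, 3, 5, 2, 2, 1, 5, 2, 5, 3, 4, 2, 4, 3, 4, 0, 3, 3, 4, 2, 4, 3, 4, 2, 4, 2, 2, 4, 0, 3, 0, 3, 4], [5, 2, 1, 2, 1, 5, 3,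 3, 5, 3, 5, 2, 5, 3, 5, 2, 2, 1, 5, 2, 5, 3, 5, 2, 4, 3, 4, 0, 3, 3, 4, 2, 4, 3, 4, 2, 4, 2, 2, 4, 0, 3, 0, 3, 4, 4])) (BT.leaf (46, [1, 5, 2, 1, 3, 5, 3, 5, 1, 3, 5, 3, 5, 1, 5, 2, 5, 1, 5, 1, 2, 1, 2, 0, 3, 0, 3, 0, 4, 0, 4, 3, 4, 0, 4, 2, 4, 2, 0, 4, 2, 4, 2, 0, 3, 4], [5, 2, 1, 3, 5, 3, 5, 1, 3, 5, 3, 5, 1, 5, 2, 5, 1, 5, 1, 2, 1, 2, 1, 3, 0, 3, 0, 4, 0, 4, 3, 4, 0, 4, 2, 4, 2, 0, 4, 2, 4, 2, 0, 3, 4, 0]))))))) (BT.node 112 (BT.node 104 (BT.node 100 (BT.node 98 (BT.node 97 (BT.leaf (46, [3, 5, 2, 1, 3, 5, 3, 5, 1, 3, 5, 3, 5, 1, 5, 2, 5, 1, 5, 1, 2, 1, 2, 2, 3, 0, 3, 0, 4, 0, 4, 3, 4, 0, 4, 2, 4, 2, 0, 4, 2, 4, 2, 0, 3, 4], [5, 2, 1, 3, 5, 3, 5, 1, 3, 5, 3, 5, 1, 5, 2, 5, 1, 5, 1, 2, 1, 2, 3, 3, 0, 3,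 0, 4, 0, 4, 3, 4, 0, 4, 2, 4, 2, 0, 4, 2, 4, 2, 0, 3, 4, 2])) (BT.leaf (46, [5, 5, 2, 1, 3, 5, 3, 5, 1, 3, 5, 3, 5, 1, 5, 2, 5, 1, 5, 1, 2, 1, 2, 4, 3, 0, 3, 0, 4, 0, 4, 3, 4, 0, 4, 2, 4, 2, 0, 4, 2, 4, 2, 0, 3, 4], [5, 2, 1, 3, 5, 3, 5, 1, 3, 5, 3, 5, 1, 5, 2, 5, 1, 5, 1, 2, 1, 2, 5, 3, 0, 3, 0, 4, 0, 4, 3, 4, 0, 4, 2, 4, 2, 0, 4, 2, 4, 2, 0, 3, 4, 4]))) (BT.node 99 (BT.leaf (46, [1, 5, 2, 5, 2, 1, 2, 5, 3, 5, 2, 5, 3, 5, 2, 1, 2, 1, 2, 5, 2, 5, 3, 0, 2, 4, 3, 4, 3, 0, 3, 0, 3, 4, 2, 4, 3, 4, 2, 4, 3, 0, 3, 4, 3, 4], [5, 2, 5, 2, 1, 2, 5, 3, 5, 2, 5, 3, 5, 2, 1, 2, 1, 2, 5, 2, 5, 3, 1, 2, 4, 3, 4, 3, 0, 3, 0, 3, 4, 2, 4, 3, 4, 2, 4, 3, 0, 3, 4, 3, 4, 0])) (BT.leaf (46, [3, 5, 2, 5, 2, 1, 2, 5, 3, 5, 2,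 5, 3, 5, 2, 1, 2, 1, 2, 5, 2, 5, 3, 2, 2, 4, 3, 4, 3, 0, 3, 0, 3, 4, 2, 4, 3, 4, 2, 4, 3, 0, 3, 4, 3, 4], [5, 2, 5, 2, 1, 2, 5, 3, 5, 2, 5, 3, 5, 2, 1, 2, 1, 2, 5, 2, 5, 3, 3, 2, 4, 3, 4, 3, 0, 3, 0, 3, 4, 2, 4, 3, 4, 2, 4, 3, 0, 3, 4, 3, 4, 2])))) (BT.node 102 (BT.node 101 (BT.leaf (46, [5, 5, 2, 5, 2, 1, 2, 5, 3, 5, 2, 5, 3, 5, 2, 1, 2, 1, 2, 5, 2, 5, 3, 4, 2, 4, 3, 4, 3, 0, 3, 0, 3, 4, 2, 4, 3, 4, 2, 4, 3, 0, 3, 4, 3, 4], [5, 2, 5, 2, 1, 2, 5, 3, 5, 2, 5, 3, 5, 2, 1, 2, 1, 2, 5, 2, 5, 3, 5, 2, 4, 3, 4, 3, 0, 3, 0, 3, 4, 2, 4, 3, 4, 2, 4, 3, 0, 3, 4, 3, 4, 4])) (BT.leaf (46, [1, 5, 2, 5, 2, 5, 2, 5, 2, 5, 3, 3, 3, 5, 2, 5, 2, 5, 2, 5, 2, 5, 2, 0, 3, 4, 3, 4, 3, 4, 3, 4, 3, 4, 2, 2, 2, 4, 3, 4, 3, 4, 3,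 4, 3, 4], [5, 2, 5, 2, 5, 2, 5, 2, 5, 3, 3, 3, 5, 2, 5, 2, 5, 2, 5, 2, 5, 2, 1, 3, 4, 3, 4, 3, 4, 3, 4, 3, 4, 2, 2, 2, 4, 3, 4, 3, 4, 3, 4, 3, 4, 0]))) (BT.node 103 (BT.leaf (46, [3, 5, 2, 5, 2, 5, 2, 5, 2, 5, 3, 3, 3, 5, 2, 5, 2, 5, 2, 5, 2, 5, 2, 2, 3, 4, 3, 4, 3, 4, 3, 4, 3, 4, 2, 2, 2, 4, 3, 4, 3, 4, 3, 4, 3, 4], [5, 2, 5, 2, 5, 2, 5, 2, 5, 3, 3, 3, 5, 2, 5, 2, 5, 2, 5, 2, 5, 2, 3, 3, 4, 3, 4, 3, 4, 3, 4, 3, 4, 2, 2, 2, 4, 3, 4, 3, 4, 3, 4, 3, 4, 2])) (BT.leaf (46, [5, 5, 2, 5, 2, 5, 2, 5, 2, 5, 3, 3, 3, 5, 2, 5, 2, 5, 2, 5, 2, 5, 2, 4, 3, 4, 3, 4, 3, 4, 3, 4, 3, 4, 2, 2, 2, 4, 3, 4, 3, 4, 3, 4, 3, 4], [5, 2, 5, 2, 5, 2, 5, 2, 5, 3, 3, 3, 5, 2, 5, 2, 5, 2, 5, 2, 5, 2, 5, 3, 4, 3, 4, 3, 4, 3, 4, 3, 4,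 2, 2, 2, 4, 3, 4, 3, 4, 3, 4, 3, 4, 4]))))) (BT.node 108 (BT.node 106 (BT.node 105 (BT.leaf (48, [1, 5, 2, 1, 2, 1, 5, 3, 1, 3, 1, 2, 1, 3, 1, 3, 5, 3, 1, 2, 5, 1, 3, 1, 0, 0, 2, 0, 4, 3, 0, 2, 4, 2, 0, 2, 0, 3, 0, 2, 0, 2, 4, 0, 3, 0, 3, 4], [5, 2, 1, 2, 1, 5, 3, 1, 3, 1, 2, 1, 3, 1, 3, 5, 3, 1, 2, 5, 1, 3, 1, 1, 0, 2, 0, 4, 3, 0, 2, 4, 2, 0, 2, 0, 3, 0, 2, 0, 2, 4, 0, 3, 0, 3, 4, 0])) (BT.leaf (48, [3, 5, 2, 1, 2, 1, 5, 3, 1, 3, 1, 2, 1, 3, 1, 3, 5, 3, 1, 2, 5, 1, 3, 1, 2, 0, 2, 0, 4, 3, 0, 2, 4, 2, 0, 2, 0, 3, 0, 2, 0, 2, 4, 0, 3, 0, 3, 4], [5, 2, 1, 2, 1, 5, 3, 1, 3, 1, 2, 1, 3, 1, 3, 5, 3, 1, 2, 5, 1, 3, 1, 3, 0, 2, 0, 4, 3, 0, 2, 4, 2, 0, 2, 0, 3, 0, 2, 0, 2, 4, 0, 3, 0, 3, 4, 2]))) (BT.node 107 (BT.leaf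 (48, [5, 5, 2, 1, 2, 1, 5, 3, 1, 3, 1, 2, 1, 3, 1, 3, 5, 3, 1, 2, 5, 1, 3, 1, 4, 0, 2, 0, 4, 3, 0, 2, 4, 2, 0, 2, 0, 3, 0, 2, 0, 2, 4, 0, 3, 0, 3, 4], [5, 2, 1, 2, 1, 5, 3, 1, 3, 1, 2, 1, 3, 1, 3, 5, 3, 1, 2, 5, 1, 3, 1, 5, 0, 2, 0, 4, 3, 0, 2, 4, 2, 0, 2, 0, 3, 0, 2, 0, 2, 4, 0, 3, 0, 3, 4, 4])) (BT.leaf (48, [1, 5, 2, 1, 5, 2, 1, 5, 2, 1, 5, 2, 1, 5, 2, 1, 5, 1, 5, 1, 2, 1, 2, 1, 0, 0, 3, 0, 3, 0, 4, 0, 4, 0, 3, 4, 0, 3, 4, 0, 3, 4, 0, 3, 4, 0, 3, 4], [5, 2, 1, 5, 2, 1, 5, 2, 1, 5, 2, 1, 5, 2, 1, 5, 1, 5, 1, 2, 1, 2, 1, 1, 0, 3, 0, 3, 0, 4, 0, 4, 0, 3, 4, 0, 3, 4, 0, 3, 4, 0, 3, 4, 0, 3, 4, 0])))) (BT.node 110 (BT.node 109 (BT.leaf (48, [3, 5, 2, 1, 5, 2, 1, 5, 2, 1, 5, 2, 1, 5, 2, 1, 5, 1, 5, 1, 2, 1,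 2, 1, 2, 0, 3, 0, 3, 0, 4, 0, 4, 0, 3, 4, 0, 3, 4, 0, 3, 4, 0, 3, 4, 0, 3, 4], [5, 2, 1, 5, 2, 1, 5, 2, 1, 5, 2, 1, 5, 2, 1, 5, 1, 5, 1, 2, 1, 2, 1, 3, 0, 3, 0, 3, 0, 4, 0, 4, 0, 3, 4, 0, 3, 4, 0, 3, 4, 0, 3, 4, 0, 3, 4, 2])) (BT.leaf (48, [5, 5, 2, 1, 5, 2, 1, 5, 2, 1, 5, 2, 1, 5, 2, 1, 5, 1, 5, 1, 2, 1, 2, 1, 4, 0, 3, 0, 3, 0, 4, 0, 4, 0, 3, 4, 0, 3, 4, 0, 3, 4, 0, 3, 4, 0, 3, 4], [5, 2, 1, 5, 2, 1, 5, 2, 1, 5, 2, 1, 5, 2, 1, 5, 1, 5, 1, 2, 1, 2, 1, 5, 0, 3, 0, 3, 0, 4, 0, 4, 0, 3, 4, 0, 3, 4, 0, 3, 4, 0, 3, 4, 0, 3, 4, 4]))) (BT.node 111 (BT.leaf (48, [1, 5, 1, 5, 1, 2, 5, 1, 2, 5, 1, 2, 5, 1, 2, 5, 1, 2, 5, 1, 2, 1, 2, 1, 0, 0, 3, 0, 3, 0, 4, 3, 0, 4, 3, 0, 4, 3, 0, 4, 3, 0, 4, 3, 0, 4, 0, 4], [5, 1,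 5, 1, 2, 5, 1, 2, 5, 1, 2, 5, 1, 2, 5, 1, 2, 5, 1, 2, 1, 2, 1, 1, 0, 3, 0, 3, 0, 4, 3, 0, 4, 3, 0, 4, 3, 0, 4, 3, 0, 4, 3, 0, 4, 0, 4, 0])) (BT.leaf (48, [3, 5, 1, 5, 1, 2, 5, 1, 2, 5, 1, 2, 5, 1, 2, 5, 1, 2, 5, 1, 2, 1, 2, 1, 2, 0, 3, 0, 3, 0, 4, 3, 0, 4, 3, 0, 4, 3, 0, 4, 3, 0, 4, 3, 0, 4, 0, 4], [5, 1, 5, 1, 2, 5, 1, 2, 5, 1, 2, 5, 1, 2, 5, 1, 2, 5, 1, 2, 1, 2, 1, 3, 0, 3, 0, 3, 0, 4, 3, 0, 4, 3, 0, 4, 3, 0, 4, 3, 0, 4, 3, 0, 4, 0, 4, 2])))))) (BT.node 120 (BT.node 116 (BT.node 114 (BT.node 113 (BT.leaf (48, [5, 5, 1, 5, 1, 2, 5, 1, 2, 5, 1, 2, 5, 1, 2, 5, 1, 2, 5, 1, 2, 1, 2, 1, 4, 0, 3, 0, 3, 0, 4, 3, 0, 4, 3, 0, 4, 3, 0, 4, 3, 0, 4, 3, 0, 4, 0, 4], [5, 1, 5, 1, 2, 5, 1, 2, 5, 1, 2, 5, 1, 2, 5, 1, 2,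 5, 1, 2, 1, 2, 1, 5, 0, 3, 0, 3, 0, 4, 3, 0, 4, 3, 0, 4, 3, 0, 4, 3, 0, 4, 3, 0, 4, 0, 4, 4])) (BT.leaf (48, [1, 5, 1, 5, 1, 5, 1, 5, 1, 5, 1, 5, 2, 1, 3, 1, 2, 1, 3, 1, 2, 1, 3, 1, 0, 0, 2, 0, 3, 0, 2, 0, 3, 0, 2, 0, 3, 4, 0, 4, 0, 4, 0, 4, 0, 4, 0, 4], [5, 1, 5, 1, 5, 1, 5, 1, 5, 1, 5, 2, 1, 3, 1, 2, 1, 3, 1, 2, 1, 3, 1, 1, 0, 2, 0, 3, 0, 2, 0, 3, 0, 2, 0, 3, 4, 0, 4, 0, 4, 0, 4, 0, 4, 0, 4, 0]))) (BT.node 115 (BT.leaf (48, [3, 5, 1, 5, 1, 5, 1, 5, 1, 5, 1, 5, 2, 1, 3, 1, 2, 1, 3, 1, 2, 1, 3, 1, 2, 0, 2, 0, 3, 0, 2, 0, 3, 0, 2, 0, 3, 4, 0, 4, 0, 4, 0, 4, 0, 4, 0, 4], [5, 1, 5, 1, 5, 1, 5, 1, 5, 1, 5, 2, 1, 3, 1, 2, 1, 3, 1, 2, 1, 3, 1, 3, 0, 2, 0, 3, 0, 2, 0, 3, 0, 2, 0, 3, 4, 0, 4, 0, 4, 0, 4, 0, 4, 0,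 4, 2])) (BT.leaf (48, [5, 5, 1, 5, 1, 5, 1, 5, 1, 5, 1, 5, 2, 1, 3, 1, 2, 1, 3, 1, 2, 1, 3, 1, 4, 0, 2, 0, 3, 0, 2, 0, 3, 0, 2, 0, 3, 4, 0, 4, 0, 4, 0, 4, 0, 4, 0, 4], [5, 1, 5, 1, 5, 1, 5, 1, 5, 1, 5, 2, 1, 3, 1, 2, 1, 3, 1, 2, 1, 3, 1, 5, 0, 2, 0, 3, 0, 2, 0, 3, 0, 2, 0, 3, 4, 0, 4, 0, 4, 0, 4, 0, 4, 0, 4, 4])))) (BT.node 118 (BT.node 117 (BT.leaf (48, [1, 5, 3, 3, 5, 3, 5, 3, 1, 2, 1, 5, 3, 1, 5, 2, 5, 2, 5, 2, 2, 5, 2, 2, 0, 3, 3, 4, 3, 3, 4, 3, 4, 3, 4, 0, 2, 4, 0, 3, 0, 2, 4, 2, 4, 2, 2, 4], [5, 3, 3, 5, 3, 5, 3, 1, 2, 1, 5, 3, 1, 5, 2, 5, 2, 5, 2, 2, 5, 2, 2, 1, 3, 3, 4, 3, 3, 4, 3, 4, 3, 4, 0, 2, 4, 0, 3, 0, 2, 4, 2, 4, 2, 2, 4, 0])) (BT.leaf (48, [3, 5, 3, 3, 5, 3, 5, 3, 1, 2, 1, 5, 3, 1, 5, 2,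 5, 2, 5, 2, 2, 5, 2, 2, 2, 3, 3, 4, 3, 3, 4, 3, 4, 3, 4, 0, 2, 4, 0, 3, 0, 2, 4, 2, 4, 2, 2, 4], [5, 3, 3, 5, 3, 5, 3, 1, 2, 1, 5, 3, 1, 5, 2, 5, 2, 5, 2, 2, 5, 2, 2, 3, 3, 3, 4, 3, 3, 4, 3, 4, 3, 4, 0, 2, 4, 0, 3, 0, 2, 4, 2, 4, 2, 2, 4, 2]))) (BT.node 119 (BT.leaf (48, [5, 5, 3, 3, 5, 3, 5, 3, 1, 2, 1, 5, 3, 1, 5, 2, 5, 2, 5, 2, 2, 5, 2, 2, 4, 3, 3, 4, 3, 3, 4, 3, 4, 3, 4, 0, 2, 4, 0, 3, 0, 2, 4, 2, 4, 2, 2, 4], [5, 3, 3, 5, 3, 5, 3, 1, 2, 1, 5, 3, 1, 5, 2, 5, 2, 5, 2, 2, 5, 2, 2, 5, 3, 3, 4, 3, 3, 4, 3, 4, 3, 4, 0, 2, 4, 0, 3, 0, 2, 4, 2, 4, 2, 2, 4, 4])) (BT.leaf (48, [1, 5, 3, 3, 5, 3, 5, 3, 5, 1, 2, 1, 3, 1, 5, 2, 5, 2, 5, 2, 2, 5, 2, 2, 0, 3, 3, 4, 3, 3, 4, 3, 4, 3, 4, 0, 2, 0, 3, 0, 4, 2, 4, 2, 4,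 2, 2, 4], [5, 3, 3, 5, 3, 5, 3, 5, 1, 2, 1, 3, 1, 5, 2, 5, 2, 5, 2, 2, 5, 2, 2, 1, 3, 3, 4, 3, 3, 4, 3, 4, 3, 4, 0, 2, 0, 3, 0, 4, 2, 4, 2, 4, 2, 2, 4, 0]))))) (BT.node 124 (BT.node 122 (BT.node 121 (BT.leaf (48, [3, 5, 3, 3, 5, 3, 5, 3, 5, 1, 2, 1, 3, 1, 5, 2, 5, 2, 5, 2, 2, 5, 2, 2, 2, 3, 3, 4, 3, 3, 4, 3, 4, 3, 4, 0, 2, 0, 3, 0, 4, 2, 4, 2, 4, 2, 2, 4], [5, 3, 3, 5, 3, 5, 3, 5, 1, 2, 1, 3, 1, 5, 2, 5, 2, 5, 2, 2, 5, 2, 2, 3, 3, 3, 4, 3, 3, 4, 3, 4, 3, 4, 0, 2, 0, 3, 0, 4, 2, 4, 2, 4, 2, 2, 4, 2])) (BT.leaf (48, [5, 5, 3, 3, 5, 3, 5, 3, 5, 1, 2, 1, 3, 1, 5, 2, 5, 2, 5, 2, 2, 5, 2, 2, 4, 3, 3, 4, 3, 3, 4, 3, 4, 3, 4, 0, 2, 0, 3, 0, 4, 2, 4, 2, 4, 2, 2, 4], [5, 3, 3, 5, 3, 5, 3, 5, 1, 2, 1, 3, 1, 5, 2, 5,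 2, 5, 2, 2, 5, 2, 2, 5, 3, 3, 4, 3, 3, 4, 3, 4, 3, 4, 0, 2, 0, 3, 0, 4, 2, 4, 2, 4, 2, 2, 4, 4]))) (BT.node 123 (BT.leaf (48, [1, 5, 3, 3, 5, 3, 5, 3, 5, 1, 2, 5, 1, 3, 1, 2, 5, 2, 5, 2, 2, 5, 2, 2, 0, 3, 3, 4, 3, 3, 4, 3, 4, 3, 0, 2, 0, 4, 3, 0, 4, 2, 4, 2, 4, 2, 2, 4], [5, 3, 3, 5, 3, 5, 3, 5, 1, 2, 5, 1, 3, 1, 2, 5, 2, 5, 2, 2, 5, 2, 2, 1, 3, 3, 4, 3, 3, 4, 3, 4, 3, 0, 2, 0, 4, 3, 0, 4, 2, 4, 2, 4, 2, 2, 4, 0])) (BT.leaf (48, [3, 5, 3, 3, 5, 3, 5, 3, 5, 1, 2, 5, 1, 3, 1, 2, 5, 2, 5, 2, 2, 5, 2, 2, 2, 3, 3, 4, 3, 3, 4, 3, 4, 3, 0, 2, 0, 4, 3, 0, 4, 2, 4, 2, 4, 2, 2, 4], [5, 3, 3, 5, 3, 5, 3, 5, 1, 2, 5, 1, 3, 1, 2, 5, 2, 5, 2, 2, 5, 2, 2, 3, 3, 3, 4, 3, 3, 4, 3, 4, 3, 0, 2, 0, 4, 3, 0, 4, 2, 4, 2, 4, 2,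 2, 4, 2])))) (BT.node 126 (BT.node 125 (BT.leaf (48, [5, 5, 3, 3, 5, 3, 5, 3, 5, 1, 2, 5, 1, 3, 1, 2, 5, 2, 5, 2, 2, 5, 2, 2, 4, 3, 3, 4, 3, 3, 4, 3, 4, 3, 0, 2, 0, 4, 3, 0, 4, 2, 4, 2, 4, 2, 2, 4], [5, 3, 3, 5, 3, 5, 3, 5, 1, 2, 5, 1, 3, 1, 2, 5, 2, 5, 2, 2, 5, 2, 2, 5, 3, 3, 4, 3, 3, 4, 3, 4, 3, 0, 2, 0, 4, 3, 0, 4, 2, 4, 2, 4, 2, 2, 4, 4])) (BT.leaf (50, [1, 5, 2, 1, 2, 5, 3, 3, 1, 2, 5, 2, 2, 5, 1, 5, 2, 2, 1, 2, 2, 5, 2, 1, 3, 0, 2, 0, 3, 4, 3, 3, 0, 3, 3, 4, 0, 4, 3, 3, 4, 3, 0, 2, 2, 4, 3, 0, 3, 4], [5, 2, 1, 2, 5, 3, 3, 1, 2, 5, 2, 2, 5, 1, 5, 2, 2, 1, 2, 2, 5, 2, 1, 3, 1, 2, 0, 3, 4, 3, 3, 0, 3, 3, 4, 0, 4, 3, 3, 4, 3, 0, 2, 2, 4, 3, 0, 3, 4, 0]))) (BT.node 127 (BT.leaf (50, [3, 5, 2, 1, 2, 5, 3,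 3, 1, 2, 5, 2, 2, 5, 1, 5, 2, 2, 1, 2, 2, 5, 2, 1, 3, 2, 2, 0, 3, 4, 3, 3, 0, 3, 3, 4, 0, 4, 3, 3, 4, 3, 0, 2, 2, 4, 3, 0, 3, 4], [5, 2, 1, 2, 5, 3, 3, 1, 2, 5, 2, 2, 5, 1, 5, 2, 2, 1, 2, 2, 5, 2, 1, 3, 3, 2, 0, 3, 4, 3, 3, 0, 3, 3, 4, 0, 4, 3, 3, 4, 3, 0, 2, 2, 4, 3, 0, 3, 4, 2])) (BT.leaf (50, [5, 5, 2, 1, 2, 5, 3, 3, 1, 2, 5, 2, 2, 5, 1, 5, 2, 2, 1, 2, 2, 5, 2, 1, 3, 4, 2, 0, 3, 4, 3, 3, 0, 3, 3, 4, 0, 4, 3, 3, 4, 3, 0, 2, 2, 4, 3, 0, 3, 4], [5, 2, 1, 2, 5, 3, 3, 1, 2, 5, 2, 2, 5, 1, 5, 2, 2, 1, 2, 2, 5, 2, 1, 3, 5, 2, 0, 3, 4, 3, 3, 0, 3, 3, 4, 0, 4, 3, 3, 4, 3, 0, 2, 2, 4, 3, 0, 3, 4, 4]))))))))) (BT.node 193 (BT.node 161 (BT.node 145 (BT.node 137 (BT.node 133 (BT.node 131 (BT.node 130 (BT.node 129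 (BT.leaf (50, [1, 5, 2, 1, 2, 5, 3, 3, 1, 2, 5, 3, 3, 5, 1, 5, 2, 2, 1, 2, 2, 5, 2, 1, 3, 0, 2, 0, 3, 4, 3, 3, 0, 3, 3, 4, 0, 4, 2, 2, 4, 3, 0, 2, 2, 4, 3, 0, 3, 4], [5, 2, 1, 2, 5, 3, 3, 1, 2, 5, 3, 3, 5, 1, 5, 2, 2, 1, 2, 2, 5, 2, 1, 3, 1, 2, 0, 3, 4, 3, 3, 0, 3, 3, 4, 0, 4, 2, 2, 4, 3, 0, 2, 2, 4, 3, 0, 3, 4, 0])) (BT.leaf (50, [3, 5, 2, 1, 2, 5, 3, 3, 1, 2, 5, 3, 3, 5, 1, 5, 2, 2, 1, 2, 2, 5, 2, 1, 3, 2, 2, 0, 3, 4, 3, 3, 0, 3, 3, 4, 0, 4, 2, 2, 4, 3, 0, 2, 2, 4, 3, 0, 3, 4], [5, 2, 1, 2, 5, 3, 3, 1, 2, 5, 3, 3, 5, 1, 5, 2, 2, 1, 2, 2, 5, 2, 1, 3, 3, 2, 0, 3, 4, 3, 3, 0, 3, 3, 4, 0, 4, 2, 2, 4, 3, 0, 2, 2, 4, 3, 0, 3, 4, 2]))) (BT.leaf (50, [5, 5, 2, 1, 2, 5, 3, 3, 1, 2, 5, 3, 3, 5, 1, 5, 2, 2, 1, 2,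 2, 5, 2, 1, 3, 4, 2, 0, 3, 4, 3, 3, 0, 3, 3, 4, 0, 4, 2, 2, 4, 3, 0, 2, 2, 4, 3, 0, 3, 4], [5, 2, 1, 2, 5, 3, 3, 1, 2, 5, 3, 3, 5, 1, 5, 2, 2, 1, 2, 2, 5, 2, 1, 3, 5, 2, 0, 3, 4, 3, 3, 0, 3, 3, 4, 0, 4, 2, 2, 4, 3, 0, 2, 2, 4, 3, 0, 3, 4, 4]))) (BT.node 132 (BT.leaf (50, [1, 5, 2, 1, 3, 1, 2, 1, 3, 1, 2, 1, 3, 5, 2, 1, 3, 1, 2, 1, 3, 1, 2, 1, 3, 0, 2, 0, 3, 0, 2, 0, 3, 0, 2, 0, 3, 4, 2, 0, 3, 0, 2, 0, 3, 0, 2, 0, 3, 4], [5, 2, 1, 3, 1, 2, 1, 3, 1, 2, 1, 3, 5, 2, 1, 3, 1, 2, 1, 3, 1, 2, 1, 3, 1, 2, 0, 3, 0, 2, 0, 3, 0, 2, 0, 3, 4, 2, 0, 3, 0, 2, 0, 3, 0, 2, 0, 3, 4, 0])) (BT.leaf (50, [3, 5, 2, 1, 3, 1, 2, 1, 3, 1, 2, 1, 3, 5, 2, 1, 3, 1, 2, 1, 3, 1, 2, 1, 3, 2, 2, 0, 3, 0, 2, 0, 3, 0, 2, 0, 3, 4, 2, 0, 3,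 0, 2, 0, 3, 0, 2, 0, 3, 4], [5, 2, 1, 3, 1, 2, 1, 3, 1, 2, 1, 3, 5, 2, 1, 3, 1, 2, 1, 3, 1, 2, 1, 3, 3, 2, 0, 3, 0, 2, 0, 3, 0, 2, 0, 3, 4, 2, 0, 3, 0, 2, 0, 3, 0, 2, 0, 3, 4, 2])))) (BT.node 135 (BT.node 134 (BT.leaf (50, [5, 5, 2, 1, 3, 1, 2, 1, 3, 1, 2, 1, 3, 5, 2, 1, 3, 1, 2, 1, 3, 1, 2, 1, 3, 4, 2, 0, 3, 0, 2, 0, 3, 0, 2, 0, 3, 4, 2, 0, 3, 0, 2, 0, 3, 0, 2, 0, 3, 4], [5, 2, 1, 3, 1, 2, 1, 3, 1, 2, 1, 3, 5, 2, 1, 3, 1, 2, 1, 3, 1, 2, 1, 3, 5, 2, 0, 3, 0, 2, 0, 3, 0, 2, 0, 3, 4, 2, 0, 3, 0, 2, 0, 3, 0, 2, 0, 3, 4, 4])) (BT.leaf (50, [1, 5, 2, 1, 3, 3, 1, 5, 3, 3, 5, 3, 5, 1, 5, 2, 5, 2, 5, 2, 5, 3, 1, 2, 1, 0, 0, 3, 0, 2, 4, 3, 4, 3, 4, 3, 4, 0, 4, 2, 4, 2, 2, 4, 0, 2, 2, 0, 3, 4], [5, 2, 1, 3, 3, 1,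 5, 3, 3, 5, 3, 5, 1, 5, 2, 5, 2, 5, 2, 5, 3, 1, 2, 1, 1, 0, 3, 0, 2, 4, 3, 4, 3, 4, 3, 4, 0, 4, 2, 4, 2, 2, 4, 0, 2, 2, 0, 3, 4, 0]))) (BT.node 136 (BT.leaf (50, [3, 5, 2, 1, 3, 3, 1, 5, 3, 3, 5, 3, 5, 1, 5, 2, 5, 2, 5, 2, 5, 3, 1, 2, 1, 2, 0, 3, 0, 2, 4, 3, 4, 3, 4, 3, 4, 0, 4, 2, 4, 2, 2, 4, 0, 2, 2, 0, 3, 4], [5, 2, 1, 3, 3, 1, 5, 3, 3, 5, 3, 5, 1, 5, 2, 5, 2, 5, 2, 5, 3, 1, 2, 1, 3, 0, 3, 0, 2, 4, 3, 4, 3, 4, 3, 4, 0, 4, 2, 4, 2, 2, 4, 0, 2, 2, 0, 3, 4, 2])) (BT.leaf (50, [5, 5, 2, 1, 3, 3, 1, 5, 3, 3, 5, 3, 5, 1, 5, 2, 5, 2, 5, 2, 5, 3, 1, 2, 1, 4, 0, 3, 0, 2, 4, 3, 4, 3, 4, 3, 4, 0, 4, 2, 4, 2, 2, 4, 0, 2, 2, 0, 3, 4], [5, 2, 1, 3, 3, 1, 5, 3, 3, 5, 3, 5, 1, 5, 2, 5, 2, 5, 2, 5, 3, 1, 2, 1, 5, 0, 3,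 0, 2, 4, 3, 4, 3, 4, 3, 4, 0, 4, 2, 4, 2, 2, 4, 0, 2, 2, 0, 3, 4, 4]))))) (BT.node 141 (BT.node 139 (BT.node 138 (BT.leaf (50, [1, 5, 2, 1, 3, 5, 2, 1, 2, 5, 2, 2, 1, 2, 5, 2, 2, 5, 1, 5, 2, 2, 1, 2, 2, 0, 3, 3, 0, 3, 3, 4, 0, 4, 3, 3, 4, 3, 0, 3, 3, 4, 3, 0, 3, 4, 2, 0, 3, 4], [5, 2, 1, 3, 5, 2, 1, 2, 5, 2, 2, 1, 2, 5, 2, 2, 5, 1, 5, 2, 2, 1, 2, 2, 1, 3, 3, 0, 3, 3, 4, 0, 4, 3, 3, 4, 3, 0, 3, 3, 4, 3, 0, 3, 4, 2, 0, 3, 4, 0])) (BT.leaf (50, [3, 5, 2, 1, 3, 5, 2, 1, 2, 5, 2, 2, 1, 2, 5, 2, 2, 5, 1, 5, 2, 2, 1, 2, 2, 2, 3, 3, 0, 3, 3, 4, 0, 4, 3, 3, 4, 3, 0, 3, 3, 4, 3, 0, 3, 4, 2, 0, 3, 4], [5, 2, 1, 3, 5, 2, 1, 2, 5, 2, 2, 1, 2, 5, 2, 2, 5, 1, 5, 2, 2, 1, 2, 2, 3, 3, 3, 0, 3, 3, 4, 0, 4, 3, 3, 4, 3, 0,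 3, 3, 4, 3, 0, 3, 4, 2, 0, 3, 4, 2]))) (BT.node 140 (BT.leaf (50, [5, 5, 2, 1, 3, 5, 2, 1, 2, 5, 2, 2, 1, 2, 5, 2, 2, 5, 1, 5, 2, 2, 1, 2, 2, 4, 3, 3, 0, 3, 3, 4, 0, 4, 3, 3, 4, 3, 0, 3, 3, 4, 3, 0, 3, 4, 2, 0, 3, 4], [5, 2, 1, 3, 5, 2, 1, 2, 5, 2, 2, 1, 2, 5, 2, 2, 5, 1, 5, 2, 2, 1, 2, 2, 5, 3, 3, 0, 3, 3, 4, 0, 4, 3, 3, 4, 3, 0, 3, 3, 4, 3, 0, 3, 4, 2, 0, 3, 4, 4])) (BT.leaf (50, [1, 5, 2, 1, 3, 5, 3, 5, 1, 2, 2, 2, 5, 3, 5, 1, 5, 2, 5, 1, 5, 1, 2, 1, 2, 0, 3, 0, 3, 0, 4, 0, 4, 3, 4, 0, 4, 2, 4, 3, 3, 3, 0, 4, 2, 4, 2, 0, 3, 4], [5, 2, 1, 3, 5, 3, 5, 1, 2, 2, 2, 5, 3, 5, 1, 5, 2, 5, 1, 5, 1, 2, 1, 2, 1, 3, 0, 3, 0, 4, 0, 4, 3, 4, 0, 4, 2, 4, 3, 3, 3, 0, 4, 2, 4, 2, 0, 3, 4, 0])))) (BT.node 143 (BT.node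 142 (BT.leaf (50, [3, 5, 2, 1, 3, 5, 3, 5, 1, 2, 2, 2, 5, 3, 5, 1, 5, 2, 5, 1, 5, 1, 2, 1, 2, 2, 3, 0, 3, 0, 4, 0, 4, 3, 4, 0, 4, 2, 4, 3, 3, 3, 0, 4, 2, 4, 2, 0, 3, 4], [5, 2, 1, 3, 5, 3, 5, 1, 2, 2, 2, 5, 3, 5, 1, 5, 2, 5, 1, 5, 1, 2, 1, 2, 3, 3, 0, 3, 0, 4, 0, 4, 3, 4, 0, 4, 2, 4, 3, 3, 3, 0, 4, 2, 4, 2, 0, 3, 4, 2])) (BT.leaf (50, [5, 5, 2, 1, 3, 5, 3, 5, 1, 2, 2, 2, 5, 3, 5, 1, 5, 2, 5, 1, 5, 1, 2, 1, 2, 4, 3, 0, 3, 0, 4, 0, 4, 3, 4, 0, 4, 2, 4, 3, 3, 3, 0, 4, 2, 4, 2, 0, 3, 4], [5, 2, 1, 3, 5, 3, 5, 1, 2, 2, 2, 5, 3, 5, 1, 5, 2, 5, 1, 5, 1, 2, 1, 2, 5, 3, 0, 3, 0, 4, 0, 4, 3, 4, 0, 4, 2, 4, 3, 3, 3, 0, 4, 2, 4, 2, 0, 3, 4, 4]))) (BT.node 144 (BT.leaf (50, [1, 5, 2, 1, 5, 2, 5, 2, 5, 3, 5, 2, 5, 2,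 1, 5, 2, 5, 3, 5, 1, 5, 1, 2, 1, 0, 0, 3, 0, 4, 0, 4, 2, 4, 3, 4, 0, 3, 4, 3, 4, 2, 4, 3, 4, 3, 4, 0, 3, 4], [5, 2, 1, 5, 2, 5, 2, 5, 3, 5, 2, 5, 2, 1, 5, 2, 5, 3, 5, 1, 5, 1, 2, 1, 1, 0, 3, 0, 4, 0, 4, 2, 4, 3, 4, 0, 3, 4, 3, 4, 2, 4, 3, 4, 3, 4, 0, 3, 4, 0])) (BT.leaf (50, [3, 5, 2, 1, 5, 2, 5, 2, 5, 3, 5, 2, 5, 2, 1, 5, 2, 5, 3, 5, 1, 5, 1, 2, 1, 2, 0, 3, 0, 4, 0, 4, 2, 4, 3, 4, 0, 3, 4, 3, 4, 2, 4, 3, 4, 3, 4, 0, 3, 4], [5, 2, 1, 5, 2, 5, 2, 5, 3, 5, 2, 5, 2, 1, 5, 2, 5, 3, 5, 1, 5, 1, 2, 1, 3, 0, 3, 0, 4, 0, 4, 2, 4, 3, 4, 0, 3, 4, 3, 4, 2, 4, 3, 4, 3, 4, 0, 3, 4, 2])))))) (BT.node 153 (BT.node 149 (BT.node 147 (BT.node 146 (BT.leaf (50, [5, 5, 2, 1, 5, 2, 5, 2, 5, 3, 5, 2, 5, 2, 1, 5, 2, 5, 3, 5, 1,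 5, 1, 2, 1, 4, 0, 3, 0, 4, 0, 4, 2, 4, 3, 4, 0, 3, 4, 3, 4, 2, 4, 3, 4, 3, 4, 0, 3, 4], [5, 2, 1, 5, 2, 5, 2, 5, 3, 5, 2, 5, 2, 1, 5, 2, 5, 3, 5, 1, 5, 1, 2, 1, 5, 0, 3, 0, 4, 0, 4, 2, 4, 3, 4, 0, 3, 4, 3, 4, 2, 4, 3, 4, 3, 4, 0, 3, 4, 4])) (BT.leaf (50, [1, 5, 1, 5, 2, 1, 5, 2, 1, 2, 5, 1, 2, 2, 5, 1, 5, 2, 2, 1, 3, 1, 3, 1, 3, 0, 2, 0, 2, 0, 2, 0, 3, 3, 4, 0, 4, 3, 3, 0, 4, 3, 0, 3, 4, 0, 3, 4, 0, 4], [5, 1, 5, 2, 1, 5, 2, 1, 2, 5, 1, 2, 2, 5, 1, 5, 2, 2, 1, 3, 1, 3, 1, 3, 1, 2, 0, 2, 0, 2, 0, 3, 3, 4, 0, 4, 3, 3, 0, 4, 3, 0, 3, 4, 0, 3, 4, 0, 4, 0]))) (BT.node 148 (BT.leaf (50, [3, 5, 1, 5, 2, 1, 5, 2, 1, 2, 5, 1, 2, 2, 5, 1, 5, 2, 2, 1, 3, 1, 3, 1, 3, 2, 2, 0, 2, 0, 2, 0, 3, 3, 4, 0, 4, 3, 3, 0, 4, 3,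 0, 3, 4, 0, 3, 4, 0, 4], [5, 1, 5, 2, 1, 5, 2, 1, 2, 5, 1, 2, 2, 5, 1, 5, 2, 2, 1, 3, 1, 3, 1, 3, 3, 2, 0, 2, 0, 2, 0, 3, 3, 4, 0, 4, 3, 3, 0, 4, 3, 0, 3, 4, 0, 3, 4, 0, 4, 2])) (BT.leaf (50, [5, 5, 1, 5, 2, 1, 5, 2, 1, 2, 5, 1, 2, 2, 5, 1, 5, 2, 2, 1, 3, 1, 3, 1, 3, 4, 2, 0, 2, 0, 2, 0, 3, 3, 4, 0, 4, 3, 3, 0, 4, 3, 0, 3, 4, 0, 3, 4, 0, 4], [5, 1, 5, 2, 1, 5, 2, 1, 2, 5, 1, 2, 2, 5, 1, 5, 2, 2, 1, 3, 1, 3, 1, 3, 5, 2, 0, 2, 0, 2, 0, 3, 3, 4, 0, 4, 3, 3, 0, 4, 3, 0, 3, 4, 0, 3, 4, 0, 4, 4])))) (BT.node 151 (BT.node 150 (BT.leaf (50, [1, 5, 1, 5, 3, 3, 1, 5, 3, 1, 3, 5, 1, 3, 5, 1, 5, 2, 1, 2, 1, 2, 1, 2, 2, 0, 3, 3, 0, 3, 0, 3, 0, 3, 4, 0, 4, 2, 0, 4, 2, 0, 2, 4, 0, 2, 2, 4, 0, 4], [5, 1, 5, 3, 3, 1, 5,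 3, 1, 3, 5, 1, 3, 5, 1, 5, 2, 1, 2, 1, 2, 1, 2, 2, 1, 3, 3, 0, 3, 0, 3, 0, 3, 4, 0, 4, 2, 0, 4, 2, 0, 2, 4, 0, 2, 2, 4, 0, 4, 0])) (BT.leaf (50, [3, 5, 1, 5, 3, 3, 1, 5, 3, 1, 3, 5, 1, 3, 5, 1, 5, 2, 1, 2, 1, 2, 1, 2, 2, 2, 3, 3, 0, 3, 0, 3, 0, 3, 4, 0, 4, 2, 0, 4, 2, 0, 2, 4, 0, 2, 2, 4, 0, 4], [5, 1, 5, 3, 3, 1, 5, 3, 1, 3, 5, 1, 3, 5, 1, 5, 2, 1, 2, 1, 2, 1, 2, 2, 3, 3, 3, 0, 3, 0, 3, 0, 3, 4, 0, 4, 2, 0, 4, 2, 0, 2, 4, 0, 2, 2, 4, 0, 4, 2]))) (BT.node 152 (BT.leaf (50, [5, 5, 1, 5, 3, 3, 1, 5, 3, 1, 3, 5, 1, 3, 5, 1, 5, 2, 1, 2, 1, 2, 1, 2, 2, 4, 3, 3, 0, 3, 0, 3, 0, 3, 4, 0, 4, 2, 0, 4, 2, 0, 2, 4, 0, 2, 2, 4, 0, 4], [5, 1, 5, 3, 3, 1, 5, 3, 1, 3, 5, 1, 3, 5, 1, 5, 2, 1, 2, 1, 2, 1, 2, 2, 5, 3, 3, 0,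 3, 0, 3, 0, 3, 4, 0, 4, 2, 0, 4, 2, 0, 2, 4, 0, 2, 2, 4, 0, 4, 4])) (BT.leaf (50, [1, 5, 1, 5, 3, 3, 5, 3, 1, 2, 2, 5, 3, 1, 3, 5, 2, 1, 3, 5, 2, 2, 1, 2, 2, 0, 3, 3, 0, 3, 3, 4, 2, 0, 3, 4, 2, 0, 2, 4, 3, 3, 0, 2, 4, 2, 2, 4, 0, 4], [5, 1, 5, 3, 3, 5, 3, 1, 2, 2, 5, 3, 1, 3, 5, 2, 1, 3, 5, 2, 2, 1, 2, 2, 1, 3, 3, 0, 3, 3, 4, 2, 0, 3, 4, 2, 0, 2, 4, 3, 3, 0, 2, 4, 2, 2, 4, 0, 4, 0]))))) (BT.node 157 (BT.node 155 (BT.node 154 (BT.leaf (50, [3, 5, 1, 5, 3, 3, 5, 3, 1, 2, 2, 5, 3, 1, 3, 5, 2, 1, 3, 5, 2, 2, 1, 2, 2, 2, 3, 3, 0, 3, 3, 4, 2, 0, 3, 4, 2, 0, 2, 4, 3, 3, 0, 2, 4, 2, 2, 4, 0, 4], [5, 1, 5, 3, 3, 5, 3, 1, 2, 2, 5, 3, 1, 3, 5, 2, 1, 3, 5, 2, 2, 1, 2, 2, 3, 3, 3, 0, 3, 3, 4, 2, 0, 3, 4, 2, 0, 2, 4,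 3, 3, 0, 2, 4, 2, 2, 4, 0, 4, 2])) (BT.leaf (50, [5, 5, 1, 5, 3, 3, 5, 3, 1, 2, 2, 5, 3, 1, 3, 5, 2, 1, 3, 5, 2, 2, 1, 2, 2, 4, 3, 3, 0, 3, 3, 4, 2, 0, 3, 4, 2, 0, 2, 4, 3, 3, 0, 2, 4, 2, 2, 4, 0, 4], [5, 1, 5, 3, 3, 5, 3, 1, 2, 2, 5, 3, 1, 3, 5, 2, 1, 3, 5, 2, 2, 1, 2, 2, 5, 3, 3, 0, 3, 3, 4, 2, 0, 3, 4, 2, 0, 2, 4, 3, 3, 0, 2, 4, 2, 2, 4, 0, 4, 4]))) (BT.node 156 (BT.leaf (50, [1, 5, 1, 5, 3, 3, 5, 3, 1, 3, 3, 5, 3, 1, 3, 5, 2, 1, 3, 5, 2, 2, 1, 2, 2, 0, 3, 3, 0, 3, 3, 4, 2, 0, 3, 4, 2, 0, 2, 4, 2, 2, 0, 2, 4, 2, 2, 4, 0, 4], [5, 1, 5, 3, 3, 5, 3, 1, 3, 3, 5, 3, 1, 3, 5, 2, 1, 3, 5, 2, 2, 1, 2, 2, 1, 3, 3, 0, 3, 3, 4, 2, 0, 3, 4, 2, 0, 2, 4, 2, 2, 0, 2, 4, 2, 2, 4, 0, 4, 0])) (BT.leaf (50, [3, 5, 1, 5,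 3, 3, 5, 3, 1, 3, 3, 5, 3, 1, 3, 5, 2, 1, 3, 5, 2, 2, 1, 2, 2, 2, 3, 3, 0, 3, 3, 4, 2, 0, 3, 4, 2, 0, 2, 4, 2, 2, 0, 2, 4, 2, 2, 4, 0, 4], [5, 1, 5, 3, 3, 5, 3, 1, 3, 3, 5, 3, 1, 3, 5, 2, 1, 3, 5, 2, 2, 1, 2, 2, 3, 3, 3, 0, 3, 3, 4, 2, 0, 3, 4, 2, 0, 2, 4, 2, 2, 0, 2, 4, 2, 2, 4, 0, 4, 2])))) (BT.node 159 (BT.node 158 (BT.leaf (50, [5, 5, 1, 5, 3, 3, 5, 3, 1, 3, 3, 5, 3, 1, 3, 5, 2, 1, 3, 5, 2, 2, 1, 2, 2, 4, 3, 3, 0, 3, 3, 4, 2, 0, 3, 4, 2, 0, 2, 4, 2, 2, 0, 2, 4, 2, 2, 4, 0, 4], [5, 1, 5, 3, 3, 5, 3, 1, 3, 3, 5, 3, 1, 3, 5, 2, 1, 3, 5, 2, 2, 1, 2, 2, 5, 3, 3, 0, 3, 3, 4, 2, 0, 3, 4, 2, 0, 2, 4, 2, 2, 0, 2, 4, 2, 2, 4, 0, 4, 4])) (BT.leaf (50, [1, 5, 3, 1, 2, 5, 2, 1, 5, 1, 3, 1, 5, 3, 1, 5, 2, 5, 3, 1,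 2, 1, 3, 1, 2, 0, 3, 0, 2, 0, 3, 0, 2, 4, 3, 4, 0, 2, 4, 0, 2, 0, 4, 0, 3, 4, 3, 0, 2, 4], [5, 3, 1, 2, 5, 2, 1, 5, 1, 3, 1, 5, 3, 1, 5, 2, 5, 3, 1, 2, 1, 3, 1, 2, 1, 3, 0, 2, 0, 3, 0, 2, 4, 3, 4, 0, 2, 4, 0, 2, 0, 4, 0, 3, 4, 3, 0, 2, 4, 0]))) (BT.node 160 (BT.leaf (50, [3, 5, 3, 1, 2, 5, 2, 1, 5, 1, 3, 1, 5, 3, 1, 5, 2, 5, 3, 1, 2, 1, 3, 1, 2, 2, 3, 0, 2, 0, 3, 0, 2, 4, 3, 4, 0, 2, 4, 0, 2, 0, 4, 0, 3, 4, 3, 0, 2, 4], [5, 3, 1, 2, 5, 2, 1, 5, 1, 3, 1, 5, 3, 1, 5, 2, 5, 3, 1, 2, 1, 3, 1, 2, 3, 3, 0, 2, 0, 3, 0, 2, 4, 3, 4, 0, 2, 4, 0, 2, 0, 4, 0, 3, 4, 3, 0, 2, 4, 2])) (BT.leaf (50, [5, 5, 3, 1, 2, 5, 2, 1, 5, 1, 3, 1, 5, 3, 1, 5, 2, 5, 3, 1, 2, 1, 3, 1, 2, 4, 3, 0, 2, 0, 3, 0, 2, 4, 3, 4, 0, 2, 4, 0, 2,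 0, 4, 0, 3, 4, 3, 0, 2, 4], [5, 3, 1, 2, 5, 2, 1, 5, 1, 3, 1, 5, 3, 1, 5, 2, 5, 3, 1, 2, 1, 3, 1, 2, 5, 3, 0, 2, 0, 3, 0, 2, 4, 3, 4, 0, 2, 4, 0, 2, 0, 4, 0, 3, 4, 3, 0, 2, 4, 4]))))))) (BT.node 177 (BT.node 169 (BT.node 165 (BT.node 163 (BT.node 162 (BT.leaf (50, [1, 5, 3, 1, 3, 1, 3, 1, 2, 1, 2, 1, 2, 5, 3, 1, 3, 1, 3, 1, 2, 1, 2, 1, 2, 0, 3, 0, 3, 0, 3, 0, 2, 0, 2, 0, 2, 4, 3, 0, 3, 0, 3, 0, 2, 0, 2, 0, 2, 4], [5, 3, 1, 3, 1, 3, 1, 2, 1, 2, 1, 2, 5, 3, 1, 3, 1, 3, 1, 2, 1, 2, 1, 2, 1, 3, 0, 3, 0, 3, 0, 2, 0, 2, 0, 2, 4, 3, 0, 3, 0, 3, 0, 2, 0, 2, 0, 2, 4, 0])) (BT.leaf (50, [3, 5, 3, 1, 3, 1, 3, 1, 2, 1, 2, 1, 2, 5, 3, 1, 3, 1, 3, 1, 2, 1, 2, 1, 2, 2, 3, 0, 3, 0, 3, 0, 2, 0, 2, 0, 2, 4, 3, 0, 3, 0, 3,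 0, 2, 0, 2, 0, 2, 4], [5, 3, 1, 3, 1, 3, 1, 2, 1, 2, 1, 2, 5, 3, 1, 3, 1, 3, 1, 2, 1, 2, 1, 2, 3, 3, 0, 3, 0, 3, 0, 2, 0, 2, 0, 2, 4, 3, 0, 3, 0, 3, 0, 2, 0, 2, 0, 2, 4, 2]))) (BT.node 164 (BT.leaf (50, [5, 5, 3, 1, 3, 1, 3, 1, 2, 1, 2, 1, 2, 5, 3, 1, 3, 1, 3, 1, 2, 1, 2, 1, 2, 4, 3, 0, 3, 0, 3, 0, 2, 0, 2, 0, 2, 4, 3, 0, 3, 0, 3, 0, 2, 0, 2, 0, 2, 4], [5, 3, 1, 3, 1, 3, 1, 2, 1, 2, 1, 2, 5, 3, 1, 3, 1, 3, 1, 2, 1, 2, 1, 2, 5, 3, 0, 3, 0, 3, 0, 2, 0, 2, 0, 2, 4, 3, 0, 3, 0, 3, 0, 2, 0, 2, 0, 2, 4, 4])) (BT.leaf (50, [1, 5, 3, 1, 3, 1, 5, 2, 5, 3, 5, 3, 5, 3, 5, 1, 5, 2, 5, 2, 2, 1, 2, 2, 1, 0, 0, 3, 3, 0, 3, 3, 4, 3, 4, 0, 4, 2, 4, 2, 4, 2, 4, 3, 4, 0, 2, 0, 2, 4], [5, 3, 1, 3, 1, 5, 2, 5, 3, 5, 3, 5, 3,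 5, 1, 5, 2, 5, 2, 2, 1, 2, 2, 1, 1, 0, 3, 3, 0, 3, 3, 4, 3, 4, 0, 4, 2, 4, 2, 4, 2, 4, 3, 4, 0, 2, 0, 2, 4, 0])))) (BT.node 167 (BT.node 166 (BT.leaf (50, [3, 5, 3, 1, 3, 1, 5, 2, 5, 3, 5, 3, 5, 3, 5, 1, 5, 2, 5, 2, 2, 1, 2, 2, 1, 2, 0, 3, 3, 0, 3, 3, 4, 3, 4, 0, 4, 2, 4, 2, 4, 2, 4, 3, 4, 0, 2, 0, 2, 4], [5, 3, 1, 3, 1, 5, 2, 5, 3, 5, 3, 5, 3, 5, 1, 5, 2, 5, 2, 2, 1, 2, 2, 1, 3, 0, 3, 3, 0, 3, 3, 4, 3, 4, 0, 4, 2, 4, 2, 4, 2, 4, 3, 4, 0, 2, 0, 2, 4, 2])) (BT.leaf (50, [5, 5, 3, 1, 3, 1, 5, 2, 5, 3, 5, 3, 5, 3, 5, 1, 5, 2, 5, 2, 2, 1, 2, 2, 1, 4, 0, 3, 3, 0, 3, 3, 4, 3, 4, 0, 4, 2, 4, 2, 4, 2, 4, 3, 4, 0, 2, 0, 2, 4], [5, 3, 1, 3, 1, 5, 2, 5, 3, 5, 3, 5, 3, 5, 1, 5, 2, 5, 2, 2, 1, 2, 2, 1, 5, 0, 3, 3, 0,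 3, 3, 4, 3, 4, 0, 4, 2, 4, 2, 4, 2, 4, 3, 4, 0, 2, 0, 2, 4, 4]))) (BT.node 168 (BT.leaf (50, [1, 5, 3, 1, 5, 3, 1, 2, 1, 3, 1, 2, 5, 2, 2, 5, 2, 1, 2, 1, 3, 1, 2, 1, 2, 0, 3, 0, 3, 0, 2, 0, 3, 0, 3, 4, 3, 3, 4, 3, 0, 2, 0, 3, 0, 2, 4, 0, 2, 4], [5, 3, 1, 5, 3, 1, 2, 1, 3, 1, 2, 5, 2, 2, 5, 2, 1, 2, 1, 3, 1, 2, 1, 2, 1, 3, 0, 3, 0, 2, 0, 3, 0, 3, 4, 3, 3, 4, 3, 0, 2, 0, 3, 0, 2, 4, 0, 2, 4, 0])) (BT.leaf (50, [3, 5, 3, 1, 5, 3, 1, 2, 1, 3, 1, 2, 5, 2, 2, 5, 2, 1, 2, 1, 3, 1, 2, 1, 2, 2, 3, 0, 3, 0, 2, 0, 3, 0, 3, 4, 3, 3, 4, 3, 0, 2, 0, 3, 0, 2, 4, 0, 2, 4], [5, 3, 1, 5, 3, 1, 2, 1, 3, 1, 2, 5, 2, 2, 5, 2, 1, 2, 1, 3, 1, 2, 1, 2, 3, 3, 0, 3, 0, 2, 0, 3, 0, 3, 4, 3, 3, 4, 3, 0, 2, 0, 3, 0, 2, 4, 0, 2, 4, 2])))))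 (BT.node 173 (BT.node 171 (BT.node 170 (BT.leaf (50, [5, 5, 3, 1, 5, 3, 1, 2, 1, 3, 1, 2, 5, 2, 2, 5, 2, 1, 2, 1, 3, 1, 2, 1, 2, 4, 3, 0, 3, 0, 2, 0, 3, 0, 3, 4, 3, 3, 4, 3, 0, 2, 0, 3, 0, 2, 4, 0, 2, 4], [5, 3, 1, 5, 3, 1, 2, 1, 3, 1, 2, 5, 2, 2, 5, 2, 1, 2, 1, 3, 1, 2, 1, 2, 5, 3, 0, 3, 0, 2, 0, 3, 0, 3, 4, 3, 3, 4, 3, 0, 2, 0, 3, 0, 2, 4, 0, 2, 4, 4])) (BT.leaf (50, [1, 5, 3, 5, 1, 3, 5, 3, 1, 2, 1, 5, 1, 3, 5, 2, 5, 2, 1, 5, 2, 5, 2, 1, 3, 0, 2, 0, 3, 4, 3, 4, 0, 3, 4, 3, 4, 2, 0, 4, 0, 3, 0, 2, 4, 2, 0, 4, 2, 4], [5, 3, 5, 1, 3, 5, 3, 1, 2, 1, 5, 1, 3, 5, 2, 5, 2, 1, 5, 2, 5, 2, 1, 3, 1, 2, 0, 3, 4, 3, 4, 0, 3, 4, 3, 4, 2, 0, 4, 0, 3, 0, 2, 4, 2, 0, 4, 2, 4, 0]))) (BT.node 172 (BT.leaf (50, [3, 5, 3,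 5, 1, 3, 5, 3, 1, 2, 1, 5, 1, 3, 5, 2, 5, 2, 1, 5, 2, 5, 2, 1, 3, 2, 2, 0, 3, 4, 3, 4, 0, 3, 4, 3, 4, 2, 0, 4, 0, 3, 0, 2, 4, 2, 0, 4, 2, 4], [5, 3, 5, 1, 3, 5, 3, 1, 2, 1, 5, 1, 3, 5, 2, 5, 2, 1, 5, 2, 5, 2, 1, 3, 3, 2, 0, 3, 4, 3, 4, 0, 3, 4, 3, 4, 2, 0, 4, 0, 3, 0, 2, 4, 2, 0, 4, 2, 4, 2])) (BT.leaf (50, [5, 5, 3, 5, 1, 3, 5, 3, 1, 2, 1, 5, 1, 3, 5, 2, 5, 2, 1, 5, 2, 5, 2, 1, 3, 4, 2, 0, 3, 4, 3, 4, 0, 3, 4, 3, 4, 2, 0, 4, 0, 3, 0, 2, 4, 2, 0, 4, 2, 4], [5, 3, 5, 1, 3, 5, 3, 1, 2, 1, 5, 1, 3, 5, 2, 5, 2, 1, 5, 2, 5, 2, 1, 3, 5, 2, 0, 3, 4, 3, 4, 0, 3, 4, 3, 4, 2, 0, 4, 0, 3, 0, 2, 4, 2, 0, 4, 2, 4, 4])))) (BT.node 175 (BT.node 174 (BT.leaf (50, [1, 5, 3, 5, 1, 5, 2, 5, 2, 5, 2, 5, 3, 5, 1, 2, 1, 2, 5,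 1, 2, 2, 1, 2, 2, 0, 3, 3, 0, 3, 3, 0, 4, 3, 0, 3, 0, 4, 2, 4, 3, 4, 3, 4, 3, 4, 0, 4, 2, 4], [5, 3, 5, 1, 5, 2, 5, 2, 5, 2, 5, 3, 5, 1, 2, 1, 2, 5, 1, 2, 2, 1, 2, 2, 1, 3, 3, 0, 3, 3, 0, 4, 3, 0, 3, 0, 4, 2, 4, 3, 4, 3, 4, 3, 4, 0, 4, 2, 4, 0])) (BT.leaf (50, [3, 5, 3, 5, 1, 5, 2, 5, 2, 5, 2, 5, 3, 5, 1, 2, 1, 2, 5, 1, 2, 2, 1, 2, 2, 2, 3, 3, 0, 3, 3, 0, 4, 3, 0, 3, 0, 4, 2, 4, 3, 4, 3, 4, 3, 4, 0, 4, 2, 4], [5, 3, 5, 1, 5, 2, 5, 2, 5, 2, 5, 3, 5, 1, 2, 1, 2, 5, 1, 2, 2, 1, 2, 2, 3, 3, 3, 0, 3, 3, 0, 4, 3, 0, 3, 0, 4, 2, 4, 3, 4, 3, 4, 3, 4, 0, 4, 2, 4, 2]))) (BT.node 176 (BT.leaf (50, [5, 5, 3, 5, 1, 5, 2, 5, 2, 5, 2, 5, 3, 5, 1, 2, 1, 2, 5, 1, 2, 2, 1, 2, 2, 4, 3, 3, 0, 3, 3, 0, 4, 3, 0, 3, 0, 4, 2, 4,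 3, 4, 3, 4, 3, 4, 0, 4, 2, 4], [5, 3, 5, 1, 5, 2, 5, 2, 5, 2, 5, 3, 5, 1, 2, 1, 2, 5, 1, 2, 2, 1, 2, 2, 5, 3, 3, 0, 3, 3, 0, 4, 3, 0, 3, 0, 4, 2, 4, 3, 4, 3, 4, 3, 4, 0, 4, 2, 4, 4])) (BT.leaf (52, [1, 5, 2, 1, 2, 1, 5, 3, 1, 3, 5, 1, 2, 1, 5, 3, 1, 3, 5, 3, 1, 2, 5, 1, 3, 1, 0, 0, 2, 0, 4, 3, 0, 2, 4, 2, 0, 2, 4, 0, 3, 0, 4, 2, 0, 2, 4, 0, 3, 0, 3, 4], [5, 2, 1, 2, 1, 5, 3, 1, 3, 5, 1, 2, 1, 5, 3, 1, 3, 5, 3, 1, 2, 5, 1, 3, 1, 1, 0, 2, 0, 4, 3, 0, 2, 4, 2, 0, 2, 4, 0, 3, 0, 4, 2, 0, 2, 4, 0, 3, 0, 3, 4, 0])))))) (BT.node 185 (BT.node 181 (BT.node 179 (BT.node 178 (BT.leaf (52, [3, 5, 2, 1, 2, 1, 5, 3, 1, 3, 5, 1, 2, 1, 5, 3, 1, 3, 5, 3, 1, 2, 5, 1, 3, 1, 2, 0, 2, 0, 4, 3, 0, 2, 4, 2, 0, 2, 4, 0, 3, 0, 4,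 2, 0, 2, 4, 0, 3, 0, 3, 4], [5, 2, 1, 2, 1, 5, 3, 1, 3, 5, 1, 2, 1, 5, 3, 1, 3, 5, 3, 1, 2, 5, 1, 3, 1, 3, 0, 2, 0, 4, 3, 0, 2, 4, 2, 0, 2, 4, 0, 3, 0, 4, 2, 0, 2, 4, 0, 3, 0, 3, 4, 2])) (BT.leaf (52, [5, 5, 2, 1, 2, 1, 5, 3, 1, 3, 5, 1, 2, 1, 5, 3, 1, 3, 5, 3, 1, 2, 5, 1, 3, 1, 4, 0, 2, 0, 4, 3, 0, 2, 4, 2, 0, 2, 4, 0, 3, 0, 4, 2, 0, 2, 4, 0, 3, 0, 3, 4], [5, 2, 1, 2, 1, 5, 3, 1, 3, 5, 1, 2, 1, 5, 3, 1, 3, 5, 3, 1, 2, 5, 1, 3, 1, 5, 0, 2, 0, 4, 3, 0, 2, 4, 2, 0, 2, 4, 0, 3, 0, 4, 2, 0, 2, 4, 0, 3, 0, 3, 4, 4]))) (BT.node 180 (BT.leaf (52, [1, 5, 2, 1, 2, 1, 5, 3, 3, 5, 1, 5, 2, 2, 1, 3, 1, 3, 5, 1, 2, 5, 1, 3, 1, 3, 0, 2, 0, 2, 0, 4, 3, 0, 4, 2, 0, 2, 0, 3, 3, 4, 0, 4, 2, 2, 4, 0, 3, 0, 3, 4], [5, 2, 1,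 2, 1, 5, 3, 3, 5, 1, 5, 2, 2, 1, 3, 1, 3, 5, 1, 2, 5, 1, 3, 1, 3, 1, 2, 0, 2, 0, 4, 3, 0, 4, 2, 0, 2, 0, 3, 3, 4, 0, 4, 2, 2, 4, 0, 3, 0, 3, 4, 0])) (BT.leaf (52, [3, 5, 2, 1, 2, 1, 5, 3, 3, 5, 1, 5, 2, 2, 1, 3, 1, 3, 5, 1, 2, 5, 1, 3, 1, 3, 2, 2, 0, 2, 0, 4, 3, 0, 4, 2, 0, 2, 0, 3, 3, 4, 0, 4, 2, 2, 4, 0, 3, 0, 3, 4], [5, 2, 1, 2, 1, 5, 3, 3, 5, 1, 5, 2, 2, 1, 3, 1, 3, 5, 1, 2, 5, 1, 3, 1, 3, 3, 2, 0, 2, 0, 4, 3, 0, 4, 2, 0, 2, 0, 3, 3, 4, 0, 4, 2, 2, 4, 0, 3, 0, 3, 4, 2])))) (BT.node 183 (BT.node 182 (BT.leaf (52, [5, 5, 2, 1, 2, 1, 5, 3, 3, 5, 1, 5, 2, 2, 1, 3, 1, 3, 5, 1, 2, 5, 1, 3, 1, 3, 4, 2, 0, 2, 0, 4, 3, 0, 4, 2, 0, 2, 0, 3, 3, 4, 0, 4, 2, 2, 4, 0, 3, 0, 3, 4], [5, 2, 1, 2, 1, 5, 3, 3, 5, 1, 5,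 2, 2, 1, 3, 1, 3, 5, 1, 2, 5, 1, 3, 1, 3, 5, 2, 0, 2, 0, 4, 3, 0, 4, 2, 0, 2, 0, 3, 3, 4, 0, 4, 2, 2, 4, 0, 3, 0, 3, 4, 4])) (BT.leaf (52, [1, 5, 2, 1, 2, 5, 1, 2, 5, 2, 5, 3, 5, 1, 5, 1, 2, 1, 2, 1, 2, 1, 2, 1, 3, 1, 0, 0, 2, 0, 3, 0, 3, 0, 3, 0, 3, 0, 4, 0, 4, 2, 4, 3, 4, 3, 0, 4, 3, 0, 3, 4], [5, 2, 1, 2, 5, 1, 2, 5, 2, 5, 3, 5, 1, 5, 1, 2, 1, 2, 1, 2, 1, 2, 1, 3, 1, 1, 0, 2, 0, 3, 0, 3, 0, 3, 0, 3, 0, 4, 0, 4, 2, 4, 3, 4, 3, 0, 4, 3, 0, 3, 4, 0]))) (BT.node 184 (BT.leaf (52, [3, 5, 2, 1, 2, 5, 1, 2, 5, 2, 5, 3, 5, 1, 5, 1, 2, 1, 2, 1, 2, 1, 2, 1, 3, 1, 2, 0, 2, 0, 3, 0, 3, 0, 3, 0, 3, 0, 4, 0, 4, 2, 4, 3, 4, 3, 0, 4, 3, 0, 3, 4], [5, 2, 1, 2, 5, 1, 2, 5, 2, 5, 3, 5, 1, 5, 1, 2, 1, 2, 1, 2, 1, 2, 1, 3,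 1, 3, 0, 2, 0, 3, 0, 3, 0, 3, 0, 3, 0, 4, 0, 4, 2, 4, 3, 4, 3, 0, 4, 3, 0, 3, 4, 2])) (BT.leaf (52, [5, 5, 2, 1, 2, 5, 1, 2, 5, 2, 5, 3, 5, 1, 5, 1, 2, 1, 2, 1, 2, 1, 2, 1, 3, 1, 4, 0, 2, 0, 3, 0, 3, 0, 3, 0, 3, 0, 4, 0, 4, 2, 4, 3, 4, 3, 0, 4, 3, 0, 3, 4], [5, 2, 1, 2, 5, 1, 2, 5, 2, 5, 3, 5, 1, 5, 1, 2, 1, 2, 1, 2, 1, 2, 1, 3, 1, 5, 0, 2, 0, 3, 0, 3, 0, 3, 0, 3, 0, 4, 0, 4, 2, 4, 3, 4, 3, 0, 4, 3, 0, 3, 4, 4]))))) (BT.node 189 (BT.node 187 (BT.node 186 (BT.leaf (52, [1, 5, 2, 1, 3, 3, 5, 1, 5, 1, 5, 2, 1, 2, 5, 1, 3, 5, 2, 1, 3, 5, 1, 2, 1, 2, 0, 3, 0, 3, 0, 4, 2, 0, 3, 4, 2, 0, 4, 3, 0, 3, 4, 0, 4, 0, 4, 2, 2, 0, 3, 4], [5, 2, 1, 3, 3, 5, 1, 5, 1, 5, 2, 1, 2, 5, 1, 3, 5, 2, 1, 3, 5, 1, 2, 1, 2, 1, 3,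 0, 3, 0, 4, 2, 0, 3, 4, 2, 0, 4, 3, 0, 3, 4, 0, 4, 0, 4, 2, 2, 0, 3, 4, 0])) (BT.leaf (52, [3, 5, 2, 1, 3, 3, 5, 1, 5, 1, 5, 2, 1, 2, 5, 1, 3, 5, 2, 1, 3, 5, 1, 2, 1, 2, 2, 3, 0, 3, 0, 4, 2, 0, 3, 4, 2, 0, 4, 3, 0, 3, 4, 0, 4, 0, 4, 2, 2, 0, 3, 4], [5, 2, 1, 3, 3, 5, 1, 5, 1, 5, 2, 1, 2, 5, 1, 3, 5, 2, 1, 3, 5, 1, 2, 1, 2, 3, 3, 0, 3, 0, 4, 2, 0, 3, 4, 2, 0, 4, 3, 0, 3, 4, 0, 4, 0, 4, 2, 2, 0, 3, 4, 2]))) (BT.node 188 (BT.leaf (52, [5, 5, 2, 1, 3, 3, 5, 1, 5, 1, 5, 2, 1, 2, 5, 1, 3, 5, 2, 1, 3, 5, 1, 2, 1, 2, 4, 3, 0, 3, 0, 4, 2, 0, 3, 4, 2, 0, 4, 3, 0, 3, 4, 0, 4, 0, 4, 2, 2, 0, 3, 4], [5, 2, 1, 3, 3, 5, 1, 5, 1, 5, 2, 1, 2, 5, 1, 3, 5, 2, 1, 3, 5, 1, 2, 1, 2, 5, 3, 0, 3, 0, 4, 2, 0, 3, 4, 2, 0, 4, 3, 0,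 3, 4, 0, 4, 0, 4, 2, 2, 0, 3, 4, 4])) (BT.leaf (52, [1, 5, 2, 1, 5, 2, 1, 5, 3, 3, 1, 5, 1, 3, 5, 1, 2, 5, 1, 2, 5, 1, 2, 1, 2, 1, 0, 0, 3, 0, 3, 0, 4, 3, 0, 4, 3, 0, 4, 2, 0, 4, 0, 2, 2, 4, 0, 3, 4, 0, 3, 4], [5, 2, 1, 5, 2, 1, 5, 3, 3, 1, 5, 1, 3, 5, 1, 2, 5, 1, 2, 5, 1, 2, 1, 2, 1, 1, 0, 3, 0, 3, 0, 4, 3, 0, 4, 3, 0, 4, 2, 0, 4, 0, 2, 2, 4, 0, 3, 4, 0, 3, 4, 0])))) (BT.node 191 (BT.node 190 (BT.leaf (52, [3, 5, 2, 1, 5, 2, 1, 5, 3, 3, 1, 5, 1, 3, 5, 1, 2, 5, 1, 2, 5, 1, 2, 1, 2, 1, 2, 0, 3, 0, 3, 0, 4, 3, 0, 4, 3, 0, 4, 2, 0, 4, 0, 2, 2, 4, 0, 3, 4, 0, 3, 4], [5, 2, 1, 5, 2, 1, 5, 3, 3, 1, 5, 1, 3, 5, 1, 2, 5, 1, 2, 5, 1, 2, 1, 2, 1, 3, 0, 3, 0, 3, 0, 4, 3, 0, 4, 3, 0, 4, 2, 0, 4, 0, 2, 2, 4, 0, 3, 4,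 0, 3, 4, 2])) (BT.leaf (52, [5, 5, 2, 1, 5, 2, 1, 5, 3, 3, 1, 5, 1, 3, 5, 1, 2, 5, 1, 2, 5, 1, 2, 1, 2, 1, 4, 0, 3, 0, 3, 0, 4, 3, 0, 4, 3, 0, 4, 2, 0, 4, 0, 2, 2, 4, 0, 3, 4, 0, 3, 4], [5, 2, 1, 5, 2, 1, 5, 3, 3, 1, 5, 1, 3, 5, 1, 2, 5, 1, 2, 5, 1, 2, 1, 2, 1, 5, 0, 3, 0, 3, 0, 4, 3, 0, 4, 3, 0, 4, 2, 0, 4, 0, 2, 2, 4, 0, 3, 4, 0, 3, 4, 4]))) (BT.node 192 (BT.leaf (52, [1, 5, 2, 1, 5, 3, 1, 3, 5, 1, 5, 1, 5, 2, 2, 1, 3, 5, 3, 5, 1, 3, 1, 2, 1, 3, 0, 2, 0, 3, 0, 2, 0, 4, 2, 4, 2, 0, 3, 3, 4, 0, 4, 0, 4, 2, 0, 2, 4, 0, 3, 4], [5, 2, 1, 5, 3, 1, 3, 5, 1, 5, 1, 5, 2, 2, 1, 3, 5, 3, 5, 1, 3, 1, 2, 1, 3, 1, 2, 0, 3, 0, 2, 0, 4, 2, 4, 2, 0, 3, 3, 4, 0, 4, 0, 4, 2, 0, 2, 4, 0, 3, 4, 0])) (BT.leaf (52, [3, 5, 2,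 1, 5, 3, 1, 3, 5, 1, 5, 1, 5, 2, 2, 1, 3, 5, 3, 5, 1, 3, 1, 2, 1, 3, 2, 2, 0, 3, 0, 2, 0, 4, 2, 4, 2, 0, 3, 3, 4, 0, 4, 0, 4, 2, 0, 2, 4, 0, 3, 4], [5, 2, 1, 5, 3, 1, 3, 5, 1, 5, 1, 5, 2, 2, 1, 3, 5, 3, 5, 1, 3, 1, 2, 1, 3, 3, 2, 0, 3, 0, 2, 0, 4, 2, 4, 2, 0, 3, 3, 4, 0, 4, 0, 4, 2, 0, 2, 4, 0, 3, 4, 2])))))))) (BT.node 225 (BT.node 209 (BT.node 201 (BT.node 197 (BT.node 195 (BT.node 194 (BT.leaf (52, [5, 5, 2, 1, 5, 3, 1, 3, 5, 1, 5, 1, 5, 2, 2, 1, 3, 5, 3, 5, 1, 3, 1, 2, 1, 3, 4, 2, 0, 3, 0, 2, 0, 4, 2, 4, 2, 0, 3, 3, 4, 0, 4, 0, 4, 2, 0, 2, 4, 0, 3, 4], [5, 2, 1, 5, 3, 1, 3, 5, 1, 5, 1, 5, 2, 2, 1, 3, 5, 3, 5, 1, 3, 1, 2, 1, 3, 5, 2, 0, 3, 0, 2, 0, 4, 2, 4, 2, 0, 3, 3, 4, 0, 4, 0, 4, 2, 0, 2, 4, 0, 3,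 4, 4])) (BT.leaf (52, [1, 5, 2, 5, 3, 5, 2, 5, 1, 3, 1, 3, 1, 3, 1, 3, 1, 2, 1, 2, 1, 2, 1, 2, 1, 3, 0, 2, 0, 3, 0, 3, 0, 3, 0, 3, 0, 2, 0, 2, 0, 2, 0, 2, 0, 4, 3, 4, 2, 4, 3, 4], [5, 2, 5, 3, 5, 2, 5, 1, 3, 1, 3, 1, 3, 1, 3, 1, 2, 1, 2, 1, 2, 1, 2, 1, 3, 1, 2, 0, 3, 0, 3, 0, 3, 0, 3, 0, 2, 0, 2, 0, 2, 0, 2, 0, 4, 3, 4, 2, 4, 3, 4, 0]))) (BT.node 196 (BT.leaf (52, [3, 5, 2, 5, 3, 5, 2, 5, 1, 3, 1, 3, 1, 3, 1, 3, 1, 2, 1, 2, 1, 2, 1, 2, 1, 3, 2, 2, 0, 3, 0, 3, 0, 3, 0, 3, 0, 2, 0, 2, 0, 2, 0, 2, 0, 4, 3, 4, 2, 4, 3, 4], [5, 2, 5, 3, 5, 2, 5, 1, 3, 1, 3, 1, 3, 1, 3, 1, 2, 1, 2, 1, 2, 1, 2, 1, 3, 3, 2, 0, 3, 0, 3, 0, 3, 0, 3, 0, 2, 0, 2, 0, 2, 0, 2, 0, 4, 3, 4, 2, 4, 3, 4, 2])) (BT.leaf (52, [5, 5, 2, 5, 3,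 5, 2, 5, 1, 3, 1, 3, 1, 3, 1, 3, 1, 2, 1, 2, 1, 2, 1, 2, 1, 3, 4, 2, 0, 3, 0, 3, 0, 3, 0, 3, 0, 2, 0, 2, 0, 2, 0, 2, 0, 4, 3, 4, 2, 4, 3, 4], [5, 2, 5, 3, 5, 2, 5, 1, 3, 1, 3, 1, 3, 1, 3, 1, 2, 1, 2, 1, 2, 1, 2, 1, 3, 5, 2, 0, 3, 0, 3, 0, 3, 0, 3, 0, 2, 0, 2, 0, 2, 0, 2, 0, 4, 3, 4, 2, 4, 3, 4, 4])))) (BT.node 199 (BT.node 198 (BT.leaf (52, [1, 5, 1, 5, 2, 1, 3, 3, 5, 3, 1, 2, 5, 3, 1, 2, 5, 2, 2, 5, 2, 1, 2, 1, 2, 2, 0, 3, 3, 0, 3, 0, 3, 4, 3, 3, 4, 3, 0, 2, 4, 3, 0, 2, 4, 2, 2, 0, 3, 4, 0, 4], [5, 1, 5, 2, 1, 3, 3, 5, 3, 1, 2, 5, 3, 1, 2, 5, 2, 2, 5, 2, 1, 2, 1, 2, 2, 1, 3, 3, 0, 3, 0, 3, 4, 3, 3, 4, 3, 0, 2, 4, 3, 0, 2, 4, 2, 2, 0, 3, 4, 0, 4, 0])) (BT.leaf (52, [3, 5, 1, 5, 2, 1, 3, 3, 5, 3, 1, 2, 5,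 3, 1, 2, 5, 2, 2, 5, 2, 1, 2, 1, 2, 2, 2, 3, 3, 0, 3, 0, 3, 4, 3, 3, 4, 3, 0, 2, 4, 3, 0, 2, 4, 2, 2, 0, 3, 4, 0, 4], [5, 1, 5, 2, 1, 3, 3, 5, 3, 1, 2, 5, 3, 1, 2, 5, 2, 2, 5, 2, 1, 2, 1, 2, 2, 3, 3, 3, 0, 3, 0, 3, 4, 3, 3, 4, 3, 0, 2, 4, 3, 0, 2, 4, 2, 2, 0, 3, 4, 0, 4, 2]))) (BT.node 200 (BT.leaf (52, [5, 5, 1, 5, 2, 1, 3, 3, 5, 3, 1, 2, 5, 3, 1, 2, 5, 2, 2, 5, 2, 1, 2, 1, 2, 2, 4, 3, 3, 0, 3, 0, 3, 4, 3, 3, 4, 3, 0, 2, 4, 3, 0, 2, 4, 2, 2, 0, 3, 4, 0, 4], [5, 1, 5, 2, 1, 3, 3, 5, 3, 1, 2, 5, 3, 1, 2, 5, 2, 2, 5, 2, 1, 2, 1, 2, 2, 5, 3, 3, 0, 3, 0, 3, 4, 3, 3, 4, 3, 0, 2, 4, 3, 0, 2, 4, 2, 2, 0, 3, 4, 0, 4, 4])) (BT.leaf (52, [1, 5, 1, 5, 2, 1, 5, 1, 3, 5, 1, 5, 1, 5, 2, 1, 3, 1, 2, 1, 3, 1, 2, 1, 3, 1,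 0, 0, 2, 0, 3, 0, 2, 0, 3, 0, 2, 0, 3, 4, 0, 4, 0, 4, 2, 0, 4, 0, 3, 4, 0, 4], [5, 1, 5, 2, 1, 5, 1, 3, 5, 1, 5, 1, 5, 2, 1, 3, 1, 2, 1, 3, 1, 2, 1, 3, 1, 1, 0, 2, 0, 3, 0, 2, 0, 3, 0, 2, 0, 3, 4, 0, 4, 0, 4, 2, 0, 4, 0, 3, 4, 0, 4, 0]))))) (BT.node 205 (BT.node 203 (BT.node 202 (BT.leaf (52, [3, 5, 1, 5, 2, 1, 5, 1, 3, 5, 1, 5, 1, 5, 2, 1, 3, 1, 2, 1, 3, 1, 2, 1, 3, 1, 2, 0, 2, 0, 3, 0, 2, 0, 3, 0, 2, 0, 3, 4, 0, 4, 0, 4, 2, 0, 4, 0, 3, 4, 0, 4], [5, 1, 5, 2, 1, 5, 1, 3, 5, 1, 5, 1, 5, 2, 1, 3, 1, 2, 1, 3, 1, 2, 1, 3, 1, 3, 0, 2, 0, 3, 0, 2, 0, 3, 0, 2, 0, 3, 4, 0, 4, 0, 4, 2, 0, 4, 0, 3, 4, 0, 4, 2])) (BT.leaf (52, [5, 5, 1, 5, 2, 1, 5, 1, 3, 5, 1, 5, 1, 5, 2, 1, 3, 1, 2, 1, 3, 1, 2, 1, 3, 1, 4, 0, 2,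 0, 3, 0, 2, 0, 3, 0, 2, 0, 3, 4, 0, 4, 0, 4, 2, 0, 4, 0, 3, 4, 0, 4], [5, 1, 5, 2, 1, 5, 1, 3, 5, 1, 5, 1, 5, 2, 1, 3, 1, 2, 1, 3, 1, 2, 1, 3, 1, 5, 0, 2, 0, 3, 0, 2, 0, 3, 0, 2, 0, 3, 4, 0, 4, 0, 4, 2, 0, 4, 0, 3, 4, 0, 4, 4]))) (BT.node 204 (BT.leaf (52, [1, 5, 1, 5, 1, 5, 2, 1, 5, 1, 3, 5, 1, 5, 2, 1, 3, 1, 2, 1, 3, 1, 2, 1, 3, 1, 0, 0, 2, 0, 3, 0, 2, 0, 3, 0, 2, 0, 3, 4, 0, 4, 2, 0, 4, 0, 3, 4, 0, 4, 0, 4], [5, 1, 5, 1, 5, 2, 1, 5, 1, 3, 5, 1, 5, 2, 1, 3, 1, 2, 1, 3, 1, 2, 1, 3, 1, 1, 0, 2, 0, 3, 0, 2, 0, 3, 0, 2, 0, 3, 4, 0, 4, 2, 0, 4, 0, 3, 4, 0, 4, 0, 4, 0])) (BT.leaf (52, [3, 5, 1, 5, 1, 5, 2, 1, 5, 1, 3, 5, 1, 5, 2, 1, 3, 1, 2, 1, 3, 1, 2, 1, 3, 1, 2, 0, 2, 0, 3, 0, 2, 0, 3, 0, 2, 0, 3, 4, 0, 4,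 2, 0, 4, 0, 3, 4, 0, 4, 0, 4], [5, 1, 5, 1, 5, 2, 1, 5, 1, 3, 5, 1, 5, 2, 1, 3, 1, 2, 1, 3, 1, 2, 1, 3, 1, 3, 0, 2, 0, 3, 0, 2, 0, 3, 0, 2, 0, 3, 4, 0, 4, 2, 0, 4, 0, 3, 4, 0, 4, 0, 4, 2])))) (BT.node 207 (BT.node 206 (BT.leaf (52, [5, 5, 1, 5, 1, 5, 2, 1, 5, 1, 3, 5, 1, 5, 2, 1, 3, 1, 2, 1, 3, 1, 2, 1, 3, 1, 4, 0, 2, 0, 3, 0, 2, 0, 3, 0, 2, 0, 3, 4, 0, 4, 2, 0, 4, 0, 3, 4, 0, 4, 0, 4], [5, 1, 5, 1, 5, 2, 1, 5, 1, 3, 5, 1, 5, 2, 1, 3, 1, 2, 1, 3, 1, 2, 1, 3, 1, 5, 0, 2, 0, 3, 0, 2, 0, 3, 0, 2, 0, 3, 4, 0, 4, 2, 0, 4, 0, 3, 4, 0, 4, 0, 4, 4])) (BT.leaf (52, [1, 5, 1, 5, 1, 5, 3, 1, 5, 1, 2, 5, 1, 5, 2, 1, 3, 1, 2, 1, 3, 1, 2, 1, 3, 1, 0, 0, 2, 0, 3, 0, 2, 0, 3, 0, 2, 0, 3, 4, 0, 4, 3, 0, 4, 0, 2, 4, 0, 4,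 0, 4], [5, 1, 5, 1, 5, 3, 1, 5, 1, 2, 5, 1, 5, 2, 1, 3, 1, 2, 1, 3, 1, 2, 1, 3, 1, 1, 0, 2, 0, 3, 0, 2, 0, 3, 0, 2, 0, 3, 4, 0, 4, 3, 0, 4, 0, 2, 4, 0, 4, 0, 4, 0]))) (BT.node 208 (BT.leaf (52, [3, 5, 1, 5, 1, 5, 3, 1, 5, 1, 2, 5, 1, 5, 2, 1, 3, 1, 2, 1, 3, 1, 2, 1, 3, 1, 2, 0, 2, 0, 3, 0, 2, 0, 3, 0, 2, 0, 3, 4, 0, 4, 3, 0, 4, 0, 2, 4, 0, 4, 0, 4], [5, 1, 5, 1, 5, 3, 1, 5, 1, 2, 5, 1, 5, 2, 1, 3, 1, 2, 1, 3, 1, 2, 1, 3, 1, 3, 0, 2, 0, 3, 0, 2, 0, 3, 0, 2, 0, 3, 4, 0, 4, 3, 0, 4, 0, 2, 4, 0, 4, 0, 4, 2])) (BT.leaf (52, [5, 5, 1, 5, 1, 5, 3, 1, 5, 1, 2, 5, 1, 5, 2, 1, 3, 1, 2, 1, 3, 1, 2, 1, 3, 1, 4, 0, 2, 0, 3, 0, 2, 0, 3, 0, 2, 0, 3, 4, 0, 4, 3, 0, 4, 0, 2, 4, 0, 4, 0, 4], [5, 1, 5, 1, 5, 3, 1, 5, 1, 2,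 5, 1, 5, 2, 1, 3, 1, 2, 1, 3, 1, 2, 1, 3, 1, 5, 0, 2, 0, 3, 0, 2, 0, 3, 0, 2, 0, 3, 4, 0, 4, 3, 0, 4, 0, 2, 4, 0, 4, 0, 4, 4])))))) (BT.node 217 (BT.node 213 (BT.node 211 (BT.node 210 (BT.leaf (52, [1, 5, 1, 5, 3, 1, 3, 1, 2, 1, 3, 1, 3, 5, 2, 2, 5, 2, 1, 2, 1, 3, 1, 2, 1, 2, 0, 3, 0, 3, 0, 2, 0, 3, 0, 3, 4, 3, 3, 4, 2, 0, 2, 0, 3, 0, 2, 0, 2, 4, 0, 4], [5, 1, 5, 3, 1, 3, 1, 2, 1, 3, 1, 3, 5, 2, 2, 5, 2, 1, 2, 1, 3, 1, 2, 1, 2, 1, 3, 0, 3, 0, 2, 0, 3, 0, 3, 4, 3, 3, 4, 2, 0, 2, 0, 3, 0, 2, 0, 2, 4, 0, 4, 0])) (BT.leaf (52, [3, 5, 1, 5, 3, 1, 3, 1, 2, 1, 3, 1, 3, 5, 2, 2, 5, 2, 1, 2, 1, 3, 1, 2, 1, 2, 2, 3, 0, 3, 0, 2, 0, 3, 0, 3, 4, 3, 3, 4, 2, 0, 2, 0, 3, 0, 2, 0, 2, 4, 0, 4], [5, 1, 5, 3, 1, 3, 1, 2, 1,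 3, 1, 3, 5, 2, 2, 5, 2, 1, 2, 1, 3, 1, 2, 1, 2, 3, 3, 0, 3, 0, 2, 0, 3, 0, 3, 4, 3, 3, 4, 2, 0, 2, 0, 3, 0, 2, 0, 2, 4, 0, 4, 2]))) (BT.node 212 (BT.leaf (52, [5, 5, 1, 5, 3, 1, 3, 1, 2, 1, 3, 1, 3, 5, 2, 2, 5, 2, 1, 2, 1, 3, 1, 2, 1, 2, 4, 3, 0, 3, 0, 2, 0, 3, 0, 3, 4, 3, 3, 4, 2, 0, 2, 0, 3, 0, 2, 0, 2, 4, 0, 4], [5, 1, 5, 3, 1, 3, 1, 2, 1, 3, 1, 3, 5, 2, 2, 5, 2, 1, 2, 1, 3, 1, 2, 1, 2, 5, 3, 0, 3, 0, 2, 0, 3, 0, 3, 4, 3, 3, 4, 2, 0, 2, 0, 3, 0, 2, 0, 2, 4, 0, 4, 4])) (BT.leaf (52, [1, 5, 1, 5, 3, 1, 5, 1, 2, 5, 1, 5, 1, 5, 2, 1, 3, 1, 2, 1, 3, 1, 2, 1, 3, 1, 0, 0, 2, 0, 3, 0, 2, 0, 3, 0, 2, 0, 3, 4, 0, 4, 0, 4, 3, 0, 4, 0, 2, 4, 0, 4], [5, 1, 5, 3, 1, 5, 1, 2, 5, 1, 5, 1, 5, 2, 1, 3, 1, 2, 1, 3, 1, 2,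 1, 3, 1, 1, 0, 2, 0, 3, 0, 2, 0, 3, 0, 2, 0, 3, 4, 0, 4, 0, 4, 3, 0, 4, 0, 2, 4, 0, 4, 0])))) (BT.node 215 (BT.node 214 (BT.leaf (52, [3, 5, 1, 5, 3, 1, 5, 1, 2, 5, 1, 5, 1, 5, 2, 1, 3, 1, 2, 1, 3, 1, 2, 1, 3, 1, 2, 0, 2, 0, 3, 0, 2, 0, 3, 0, 2, 0, 3, 4, 0, 4, 0, 4, 3, 0, 4, 0, 2, 4, 0, 4], [5, 1, 5, 3, 1, 5, 1, 2, 5, 1, 5, 1, 5, 2, 1, 3, 1, 2, 1, 3, 1, 2, 1, 3, 1, 3, 0, 2, 0, 3, 0, 2, 0, 3, 0, 2, 0, 3, 4, 0, 4, 0, 4, 3, 0, 4, 0, 2, 4, 0, 4, 2])) (BT.leaf (52, [5, 5, 1, 5, 3, 1, 5, 1, 2, 5, 1, 5, 1, 5, 2, 1, 3, 1, 2, 1, 3, 1, 2, 1, 3, 1, 4, 0, 2, 0, 3, 0, 2, 0, 3, 0, 2, 0, 3, 4, 0, 4, 0, 4, 3, 0, 4, 0, 2, 4, 0, 4], [5, 1, 5, 3, 1, 5, 1, 2, 5, 1, 5, 1, 5, 2, 1, 3, 1, 2, 1, 3, 1, 2, 1, 3, 1, 5, 0, 2, 0, 3,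 0, 2, 0, 3, 0, 2, 0, 3, 4, 0, 4, 0, 4, 3, 0, 4, 0, 2, 4, 0, 4, 4]))) (BT.node 216 (BT.leaf (52, [1, 5, 3, 1, 3, 3, 5, 3, 3, 5, 2, 1, 3, 5, 2, 1, 3, 5, 2, 2, 5, 3, 1, 3, 1, 2, 0, 3, 0, 2, 0, 2, 4, 3, 3, 4, 2, 0, 3, 4, 2, 0, 3, 4, 2, 2, 4, 2, 2, 0, 2, 4], [5, 3, 1, 3, 3, 5, 3, 3, 5, 2, 1, 3, 5, 2, 1, 3, 5, 2, 2, 5, 3, 1, 3, 1, 2, 1, 3, 0, 2, 0, 2, 4, 3, 3, 4, 2, 0, 3, 4, 2, 0, 3, 4, 2, 2, 4, 2, 2, 0, 2, 4, 0])) (BT.leaf (52, [3, 5, 3, 1, 3, 3, 5, 3, 3, 5, 2, 1, 3, 5, 2, 1, 3, 5, 2, 2, 5, 3, 1, 3, 1, 2, 2, 3, 0, 2, 0, 2, 4, 3, 3, 4, 2, 0, 3, 4, 2, 0, 3, 4, 2, 2, 4, 2, 2, 0, 2, 4], [5, 3, 1, 3, 3, 5, 3, 3, 5, 2, 1, 3, 5, 2, 1, 3, 5, 2, 2, 5, 3, 1, 3, 1, 2, 3, 3, 0, 2, 0, 2, 4, 3, 3, 4, 2, 0, 3, 4, 2, 0, 3, 4,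 2, 2, 4, 2, 2, 0, 2, 4, 2]))))) (BT.node 221 (BT.node 219 (BT.node 218 (BT.leaf (52, [5, 5, 3, 1, 3, 3, 5, 3, 3, 5, 2, 1, 3, 5, 2, 1, 3, 5, 2, 2, 5, 3, 1, 3, 1, 2, 4, 3, 0, 2, 0, 2, 4, 3, 3, 4, 2, 0, 3, 4, 2, 0, 3, 4, 2, 2, 4, 2, 2, 0, 2, 4], [5, 3, 1, 3, 3, 5, 3, 3, 5, 2, 1, 3, 5, 2, 1, 3, 5, 2, 2, 5, 3, 1, 3, 1, 2, 5, 3, 0, 2, 0, 2, 4, 3, 3, 4, 2, 0, 3, 4, 2, 0, 3, 4, 2, 2, 4, 2, 2, 0, 2, 4, 4])) (BT.leaf (52, [1, 5, 3, 1, 5, 3, 5, 3, 1, 3, 3, 5, 1, 3, 5, 1, 2, 2, 5, 1, 5, 2, 5, 2, 1, 2, 0, 3, 0, 3, 4, 3, 4, 0, 4, 3, 3, 0, 4, 2, 0, 4, 2, 2, 0, 2, 4, 2, 4, 0, 2, 4], [5, 3, 1, 5, 3, 5, 3, 1, 3, 3, 5, 1, 3, 5, 1, 2, 2, 5, 1, 5, 2, 5, 2, 1, 2, 1, 3, 0, 3, 4, 3, 4, 0, 4, 3, 3, 0, 4, 2, 0, 4, 2, 2, 0, 2, 4,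 2, 4, 0, 2, 4, 0]))) (BT.node 220 (BT.leaf (52, [3, 5, 3, 1, 5, 3, 5, 3, 1, 3, 3, 5, 1, 3, 5, 1, 2, 2, 5, 1, 5, 2, 5, 2, 1, 2, 2, 3, 0, 3, 4, 3, 4, 0, 4, 3, 3, 0, 4, 2, 0, 4, 2, 2, 0, 2, 4, 2, 4, 0, 2, 4], [5, 3, 1, 5, 3, 5, 3, 1, 3, 3, 5, 1, 3, 5, 1, 2, 2, 5, 1, 5, 2, 5, 2, 1, 2, 3, 3, 0, 3, 4, 3, 4, 0, 4, 3, 3, 0, 4, 2, 0, 4, 2, 2, 0, 2, 4, 2, 4, 0, 2, 4, 2])) (BT.leaf (52, [5, 5, 3, 1, 5, 3, 5, 3, 1, 3, 3, 5, 1, 3, 5, 1, 2, 2, 5, 1, 5, 2, 5, 2, 1, 2, 4, 3, 0, 3, 4, 3, 4, 0, 4, 3, 3, 0, 4, 2, 0, 4, 2, 2, 0, 2, 4, 2, 4, 0, 2, 4], [5, 3, 1, 5, 3, 5, 3, 1, 3, 3, 5, 1, 3, 5, 1, 2, 2, 5, 1, 5, 2, 5, 2, 1, 2, 5, 3, 0, 3, 4, 3, 4, 0, 4, 3, 3, 0, 4, 2, 0, 4, 2, 2, 0, 2, 4, 2, 4, 0, 2, 4, 4])))) (BT.node 223 (BT.node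 222 (BT.leaf (52, [1, 5, 3, 3, 5, 3, 1, 2, 5, 3, 1, 2, 5, 2, 2, 1, 3, 5, 1, 5, 2, 2, 1, 3, 1, 3, 0, 2, 0, 2, 0, 3, 3, 4, 0, 4, 2, 0, 3, 3, 4, 3, 0, 2, 4, 3, 0, 2, 4, 2, 2, 4], [5, 3, 3, 5, 3, 1, 2, 5, 3, 1, 2, 5, 2, 2, 1, 3, 5, 1, 5, 2, 2, 1, 3, 1, 3, 1, 2, 0, 2, 0, 3, 3, 4, 0, 4, 2, 0, 3, 3, 4, 3, 0, 2, 4, 3, 0, 2, 4, 2, 2, 4, 0])) (BT.leaf (52, [3, 5, 3, 3, 5, 3, 1, 2, 5, 3, 1, 2, 5, 2, 2, 1, 3, 5, 1, 5, 2, 2, 1, 3, 1, 3, 2, 2, 0, 2, 0, 3, 3, 4, 0, 4, 2, 0, 3, 3, 4, 3, 0, 2, 4, 3, 0, 2, 4, 2, 2, 4], [5, 3, 3, 5, 3, 1, 2, 5, 3, 1, 2, 5, 2, 2, 1, 3, 5, 1, 5, 2, 2, 1, 3, 1, 3, 3, 2, 0, 2, 0, 3, 3, 4, 0, 4, 2, 0, 3, 3, 4, 3, 0, 2, 4, 3, 0, 2, 4, 2, 2, 4, 2]))) (BT.node 224 (BT.leaf (52, [5, 5, 3, 3, 5, 3,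 1, 2, 5, 3, 1, 2, 5, 2, 2, 1, 3, 5, 1, 5, 2, 2, 1, 3, 1, 3, 4, 2, 0, 2, 0, 3, 3, 4, 0, 4, 2, 0, 3, 3, 4, 3, 0, 2, 4, 3, 0, 2, 4, 2, 2, 4], [5, 3, 3, 5, 3, 1, 2, 5, 3, 1, 2, 5, 2, 2, 1, 3, 5, 1, 5, 2, 2, 1, 3, 1, 3, 5, 2, 0, 2, 0, 3, 3, 4, 0, 4, 2, 0, 3, 3, 4, 3, 0, 2, 4, 3, 0, 2, 4, 2, 2, 4, 4])) (BT.leaf (54, [1, 5, 2, 1, 2, 1, 2, 1, 2, 5, 3, 5, 2, 2, 5, 3, 5, 2, 1, 3, 5, 2, 2, 1, 3, 1, 3, 0, 2, 0, 2, 0, 3, 3, 4, 2, 0, 3, 4, 2, 4, 3, 3, 4, 2, 4, 3, 0, 3, 0, 3, 0, 3, 4], [5, 2, 1, 2, 1, 2, 1, 2, 5, 3, 5, 2, 2, 5, 3, 5, 2, 1, 3, 5, 2, 2, 1, 3, 1, 3, 1, 2, 0, 2, 0, 3, 3, 4, 2, 0, 3, 4, 2, 4, 3, 3, 4, 2, 4, 3, 0, 3, 0, 3, 0, 3, 4, 0]))))))) (BT.node 241 (BT.node 233 (BT.node 229 (BT.node 227 (BT.node 226 (BT.leaf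 (54, [3, 5, 2, 1, 2, 1, 2, 1, 2, 5, 3, 5, 2, 2, 5, 3, 5, 2, 1, 3, 5, 2, 2, 1, 3, 1, 3, 2, 2, 0, 2, 0, 3, 3, 4, 2, 0, 3, 4, 2, 4, 3, 3, 4, 2, 4, 3, 0, 3, 0, 3, 0, 3, 4], [5, 2, 1, 2, 1, 2, 1, 2, 5, 3, 5, 2, 2, 5, 3, 5, 2, 1, 3, 5, 2, 2, 1, 3, 1, 3, 3, 2, 0, 2, 0, 3, 3, 4, 2, 0, 3, 4, 2, 4, 3, 3, 4, 2, 4, 3, 0, 3, 0, 3, 0, 3, 4, 2])) (BT.leaf (54, [5, 5, 2, 1, 2, 1, 2, 1, 2, 5, 3, 5, 2, 2, 5, 3, 5, 2, 1, 3, 5, 2, 2, 1, 3, 1, 3, 4, 2, 0, 2, 0, 3, 3, 4, 2, 0, 3, 4, 2, 4, 3, 3, 4, 2, 4, 3, 0, 3, 0, 3, 0, 3, 4], [5, 2, 1, 2, 1, 2, 1, 2, 5, 3, 5, 2, 2, 5, 3, 5, 2, 1, 3, 5, 2, 2, 1, 3, 1, 3, 5, 2, 0, 2, 0, 3, 3, 4, 2, 0, 3, 4, 2, 4, 3, 3, 4, 2, 4, 3, 0, 3, 0, 3, 0, 3, 4, 4]))) (BT.node 228 (BT.leaf (54, [1, 5, 2,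 1, 3, 1, 2, 5, 1, 3, 1, 5, 2, 1, 3, 5, 2, 1, 3, 1, 2, 1, 3, 1, 2, 1, 3, 0, 2, 0, 3, 0, 2, 0, 3, 0, 2, 0, 3, 4, 2, 0, 3, 4, 0, 2, 0, 4, 3, 0, 2, 0, 3, 4], [5, 2, 1, 3, 1, 2, 5, 1, 3, 1, 5, 2, 1, 3, 5, 2, 1, 3, 1, 2, 1, 3, 1, 2, 1, 3, 1, 2, 0, 3, 0, 2, 0, 3, 0, 2, 0, 3, 4, 2, 0, 3, 4, 0, 2, 0, 4, 3, 0, 2, 0, 3, 4, 0])) (BT.leaf (54, [3, 5, 2, 1, 3, 1, 2, 5, 1, 3, 1, 5, 2, 1, 3, 5, 2, 1, 3, 1, 2, 1, 3, 1, 2, 1, 3, 2, 2, 0, 3, 0, 2, 0, 3, 0, 2, 0, 3, 4, 2, 0, 3, 4, 0, 2, 0, 4, 3, 0, 2, 0, 3, 4], [5, 2, 1, 3, 1, 2, 5, 1, 3, 1, 5, 2, 1, 3, 5, 2, 1, 3, 1, 2, 1, 3, 1, 2, 1, 3, 3, 2, 0, 3, 0, 2, 0, 3, 0, 2, 0, 3, 4, 2, 0, 3, 4, 0, 2, 0, 4, 3, 0, 2, 0, 3, 4, 2])))) (BT.node 231 (BT.node 230 (BT.leaf (54, [5, 5, 2,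 1, 3, 1, 2, 5, 1, 3, 1, 5, 2, 1, 3, 5, 2, 1, 3, 1, 2, 1, 3, 1, 2, 1, 3, 4, 2, 0, 3, 0, 2, 0, 3, 0, 2, 0, 3, 4, 2, 0, 3, 4, 0, 2, 0, 4, 3, 0, 2, 0, 3, 4], [5, 2, 1, 3, 1, 2, 5, 1, 3, 1, 5, 2, 1, 3, 5, 2, 1, 3, 1, 2, 1, 3, 1, 2, 1, 3, 5, 2, 0, 3, 0, 2, 0, 3, 0, 2, 0, 3, 4, 2, 0, 3, 4, 0, 2, 0, 4, 3, 0, 2, 0, 3, 4, 4])) (BT.leaf (54, [1, 5, 2, 1, 3, 5, 2, 5, 3, 3, 5, 2, 5, 3, 1, 3, 1, 3, 1, 3, 5, 2, 1, 2, 1, 2, 2, 0, 3, 3, 0, 3, 0, 3, 4, 2, 0, 2, 0, 2, 0, 2, 4, 3, 4, 2, 2, 4, 3, 4, 2, 0, 3, 4], [5, 2, 1, 3, 5, 2, 5, 3, 3, 5, 2, 5, 3, 1, 3, 1, 3, 1, 3, 5, 2, 1, 2, 1, 2, 2, 1, 3, 3, 0, 3, 0, 3, 4, 2, 0, 2, 0, 2, 0, 2, 4, 3, 4, 2, 2, 4, 3, 4, 2, 0, 3, 4, 0]))) (BT.node 232 (BT.leaf (54, [3, 5, 2, 1, 3, 5, 2, 5,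 3, 3, 5, 2, 5, 3, 1, 3, 1, 3, 1, 3, 5, 2, 1, 2, 1, 2, 2, 2, 3, 3, 0, 3, 0, 3, 4, 2, 0, 2, 0, 2, 0, 2, 4, 3, 4, 2, 2, 4, 3, 4, 2, 0, 3, 4], [5, 2, 1, 3, 5, 2, 5, 3, 3, 5, 2, 5, 3, 1, 3, 1, 3, 1, 3, 5, 2, 1, 2, 1, 2, 2, 3, 3, 3, 0, 3, 0, 3, 4, 2, 0, 2, 0, 2, 0, 2, 4, 3, 4, 2, 2, 4, 3, 4, 2, 0, 3, 4, 2])) (BT.leaf (54, [5, 5, 2, 1, 3, 5, 2, 5, 3, 3, 5, 2, 5, 3, 1, 3, 1, 3, 1, 3, 5, 2, 1, 2, 1, 2, 2, 4, 3, 3, 0, 3, 0, 3, 4, 2, 0, 2, 0, 2, 0, 2, 4, 3, 4, 2, 2, 4, 3, 4, 2, 0, 3, 4], [5, 2, 1, 3, 5, 2, 5, 3, 3, 5, 2, 5, 3, 1, 3, 1, 3, 1, 3, 5, 2, 1, 2, 1, 2, 2, 5, 3, 3, 0, 3, 0, 3, 4, 2, 0, 2, 0, 2, 0, 2, 4, 3, 4, 2, 2, 4, 3, 4, 2, 0, 3, 4, 4]))))) (BT.node 237 (BT.node 235 (BT.node 234 (BT.leaf (54, [1, 5, 2,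 1, 3, 5, 3, 3, 1, 5, 2, 5, 2, 5, 2, 5, 1, 5, 3, 5, 3, 5, 3, 5, 1, 2, 2, 0, 3, 3, 0, 4, 2, 4, 2, 4, 2, 4, 0, 4, 3, 4, 3, 4, 3, 4, 0, 2, 2, 4, 2, 0, 3, 4], [5, 2, 1, 3, 5, 3, 3, 1, 5, 2, 5, 2, 5, 2, 5, 1, 5, 3, 5, 3, 5, 3, 5, 1, 2, 2, 1, 3, 3, 0, 4, 2, 4, 2, 4, 2, 4, 0, 4, 3, 4, 3, 4, 3, 4, 0, 2, 2, 4, 2, 0, 3, 4, 0])) (BT.leaf (54, [3, 5, 2, 1, 3, 5, 3, 3, 1, 5, 2, 5, 2, 5, 2, 5, 1, 5, 3, 5, 3, 5, 3, 5, 1, 2, 2, 2, 3, 3, 0, 4, 2, 4, 2, 4, 2, 4, 0, 4, 3, 4, 3, 4, 3, 4, 0, 2, 2, 4, 2, 0, 3, 4], [5, 2, 1, 3, 5, 3, 3, 1, 5, 2, 5, 2, 5, 2, 5, 1, 5, 3, 5, 3, 5, 3, 5, 1, 2, 2, 3, 3, 3, 0, 4, 2, 4, 2, 4, 2, 4, 0, 4, 3, 4, 3, 4, 3, 4, 0, 2, 2, 4, 2, 0, 3, 4, 2]))) (BT.node 236 (BT.leaf (54, [5, 5, 2, 1, 3, 5, 3, 3,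 1, 5, 2, 5, 2, 5, 2, 5, 1, 5, 3, 5, 3, 5, 3, 5, 1, 2, 2, 4, 3, 3, 0, 4, 2, 4, 2, 4, 2, 4, 0, 4, 3, 4, 3, 4, 3, 4, 0, 2, 2, 4, 2, 0, 3, 4], [5, 2, 1, 3, 5, 3, 3, 1, 5, 2, 5, 2, 5, 2, 5, 1, 5, 3, 5, 3, 5, 3, 5, 1, 2, 2, 5, 3, 3, 0, 4, 2, 4, 2, 4, 2, 4, 0, 4, 3, 4, 3, 4, 3, 4, 0, 2, 2, 4, 2, 0, 3, 4, 4])) (BT.leaf (54, [1, 5, 2, 1, 5, 3, 1, 2, 1, 3, 1, 2, 5, 1, 3, 5, 2, 1, 3, 1, 2, 1, 3, 1, 2, 1, 3, 0, 2, 0, 3, 0, 2, 0, 3, 0, 2, 0, 3, 4, 2, 0, 4, 3, 0, 2, 0, 3, 0, 2, 4, 0, 3, 4], [5, 2, 1, 5, 3, 1, 2, 1, 3, 1, 2, 5, 1, 3, 5, 2, 1, 3, 1, 2, 1, 3, 1, 2, 1, 3, 1, 2, 0, 3, 0, 2, 0, 3, 0, 2, 0, 3, 4, 2, 0, 4, 3, 0, 2, 0, 3, 0, 2, 4, 0, 3, 4, 0])))) (BT.node 239 (BT.node 238 (BT.leaf (54, [3, 5, 2, 1, 5, 3, 1, 2,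 1, 3, 1, 2, 5, 1, 3, 5, 2, 1, 3, 1, 2, 1, 3, 1, 2, 1, 3, 2, 2, 0, 3, 0, 2, 0, 3, 0, 2, 0, 3, 4, 2, 0, 4, 3, 0, 2, 0, 3, 0, 2, 4, 0, 3, 4], [5, 2, 1, 5, 3, 1, 2, 1, 3, 1, 2, 5, 1, 3, 5, 2, 1, 3, 1, 2, 1, 3, 1, 2, 1, 3, 3, 2, 0, 3, 0, 2, 0, 3, 0, 2, 0, 3, 4, 2, 0, 4, 3, 0, 2, 0, 3, 0, 2, 4, 0, 3, 4, 2])) (BT.leaf (54, [5, 5, 2, 1, 5, 3, 1, 2, 1, 3, 1, 2, 5, 1, 3, 5, 2, 1, 3, 1, 2, 1, 3, 1, 2, 1, 3, 4, 2, 0, 3, 0, 2, 0, 3, 0, 2, 0, 3, 4, 2, 0, 4, 3, 0, 2, 0, 3, 0, 2, 4, 0, 3, 4], [5, 2, 1, 5, 3, 1, 2, 1, 3, 1, 2, 5, 1, 3, 5, 2, 1, 3, 1, 2, 1, 3, 1, 2, 1, 3, 5, 2, 0, 3, 0, 2, 0, 3, 0, 2, 0, 3, 4, 2, 0, 4, 3, 0, 2, 0, 3, 0, 2, 4, 0, 3, 4, 4]))) (BT.node 240 (BT.leaf (54, [1, 5, 2, 1, 5, 3, 1, 5, 2, 1, 5, 1, 5,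 1, 3, 5, 1, 2, 5, 1, 3, 5, 1, 2, 1, 3, 1, 0, 0, 2, 0, 3, 0, 4, 2, 0, 4, 3, 0, 4, 2, 0, 4, 0, 4, 0, 3, 4, 0, 2, 4, 0, 3, 4], [5, 2, 1, 5, 3, 1, 5, 2, 1, 5, 1, 5, 1, 3, 5, 1, 2, 5, 1, 3, 5, 1, 2, 1, 3, 1, 1, 0, 2, 0, 3, 0, 4, 2, 0, 4, 3, 0, 4, 2, 0, 4, 0, 4, 0, 3, 4, 0, 2, 4, 0, 3, 4, 0])) (BT.leaf (54, [3, 5, 2, 1, 5, 3, 1, 5, 2, 1, 5, 1, 5, 1, 3, 5, 1, 2, 5, 1, 3, 5, 1, 2, 1, 3, 1, 2, 0, 2, 0, 3, 0, 4, 2, 0, 4, 3, 0, 4, 2, 0, 4, 0, 4, 0, 3, 4, 0, 2, 4, 0, 3, 4], [5, 2, 1, 5, 3, 1, 5, 2, 1, 5, 1, 5, 1, 3, 5, 1, 2, 5, 1, 3, 5, 1, 2, 1, 3, 1, 3, 0, 2, 0, 3, 0, 4, 2, 0, 4, 3, 0, 4, 2, 0, 4, 0, 4, 0, 3, 4, 0, 2, 4, 0, 3, 4, 2])))))) (BT.node 249 (BT.node 245 (BT.node 243 (BT.node 242 (BT.leaf (54, [5, 5, 2, 1,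 5, 3, 1, 5, 2, 1, 5, 1, 5, 1, 3, 5, 1, 2, 5, 1, 3, 5, 1, 2, 1, 3, 1, 4, 0, 2, 0, 3, 0, 4, 2, 0, 4, 3, 0, 4, 2, 0, 4, 0, 4, 0, 3, 4, 0, 2, 4, 0, 3, 4], [5, 2, 1, 5, 3, 1, 5, 2, 1, 5, 1, 5, 1, 3, 5, 1, 2, 5, 1, 3, 5, 1, 2, 1, 3, 1, 5, 0, 2, 0, 3, 0, 4, 2, 0, 4, 3, 0, 4, 2, 0, 4, 0, 4, 0, 3, 4, 0, 2, 4, 0, 3, 4, 4])) (BT.leaf (54, [1, 5, 2, 1, 5, 3, 1, 5, 2, 1, 5, 3, 1, 5, 2, 1, 5, 3, 1, 5, 1, 5, 1, 2, 1, 3, 1, 0, 0, 2, 0, 3, 0, 4, 0, 4, 0, 2, 4, 0, 3, 4, 0, 2, 4, 0, 3, 4, 0, 2, 4, 0, 3, 4], [5, 2, 1, 5, 3, 1, 5, 2, 1, 5, 3, 1, 5, 2, 1, 5, 3, 1, 5, 1, 5, 1, 2, 1, 3, 1, 1, 0, 2, 0, 3, 0, 4, 0, 4, 0, 2, 4, 0, 3, 4, 0, 2, 4, 0, 3, 4, 0, 2, 4, 0, 3, 4, 0]))) (BT.node 244 (BT.leaf (54, [3, 5, 2, 1, 5, 3, 1, 5, 2,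 1, 5, 3, 1, 5, 2, 1, 5, 3, 1, 5, 1, 5, 1, 2, 1, 3, 1, 2, 0, 2, 0, 3, 0, 4, 0, 4, 0, 2, 4, 0, 3, 4, 0, 2, 4, 0, 3, 4, 0, 2, 4, 0, 3, 4], [5, 2, 1, 5, 3, 1, 5, 2, 1, 5, 3, 1, 5, 2, 1, 5, 3, 1, 5, 1, 5, 1, 2, 1, 3, 1, 3, 0, 2, 0, 3, 0, 4, 0, 4, 0, 2, 4, 0, 3, 4, 0, 2, 4, 0, 3, 4, 0, 2, 4, 0, 3, 4, 2])) (BT.leaf (54, [5, 5, 2, 1, 5, 3, 1, 5, 2, 1, 5, 3, 1, 5, 2, 1, 5, 3, 1, 5, 1, 5, 1, 2, 1, 3, 1, 4, 0, 2, 0, 3, 0, 4, 0, 4, 0, 2, 4, 0, 3, 4, 0, 2, 4, 0, 3, 4, 0, 2, 4, 0, 3, 4], [5, 2, 1, 5, 3, 1, 5, 2, 1, 5, 3, 1, 5, 2, 1, 5, 3, 1, 5, 1, 5, 1, 2, 1, 3, 1, 5, 0, 2, 0, 3, 0, 4, 0, 4, 0, 2, 4, 0, 3, 4, 0, 2, 4, 0, 3, 4, 0, 2, 4, 0, 3, 4, 4])))) (BT.node 247 (BT.node 246 (BT.leaf (54, [1, 5, 2, 5, 2, 5, 2, 5, 1,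 5, 3, 5, 3, 5, 3, 5, 1, 2, 2, 5, 2, 1, 3, 5, 2, 2, 1, 0, 0, 3, 3, 4, 2, 0, 3, 4, 3, 3, 0, 4, 2, 4, 2, 4, 2, 4, 0, 4, 3, 4, 3, 4, 3, 4], [5, 2, 5, 2, 5, 2, 5, 1, 5, 3, 5, 3, 5, 3, 5, 1, 2, 2, 5, 2, 1, 3, 5, 2, 2, 1, 1, 0, 3, 3, 4, 2, 0, 3, 4, 3, 3, 0, 4, 2, 4, 2, 4, 2, 4, 0, 4, 3, 4, 3, 4, 3, 4, 0])) (BT.leaf (54, [3, 5, 2, 5, 2, 5, 2, 5, 1, 5, 3, 5, 3, 5, 3, 5, 1, 2, 2, 5, 2, 1, 3, 5, 2, 2, 1, 2, 0, 3, 3, 4, 2, 0, 3, 4, 3, 3, 0, 4, 2, 4, 2, 4, 2, 4, 0, 4, 3, 4, 3, 4, 3, 4], [5, 2, 5, 2, 5, 2, 5, 1, 5, 3, 5, 3, 5, 3, 5, 1, 2, 2, 5, 2, 1, 3, 5, 2, 2, 1, 3, 0, 3, 3, 4, 2, 0, 3, 4, 3, 3, 0, 4, 2, 4, 2, 4, 2, 4, 0, 4, 3, 4, 3, 4, 3, 4, 2]))) (BT.node 248 (BT.leaf (54, [5, 5, 2, 5, 2, 5, 2, 5, 1, 5, 3, 5, 3, 5,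 3, 5, 1, 2, 2, 5, 2, 1, 3, 5, 2, 2, 1, 4, 0, 3, 3, 4, 2, 0, 3, 4, 3, 3, 0, 4, 2, 4, 2, 4, 2, 4, 0, 4, 3, 4, 3, 4, 3, 4], [5, 2, 5, 2, 5, 2, 5, 1, 5, 3, 5, 3, 5, 3, 5, 1, 2, 2, 5, 2, 1, 3, 5, 2, 2, 1, 5, 0, 3, 3, 4, 2, 0, 3, 4, 3, 3, 0, 4, 2, 4, 2, 4, 2, 4, 0, 4, 3, 4, 3, 4, 3, 4, 4])) (BT.leaf (54, [1, 5, 1, 5, 2, 5, 2, 5, 2, 5, 2, 5, 2, 5, 2, 5, 2, 5, 2, 5, 2, 5, 1, 5, 1, 2, 1, 0, 0, 3, 0, 4, 0, 4, 3, 4, 3, 4, 3, 4, 3, 4, 3, 4, 3, 4, 3, 4, 3, 4, 3, 4, 0, 4], [5, 1, 5, 2, 5, 2, 5, 2, 5, 2, 5, 2, 5, 2, 5, 2, 5, 2, 5, 2, 5, 1, 5, 1, 2, 1, 1, 0, 3, 0, 4, 0, 4, 3, 4, 3, 4, 3, 4, 3, 4, 3, 4, 3, 4, 3, 4, 3, 4, 3, 4, 0, 4, 0]))))) (BT.node 253 (BT.node 251 (BT.node 250 (BT.leaf (54, [3, 5, 1, 5, 2, 5, 2, 5, 2,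 5, 2, 5, 2, 5, 2, 5, 2, 5, 2, 5, 2, 5, 1, 5, 1, 2, 1, 2, 0, 3, 0, 4, 0, 4, 3, 4, 3, 4, 3, 4, 3, 4, 3, 4, 3, 4, 3, 4, 3, 4, 3, 4, 0, 4], [5, 1, 5, 2, 5, 2, 5, 2, 5, 2, 5, 2, 5, 2, 5, 2, 5, 2, 5, 2, 5, 1, 5, 1, 2, 1, 3, 0, 3, 0, 4, 0, 4, 3, 4, 3, 4, 3, 4, 3, 4, 3, 4, 3, 4, 3, 4, 3, 4, 3, 4, 0, 4, 2])) (BT.leaf (54, [5, 5, 1, 5, 2, 5, 2, 5, 2, 5, 2, 5, 2, 5, 2, 5, 2, 5, 2, 5, 2, 5, 1, 5, 1, 2, 1, 4, 0, 3, 0, 4, 0, 4, 3, 4, 3, 4, 3, 4, 3, 4, 3, 4, 3, 4, 3, 4, 3, 4, 3, 4, 0, 4], [5, 1, 5, 2, 5, 2, 5, 2, 5, 2, 5, 2, 5, 2, 5, 2, 5, 2, 5, 2, 5, 1, 5, 1, 2, 1, 5, 0, 3, 0, 4, 0, 4, 3, 4, 3, 4, 3, 4, 3, 4, 3, 4, 3, 4, 3, 4, 3, 4, 3, 4, 0, 4, 4]))) (BT.node 252 (BT.leaf (54, [1, 5, 1, 5, 2, 5, 3, 3, 5, 3, 1, 5, 2, 1,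 2, 5, 2, 1, 2, 1, 2, 5, 2, 5, 3, 1, 2, 0, 3, 0, 2, 4, 3, 4, 3, 0, 3, 0, 3, 4, 3, 0, 3, 4, 0, 2, 4, 2, 2, 4, 3, 4, 0, 4], [5, 1, 5, 2, 5, 3, 3, 5, 3, 1, 5, 2, 1, 2, 5, 2, 1, 2, 1, 2, 5, 2, 5, 3, 1, 2, 1, 3, 0, 2, 4, 3, 4, 3, 0, 3, 0, 3, 4, 3, 0, 3, 4, 0, 2, 4, 2, 2, 4, 3, 4, 0, 4, 0])) (BT.leaf (54, [3, 5, 1, 5, 2, 5, 3, 3, 5, 3, 1, 5, 2, 1, 2, 5, 2, 1, 2, 1, 2, 5, 2, 5, 3, 1, 2, 2, 3, 0, 2, 4, 3, 4, 3, 0, 3, 0, 3, 4, 3, 0, 3, 4, 0, 2, 4, 2, 2, 4, 3, 4, 0, 4], [5, 1, 5, 2, 5, 3, 3, 5, 3, 1, 5, 2, 1, 2, 5, 2, 1, 2, 1, 2, 5, 2, 5, 3, 1, 2, 3, 3, 0, 2, 4, 3, 4, 3, 0, 3, 0, 3, 4, 3, 0, 3, 4, 0, 2, 4, 2, 2, 4, 3, 4, 0, 4, 2])))) (BT.node 255 (BT.node 254 (BT.leaf (54, [5, 5, 1, 5, 2, 5, 3, 3, 5, 3, 1, 5, 2, 1,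 2, 5, 2, 1, 2, 1, 2, 5, 2, 5, 3, 1, 2, 4, 3, 0, 2, 4, 3, 4, 3, 0, 3, 0, 3, 4, 3, 0, 3, 4, 0, 2, 4, 2, 2, 4, 3, 4, 0, 4], [5, 1, 5, 2, 5, 3, 3, 5, 3, 1, 5, 2, 1, 2, 5, 2, 1, 2, 1, 2, 5, 2, 5, 3, 1, 2, 5, 3, 0, 2, 4, 3, 4, 3, 0, 3, 0, 3, 4, 3, 0, 3, 4, 0, 2, 4, 2, 2, 4, 3, 4, 0, 4, 4])) (BT.leaf (95, [1, 3, 1, 3, 1, 2, 1, 3, 1, 3, 3, 1, 2, 1, 3, 1, 2, 1, 2, 1, 3, 3, 1, 3, 3, 1, 3, 3, 1, 3, 3, 1, 3, 3, 1, 3, 3, 2, 0, 2, 0, 2, 0, 2, 0, 2, 0, 2, 0, 2, 0, 2, 0, 2, 0, 2, 0, 2, 0, 2, 0, 2, 0, 2, 0, 2, 0, 2, 0, 2, 0, 2, 0, 2, 0, 2, 0, 2, 0, 2, 0, 3, 3, 3, 3, 3, 3, 3, 3, 1, 1, 1, 1, 1, 1], [0, 0, 0, 0, 0, 0, 2, 2, 2, 2, 2, 2, 2, 2, 1, 3, 1, 3, 1, 3, 1, 3, 1, 3, 1, 3, 1, 3, 1, 3, 1, 3, 1, 3, 1, 3, 1, 3, 1, 3, 1, 3,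 1, 3, 1, 3, 1, 3, 1, 3, 1, 3, 1, 3, 1, 3, 1, 3, 2, 2, 0, 2, 2, 0, 2, 2, 0, 2, 2, 0, 2, 2, 0, 2, 2, 0, 3, 0, 3, 0, 2, 0, 3, 0, 2, 2, 0, 2, 0, 3, 0, 2, 0, 2, 0]))) (BT.node 256 (BT.leaf (51, [1, 3, 1, 3, 1, 2, 1, 3, 1, 3, 3, 1, 2, 1, 3, 1, 2, 1, 2, 2, 0, 2, 0, 2, 0, 2, 0, 2, 0, 2, 0, 2, 0, 2, 0, 2, 0, 2, 0, 2, 0, 3, 3, 3, 3, 3, 3, 3, 3, 1, 1], [0, 0, 2, 2, 2, 2, 2, 2, 2, 2, 1, 3, 1, 3, 1, 3, 1, 3, 1, 3, 1, 3, 1, 3, 1, 3, 1, 3, 1, 3, 1, 3, 3, 0, 3, 0, 2, 0, 3, 0, 2, 2, 0, 2, 0, 3, 0, 2, 0, 2, 0])) (BT.leaf (893, [1, 3, 1, 3, 1, 2, 1, 3, 1, 3, 3, 1, 2, 1, 3, 1, 2, 1, 2, 2, 0, 2, 0, 2, 0, 2, 0, 2, 0, 2, 0, 2, 0, 2, 0, 2, 0, 2, 0, 2, 0, 3, 3, 3, 3, 3, 3, 3, 3, 1, 1, 1, 3, 1, 3, 1, 2, 1, 3, 1, 3, 3, 1, 2, 1, 3,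 1, 2, 1, 2, 2, 0, 2, 0, 2, 0, 2, 0, 2, 0, 2, 0, 2, 0, 2, 0, 2, 0, 2, 0, 2, 0, 3, 3, 3, 3, 3, 3, 3, 3, 1, 1, 0, 0, 0, 0, 0, 0, 2, 2, 2, 2, 2, 2, 2, 2, 1, 3, 1, 3, 1, 3, 1, 3, 1, 3, 1, 3, 1, 3, 1, 3, 1, 3, 1, 3, 1, 3, 1, 3, 1, 3, 1, 3, 1, 3, 1, 3, 1, 3, 1, 3, 1, 3, 1, 3, 1, 3, 1, 3, 2, 2, 0, 2, 2, 0, 2, 2, 0, 2, 2, 0, 2, 2, 0, 2, 2, 0, 3, 0, 3, 0, 2, 0, 3, 0, 2, 2, 0, 2, 0, 3, 0, 2, 0, 2, 0, 0, 0, 0, 0, 0, 0, 2, 2, 2, 2, 2, 2, 2, 2, 1, 3, 1, 3, 1, 3, 1, 3, 1, 3, 1, 3, 1, 3, 1, 3, 1, 3, 1, 3, 1, 3, 1, 3, 1, 3, 1, 3, 1, 3, 1, 3, 1, 3, 1, 3, 1, 3, 1, 3, 1, 3, 1, 3, 2, 2, 0, 2, 2, 0, 2, 2, 0, 2, 2, 0, 2, 2, 0, 2, 2, 0, 3, 0, 3, 0, 2, 0, 3, 0, 2, 2, 0, 2, 0, 3, 0, 2, 0, 2, 0, 0, 0, 0, 0, 0, 0, 2, 2, 2, 2, 2, 2,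 2, 2, 1, 3, 1, 3, 1, 3, 1, 3, 1, 3, 1, 3, 1, 3, 1, 3, 1, 3, 1, 3, 1, 3, 1, 3, 1, 3, 1, 3, 1, 3, 1, 3, 1, 3, 1, 3, 1, 3, 1, 3, 1, 3, 1, 3, 2, 2, 0, 2, 2, 0, 2, 2, 0, 2, 2, 0, 2, 2, 0, 2, 2, 0, 3, 0, 3, 0, 2, 0, 3, 0, 2, 2, 0, 2, 0, 3, 0, 2, 0, 2, 0, 0, 0, 0, 0, 0, 0, 2, 2, 2, 2, 2, 2, 2, 2, 1, 3, 1, 3, 1, 3, 1, 3, 1, 3, 1, 3, 1, 3, 1, 3, 1, 3, 1, 3, 1, 3, 1, 3, 1, 3, 1, 3, 1, 3, 1, 3, 1, 3, 1, 3, 1, 3, 1, 3, 1, 3, 1, 3, 2, 2, 0, 2, 2, 0, 2, 2, 0, 2, 2, 0, 2, 2, 0, 2, 2, 0, 3, 0, 3, 0, 2, 0, 3, 0, 2, 2, 0, 2, 0, 3, 0, 2, 0, 2, 0, 0, 0, 0, 0, 0, 0, 2, 2, 2, 2, 2, 2, 2, 2, 1, 3, 1, 3, 1, 3, 1, 3, 1, 3, 1, 3, 1, 3, 1, 3, 1, 3, 1, 3, 1, 3, 1, 3, 1, 3, 1, 3, 1, 3, 1, 3, 1, 3, 1, 3, 1, 3, 1, 3, 1, 3, 1, 3, 2, 2,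 0, 2, 2, 0, 2, 2, 0, 2, 2, 0, 2, 2, 0, 2, 2, 0, 3, 0, 3, 0, 2, 0, 3, 0, 2, 2, 0, 2, 0, 3, 0, 2, 0, 2, 0, 0, 0, 0, 0, 0, 0, 2, 2, 2, 2, 2, 2, 2, 2, 1, 3, 1, 3, 1, 3, 1, 3, 1, 3, 1, 3, 1, 3, 1, 3, 1, 3, 1, 3, 1, 3, 1, 3, 1, 3, 1, 3, 1, 3, 1, 3, 1, 3, 1, 3, 1, 3, 1, 3, 1, 3, 1, 3, 2, 2, 0, 2, 2, 0, 2, 2, 0, 2, 2, 0, 2, 2, 0, 2, 2, 0, 3, 0, 3, 0, 2, 0, 3, 0, 2, 2, 0, 2, 0, 3, 0, 2, 0, 2, 0, 0, 0, 0, 0, 0, 0, 2, 2, 2, 2, 2, 2, 2, 2, 1, 3, 1, 3, 1, 3, 1, 3, 1, 3, 1, 3, 1, 3, 1, 3, 1, 3, 1, 3, 1, 3, 1, 3, 1, 3, 1, 3, 1, 3, 1, 3, 1, 3, 1, 3, 1, 3, 1, 3, 1, 3, 1, 3, 2, 2, 0, 2, 2, 0, 2, 2, 0, 2, 2, 0, 2, 2, 0, 2, 2, 0, 3, 0, 3, 0, 2, 0, 3, 0, 2, 2, 0, 2, 0, 3, 0, 2, 0, 2, 0, 0, 0, 0, 0, 0, 0, 2, 2, 2, 2, 2, 2, 2,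 2, 1, 3, 1, 3, 1, 3, 1, 3, 1, 3, 1, 3, 1, 3, 1, 3, 1, 3, 1, 3, 1, 3, 1, 3, 1, 3, 1, 3, 1, 3, 1, 3, 1, 3, 1, 3, 1, 3, 1, 3, 1, 3, 1, 3, 2, 2, 0, 2, 2, 0, 2, 2, 0, 2, 2, 0, 2, 2, 0, 2, 2, 0, 3, 0, 3, 0, 2, 0, 3, 0, 2, 2, 0, 2, 0, 3, 0, 2, 0, 2, 0, 5, 5, 5, 5, 5, 5, 3, 0, 3, 0, 4, 2, 0, 3, 4, 2, 0, 4, 3, 0, 3, 4, 0, 4, 0, 4, 2, 2, 0, 3, 4], [5, 2, 1, 3, 3, 5, 1, 5, 1, 5, 2, 1, 2, 5, 1, 3, 5, 2, 1, 3, 5, 1, 2, 1, 2, 4, 4, 4, 4, 4, 4, 1, 3, 1, 3, 1, 2, 1, 3, 1, 3, 3, 1, 2, 1, 3, 1, 2, 1, 2, 1, 3, 3, 1, 3, 3, 1, 3, 3, 1, 3, 3, 1, 3, 3, 1, 3, 3, 2, 0, 2, 0, 2, 0, 2, 0, 2, 0, 2, 0, 2, 0, 2, 0, 2, 0, 2, 0, 2, 0, 2, 0, 2, 0, 2, 0, 2, 0, 2, 0, 2, 0, 2, 0, 2, 0, 2, 0, 2, 0, 2, 0, 3, 3, 3, 3, 3, 3, 3, 3, 1, 1, 1, 1,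 1, 1, 1, 3, 1, 3, 1, 2, 1, 3, 1, 3, 3, 1, 2, 1, 3, 1, 2, 1, 2, 1, 3, 3, 1, 3, 3, 1, 3, 3, 1, 3, 3, 1, 3, 3, 1, 3, 3, 2, 0, 2, 0, 2, 0, 2, 0, 2, 0, 2, 0, 2, 0, 2, 0, 2, 0, 2, 0, 2, 0, 2, 0, 2, 0, 2, 0, 2, 0, 2, 0, 2, 0, 2, 0, 2, 0, 2, 0, 2, 0, 2, 0, 3, 3, 3, 3, 3, 3, 3, 3, 1, 1, 1, 1, 1, 1, 1, 3, 1, 3, 1, 2, 1, 3, 1, 3, 3, 1, 2, 1, 3, 1, 2, 1, 2, 1, 3, 3, 1, 3, 3, 1, 3, 3, 1, 3, 3, 1, 3, 3, 1, 3, 3, 2, 0, 2, 0, 2, 0, 2, 0, 2, 0, 2, 0, 2, 0, 2, 0, 2, 0, 2, 0, 2, 0, 2, 0, 2, 0, 2, 0, 2, 0, 2, 0, 2, 0, 2, 0, 2, 0, 2, 0, 2, 0, 2, 0, 3, 3, 3, 3, 3, 3, 3, 3, 1, 1, 1, 1, 1, 1, 1, 3, 1, 3, 1, 2, 1, 3, 1, 3, 3, 1, 2, 1, 3, 1, 2, 1, 2, 1, 3, 3, 1, 3, 3, 1, 3, 3, 1, 3, 3, 1, 3, 3, 1, 3, 3, 2, 0, 2, 0, 2, 0, 2, 0, 2,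 0, 2, 0, 2, 0, 2, 0, 2, 0, 2, 0, 2, 0, 2, 0, 2, 0, 2, 0, 2, 0, 2, 0, 2, 0, 2, 0, 2, 0, 2, 0, 2, 0, 2, 0, 3, 3, 3, 3, 3, 3, 3, 3, 1, 1, 1, 1, 1, 1, 1, 3, 1, 3, 1, 2, 1, 3, 1, 3, 3, 1, 2, 1, 3, 1, 2, 1, 2, 1, 3, 3, 1, 3, 3, 1, 3, 3, 1, 3, 3, 1, 3, 3, 1, 3, 3, 2, 0, 2, 0, 2, 0, 2, 0, 2, 0, 2, 0, 2, 0, 2, 0, 2, 0, 2, 0, 2, 0, 2, 0, 2, 0, 2, 0, 2, 0, 2, 0, 2, 0, 2, 0, 2, 0, 2, 0, 2, 0, 2, 0, 3, 3, 3, 3, 3, 3, 3, 3, 1, 1, 1, 1, 1, 1, 1, 3, 1, 3, 1, 2, 1, 3, 1, 3, 3, 1, 2, 1, 3, 1, 2, 1, 2, 1, 3, 3, 1, 3, 3, 1, 3, 3, 1, 3, 3, 1, 3, 3, 1, 3, 3, 2, 0, 2, 0, 2, 0, 2, 0, 2, 0, 2, 0, 2, 0, 2, 0, 2, 0, 2, 0, 2, 0, 2, 0, 2, 0, 2, 0, 2, 0, 2, 0, 2, 0, 2, 0, 2, 0, 2, 0, 2, 0, 2, 0, 3, 3, 3, 3, 3, 3, 3, 3, 1, 1, 1, 1, 1,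 1, 1, 3, 1, 3, 1, 2, 1, 3, 1, 3, 3, 1, 2, 1, 3, 1, 2, 1, 2, 1, 3, 3, 1, 3, 3, 1, 3, 3, 1, 3, 3, 1, 3, 3, 1, 3, 3, 2, 0, 2, 0, 2, 0, 2, 0, 2, 0, 2, 0, 2, 0, 2, 0, 2, 0, 2, 0, 2, 0, 2, 0, 2, 0, 2, 0, 2, 0, 2, 0, 2, 0, 2, 0, 2, 0, 2, 0, 2, 0, 2, 0, 3, 3, 3, 3, 3, 3, 3, 3, 1, 1, 1, 1, 1, 1, 1, 3, 1, 3, 1, 2, 1, 3, 1, 3, 3, 1, 2, 1, 3, 1, 2, 1, 2, 1, 3, 3, 1, 3, 3, 1, 3, 3, 1, 3, 3, 1, 3, 3, 1, 3, 3, 2, 0, 2, 0, 2, 0, 2, 0, 2, 0, 2, 0, 2, 0, 2, 0, 2, 0, 2, 0, 2, 0, 2, 0, 2, 0, 2, 0, 2, 0, 2, 0, 2, 0, 2, 0, 2, 0, 2, 0, 2, 0, 2, 0, 3, 3, 3, 3, 3, 3, 3, 3, 1, 1, 1, 1, 1, 1, 0, 0, 2, 2, 2, 2, 2, 2, 2, 2, 1, 3, 1, 3, 1, 3, 1, 3, 1, 3, 1, 3, 1, 3, 1, 3, 1, 3, 1, 3, 1, 3, 3, 0, 3, 0, 2, 0, 3, 0, 2, 2, 0, 2, 0, 3, 0,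 2, 0, 2, 0, 0, 0, 2, 2, 2, 2, 2, 2, 2, 2, 1, 3, 1, 3, 1, 3, 1, 3, 1, 3, 1, 3, 1, 3, 1, 3, 1, 3, 1, 3, 1, 3, 3, 0, 3, 0, 2, 0, 3, 0, 2, 2, 0, 2, 0, 3, 0, 2, 0, 2, 0]))))))))))
/-- subgroup generators -/
def subT : BT (ℕ × List ℕ × List ℕ) := (BT.node 0 (BT.leaf (1, [0], [1])) (BT.leaf (1, [2], [3])))
/-- fact chunks -/
def colET : BT ℕ := (BT.node 461 (BT.node 230 (BT.node 115 (BT.node 57 (BT.node 28 (BT.node 14 (BT.node 7 (BT.node 3 (BT.node 1 (BT.node 0 (BT.leaf cE0) (BT.leaf cE1)) (BT.node 2 (BT.leaf cE2) (BT.leaf cE3))) (BT.node 5 (BT.node 4 (BT.leaf cE4) (BT.leaf cE5)) (BT.node 6 (BT.leaf cE6) (BT.leaf cE7)))) (BT.node 11 (BT.node 9 (BT.node 8 (BT.leaf cE8) (BT.leaf cE9)) (BT.node 10 (BT.leaf cE10) (BT.leaf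 cE11))) (BT.node 13 (BT.node 12 (BT.leaf cE12) (BT.leaf cE13)) (BT.leaf cE14)))) (BT.node 21 (BT.node 18 (BT.node 16 (BT.node 15 (BT.leaf cE15) (BT.leaf cE16)) (BT.node 17 (BT.leaf cE17) (BT.leaf cE18))) (BT.node 20 (BT.node 19 (BT.leaf cE19) (BT.leaf cE20)) (BT.leaf cE21))) (BT.node 25 (BT.node 23 (BT.node 22 (BT.leaf cE22) (BT.leaf cE23)) (BT.node 24 (BT.leaf cE24) (BT.leaf cE25))) (BT.node 27 (BT.node 26 (BT.leaf cE26) (BT.leaf cE27)) (BT.leaf cE28))))) (BT.node 43 (BT.node 36 (BT.node 32 (BT.node 30 (BT.node 29 (BT.leaf cE29) (BT.leaf cE30)) (BT.node 31 (BT.leaf cE31) (BT.leaf cE32))) (BT.node 34 (BT.node 33 (BT.leaf cE33) (BT.leaf cE34)) (BT.node 35 (BT.leaf cE35) (BT.leaf cE36)))) (BT.node 40 (BT.node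 38 (BT.node 37 (BT.leaf cE37) (BT.leaf cE38)) (BT.node 39 (BT.leaf cE39) (BT.leaf cE40))) (BT.node 42 (BT.node 41 (BT.leaf cE41) (BT.leaf cE42)) (BT.leaf cE43)))) (BT.node 50 (BT.node 47 (BT.node 45 (BT.node 44 (BT.leaf cE44) (BT.leaf cE45)) (BT.node 46 (BT.leaf cE46) (BT.leaf cE47))) (BT.node 49 (BT.node 48 (BT.leaf cE48) (BT.leaf cE49)) (BT.leaf cE50))) (BT.node 54 (BT.node 52 (BT.node 51 (BT.leaf cE51) (BT.leaf cE52)) (BT.node 53 (BT.leaf cE53) (BT.leaf cE54))) (BT.node 56 (BT.node 55 (BT.leaf cE55) (BT.leaf cE56)) (BT.leaf cE57)))))) (BT.node 86 (BT.node 72 (BT.node 65 (BT.node 61 (BT.node 59 (BT.node 58 (BT.leaf cE58) (BT.leaf cE59)) (BT.node 60 (BT.leaf cE60) (BT.leaf cE61))) (BT.node 63 (BT.node 62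 (BT.leaf cE62) (BT.leaf cE63)) (BT.node 64 (BT.leaf cE64) (BT.leaf cE65)))) (BT.node 69 (BT.node 67 (BT.node 66 (BT.leaf cE66) (BT.leaf cE67)) (BT.node 68 (BT.leaf cE68) (BT.leaf cE69))) (BT.node 71 (BT.node 70 (BT.leaf cE70) (BT.leaf cE71)) (BT.leaf cE72)))) (BT.node 79 (BT.node 76 (BT.node 74 (BT.node 73 (BT.leaf cE73) (BT.leaf cE74)) (BT.node 75 (BT.leaf cE75) (BT.leaf cE76))) (BT.node 78 (BT.node 77 (BT.leaf cE77) (BT.leaf cE78)) (BT.leaf cE79))) (BT.node 83 (BT.node 81 (BT.node 80 (BT.leaf cE80) (BT.leaf cE81)) (BT.node 82 (BT.leaf cE82) (BT.leaf cE83))) (BT.node 85 (BT.node 84 (BT.leaf cE84) (BT.leaf cE85)) (BT.leaf cE86))))) (BT.node 101 (BT.node 94 (BT.node 90 (BT.node 88 (BT.node 87 (BT.leaf cE87)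 (BT.leaf cE88)) (BT.node 89 (BT.leaf cE89) (BT.leaf cE90))) (BT.node 92 (BT.node 91 (BT.leaf cE91) (BT.leaf cE92)) (BT.node 93 (BT.leaf cE93) (BT.leaf cE94)))) (BT.node 98 (BT.node 96 (BT.node 95 (BT.leaf cE95) (BT.leaf cE96)) (BT.node 97 (BT.leaf cE97) (BT.leaf cE98))) (BT.node 100 (BT.node 99 (BT.leaf cE99) (BT.leaf cE100)) (BT.leaf cE101)))) (BT.node 108 (BT.node 105 (BT.node 103 (BT.node 102 (BT.leaf cE102) (BT.leaf cE103)) (BT.node 104 (BT.leaf cE104) (BT.leaf cE105))) (BT.node 107 (BT.node 106 (BT.leaf cE106) (BT.leaf cE107)) (BT.leaf cE108))) (BT.node 112 (BT.node 110 (BT.node 109 (BT.leaf cE109) (BT.leaf cE110)) (BT.node 111 (BT.leaf cE111) (BT.leaf cE112))) (BT.node 114 (BT.node 113 (BT.leaf cE113)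 (BT.leaf cE114)) (BT.leaf cE115))))))) (BT.node 173 (BT.node 144 (BT.node 130 (BT.node 123 (BT.node 119 (BT.node 117 (BT.node 116 (BT.leaf cE116) (BT.leaf cE117)) (BT.node 118 (BT.leaf cE118) (BT.leaf cE119))) (BT.node 121 (BT.node 120 (BT.leaf cE120) (BT.leaf cE121)) (BT.node 122 (BT.leaf cE122) (BT.leaf cE123)))) (BT.node 127 (BT.node 125 (BT.node 124 (BT.leaf cE124) (BT.leaf cE125)) (BT.node 126 (BT.leaf cE126) (BT.leaf cE127))) (BT.node 129 (BT.node 128 (BT.leaf cE128) (BT.leaf cE129)) (BT.leaf cE130)))) (BT.node 137 (BT.node 134 (BT.node 132 (BT.node 131 (BT.leaf cE131) (BT.leaf cE132)) (BT.node 133 (BT.leaf cE133) (BT.leaf cE134))) (BT.node 136 (BT.node 135 (BT.leaf cE135) (BT.leaf cE136)) (BT.leaf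 cE137))) (BT.node 141 (BT.node 139 (BT.node 138 (BT.leaf cE138) (BT.leaf cE139)) (BT.node 140 (BT.leaf cE140) (BT.leaf cE141))) (BT.node 143 (BT.node 142 (BT.leaf cE142) (BT.leaf cE143)) (BT.leaf cE144))))) (BT.node 159 (BT.node 152 (BT.node 148 (BT.node 146 (BT.node 145 (BT.leaf cE145) (BT.leaf cE146)) (BT.node 147 (BT.leaf cE147) (BT.leaf cE148))) (BT.node 150 (BT.node 149 (BT.leaf cE149) (BT.leaf cE150)) (BT.node 151 (BT.leaf cE151) (BT.leaf cE152)))) (BT.node 156 (BT.node 154 (BT.node 153 (BT.leaf cE153) (BT.leaf cE154)) (BT.node 155 (BT.leaf cE155) (BT.leaf cE156))) (BT.node 158 (BT.node 157 (BT.leaf cE157) (BT.leaf cE158)) (BT.leaf cE159)))) (BT.node 166 (BT.node 163 (BT.node 161 (BT.node 160 (BT.leaf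 cE160) (BT.leaf cE161)) (BT.node 162 (BT.leaf cE162) (BT.leaf cE163))) (BT.node 165 (BT.node 164 (BT.leaf cE164) (BT.leaf cE165)) (BT.leaf cE166))) (BT.node 170 (BT.node 168 (BT.node 167 (BT.leaf cE167) (BT.leaf cE168)) (BT.node 169 (BT.leaf cE169) (BT.leaf cE170))) (BT.node 172 (BT.node 171 (BT.leaf cE171) (BT.leaf cE172)) (BT.leaf cE173)))))) (BT.node 202 (BT.node 188 (BT.node 181 (BT.node 177 (BT.node 175 (BT.node 174 (BT.leaf cE174) (BT.leaf cE175)) (BT.node 176 (BT.leaf cE176) (BT.leaf cE177))) (BT.node 179 (BT.node 178 (BT.leaf cE178) (BT.leaf cE179)) (BT.node 180 (BT.leaf cE180) (BT.leaf cE181)))) (BT.node 185 (BT.node 183 (BT.node 182 (BT.leaf cE182) (BT.leaf cE183)) (BT.node 184 (BT.leaf cE184)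 (BT.leaf cE185))) (BT.node 187 (BT.node 186 (BT.leaf cE186) (BT.leaf cE187)) (BT.leaf cE188)))) (BT.node 195 (BT.node 192 (BT.node 190 (BT.node 189 (BT.leaf cE189) (BT.leaf cE190)) (BT.node 191 (BT.leaf cE191) (BT.leaf cE192))) (BT.node 194 (BT.node 193 (BT.leaf cE193) (BT.leaf cE194)) (BT.leaf cE195))) (BT.node 199 (BT.node 197 (BT.node 196 (BT.leaf cE196) (BT.leaf cE197)) (BT.node 198 (BT.leaf cE198) (BT.leaf cE199))) (BT.node 201 (BT.node 200 (BT.leaf cE200) (BT.leaf cE201)) (BT.leaf cE202))))) (BT.node 216 (BT.node 209 (BT.node 206 (BT.node 204 (BT.node 203 (BT.leaf cE203) (BT.leaf cE204)) (BT.node 205 (BT.leaf cE205) (BT.leaf cE206))) (BT.node 208 (BT.node 207 (BT.leaf cE207) (BT.leaf cE208)) (BT.leaf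 cE209))) (BT.node 213 (BT.node 211 (BT.node 210 (BT.leaf cE210) (BT.leaf cE211)) (BT.node 212 (BT.leaf cE212) (BT.leaf cE213))) (BT.node 215 (BT.node 214 (BT.leaf cE214) (BT.leaf cE215)) (BT.leaf cE216)))) (BT.node 223 (BT.node 220 (BT.node 218 (BT.node 217 (BT.leaf cE217) (BT.leaf cE218)) (BT.node 219 (BT.leaf cE219) (BT.leaf cE220))) (BT.node 222 (BT.node 221 (BT.leaf cE221) (BT.leaf cE222)) (BT.leaf cE223))) (BT.node 227 (BT.node 225 (BT.node 224 (BT.leaf cE224) (BT.leaf cE225)) (BT.node 226 (BT.leaf cE226) (BT.leaf cE227))) (BT.node 229 (BT.node 228 (BT.leaf cE228) (BT.leaf cE229)) (BT.leaf cE230)))))))) (BT.node 346 (BT.node 288 (BT.node 259 (BT.node 245 (BT.node 238 (BT.node 234 (BT.node 232 (BT.node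 231 (BT.leaf cE231) (BT.leaf cE232)) (BT.node 233 (BT.leaf cE233) (BT.leaf cE234))) (BT.node 236 (BT.node 235 (BT.leaf cE235) (BT.leaf cE236)) (BT.node 237 (BT.leaf cE237) (BT.leaf cE238)))) (BT.node 242 (BT.node 240 (BT.node 239 (BT.leaf cE239) (BT.leaf cE240)) (BT.node 241 (BT.leaf cE241) (BT.leaf cE242))) (BT.node 244 (BT.node 243 (BT.leaf cE243) (BT.leaf cE244)) (BT.leaf cE245)))) (BT.node 252 (BT.node 249 (BT.node 247 (BT.node 246 (BT.leaf cE246) (BT.leaf cE247)) (BT.node 248 (BT.leaf cE248) (BT.leaf cE249))) (BT.node 251 (BT.node 250 (BT.leaf cE250) (BT.leaf cE251)) (BT.leaf cE252))) (BT.node 256 (BT.node 254 (BT.node 253 (BT.leaf cE253) (BT.leaf cE254)) (BT.node 255 (BT.leaf cE255) (BT.leaf cE256)))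 (BT.node 258 (BT.node 257 (BT.leaf cE257) (BT.leaf cE258)) (BT.leaf cE259))))) (BT.node 274 (BT.node 267 (BT.node 263 (BT.node 261 (BT.node 260 (BT.leaf cE260) (BT.leaf cE261)) (BT.node 262 (BT.leaf cE262) (BT.leaf cE263))) (BT.node 265 (BT.node 264 (BT.leaf cE264) (BT.leaf cE265)) (BT.node 266 (BT.leaf cE266) (BT.leaf cE267)))) (BT.node 271 (BT.node 269 (BT.node 268 (BT.leaf cE268) (BT.leaf cE269)) (BT.node 270 (BT.leaf cE270) (BT.leaf cE271))) (BT.node 273 (BT.node 272 (BT.leaf cE272) (BT.leaf cE273)) (BT.leaf cE274)))) (BT.node 281 (BT.node 278 (BT.node 276 (BT.node 275 (BT.leaf cE275) (BT.leaf cE276)) (BT.node 277 (BT.leaf cE277) (BT.leaf cE278))) (BT.node 280 (BT.node 279 (BT.leaf cE279) (BT.leaf cE280))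 (BT.leaf cE281))) (BT.node 285 (BT.node 283 (BT.node 282 (BT.leaf cE282) (BT.leaf cE283)) (BT.node 284 (BT.leaf cE284) (BT.leaf cE285))) (BT.node 287 (BT.node 286 (BT.leaf cE286) (BT.leaf cE287)) (BT.leaf cE288)))))) (BT.node 317 (BT.node 303 (BT.node 296 (BT.node 292 (BT.node 290 (BT.node 289 (BT.leaf cE289) (BT.leaf cE290)) (BT.node 291 (BT.leaf cE291) (BT.leaf cE292))) (BT.node 294 (BT.node 293 (BT.leaf cE293) (BT.leaf cE294)) (BT.node 295 (BT.leaf cE295) (BT.leaf cE296)))) (BT.node 300 (BT.node 298 (BT.node 297 (BT.leaf cE297) (BT.leaf cE298)) (BT.node 299 (BT.leaf cE299) (BT.leaf cE300))) (BT.node 302 (BT.node 301 (BT.leaf cE301) (BT.leaf cE302)) (BT.leaf cE303)))) (BT.node 310 (BT.node 307 (BT.node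 305 (BT.node 304 (BT.leaf cE304) (BT.leaf cE305)) (BT.node 306 (BT.leaf cE306) (BT.leaf cE307))) (BT.node 309 (BT.node 308 (BT.leaf cE308) (BT.leaf cE309)) (BT.leaf cE310))) (BT.node 314 (BT.node 312 (BT.node 311 (BT.leaf cE311) (BT.leaf cE312)) (BT.node 313 (BT.leaf cE313) (BT.leaf cE314))) (BT.node 316 (BT.node 315 (BT.leaf cE315) (BT.leaf cE316)) (BT.leaf cE317))))) (BT.node 332 (BT.node 325 (BT.node 321 (BT.node 319 (BT.node 318 (BT.leaf cE318) (BT.leaf cE319)) (BT.node 320 (BT.leaf cE320) (BT.leaf cE321))) (BT.node 323 (BT.node 322 (BT.leaf cE322) (BT.leaf cE323)) (BT.node 324 (BT.leaf cE324) (BT.leaf cE325)))) (BT.node 329 (BT.node 327 (BT.node 326 (BT.leaf cE326) (BT.leaf cE327)) (BT.node 328 (BT.leaf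 cE328) (BT.leaf cE329))) (BT.node 331 (BT.node 330 (BT.leaf cE330) (BT.leaf cE331)) (BT.leaf cE332)))) (BT.node 339 (BT.node 336 (BT.node 334 (BT.node 333 (BT.leaf cE333) (BT.leaf cE334)) (BT.node 335 (BT.leaf cE335) (BT.leaf cE336))) (BT.node 338 (BT.node 337 (BT.leaf cE337) (BT.leaf cE338)) (BT.leaf cE339))) (BT.node 343 (BT.node 341 (BT.node 340 (BT.leaf cE340) (BT.leaf cE341)) (BT.node 342 (BT.leaf cE342) (BT.leaf cE343))) (BT.node 345 (BT.node 344 (BT.leaf cE344) (BT.leaf cE345)) (BT.leaf cE346))))))) (BT.node 404 (BT.node 375 (BT.node 361 (BT.node 354 (BT.node 350 (BT.node 348 (BT.node 347 (BT.leaf cE347) (BT.leaf cE348)) (BT.node 349 (BT.leaf cE349) (BT.leaf cE350))) (BT.node 352 (BT.node 351 (BT.leaf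 cE351) (BT.leaf cE352)) (BT.node 353 (BT.leaf cE353) (BT.leaf cE354)))) (BT.node 358 (BT.node 356 (BT.node 355 (BT.leaf cE355) (BT.leaf cE356)) (BT.node 357 (BT.leaf cE357) (BT.leaf cE358))) (BT.node 360 (BT.node 359 (BT.leaf cE359) (BT.leaf cE360)) (BT.leaf cE361)))) (BT.node 368 (BT.node 365 (BT.node 363 (BT.node 362 (BT.leaf cE362) (BT.leaf cE363)) (BT.node 364 (BT.leaf cE364) (BT.leaf cE365))) (BT.node 367 (BT.node 366 (BT.leaf cE366) (BT.leaf cE367)) (BT.leaf cE368))) (BT.node 372 (BT.node 370 (BT.node 369 (BT.leaf cE369) (BT.leaf cE370)) (BT.node 371 (BT.leaf cE371) (BT.leaf cE372))) (BT.node 374 (BT.node 373 (BT.leaf cE373) (BT.leaf cE374)) (BT.leaf cE375))))) (BT.node 390 (BT.node 383 (BT.node 379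 (BT.node 377 (BT.node 376 (BT.leaf cE376) (BT.leaf cE377)) (BT.node 378 (BT.leaf cE378) (BT.leaf cE379))) (BT.node 381 (BT.node 380 (BT.leaf cE380) (BT.leaf cE381)) (BT.node 382 (BT.leaf cE382) (BT.leaf cE383)))) (BT.node 387 (BT.node 385 (BT.node 384 (BT.leaf cE384) (BT.leaf cE385)) (BT.node 386 (BT.leaf cE386) (BT.leaf cE387))) (BT.node 389 (BT.node 388 (BT.leaf cE388) (BT.leaf cE389)) (BT.leaf cE390)))) (BT.node 397 (BT.node 394 (BT.node 392 (BT.node 391 (BT.leaf cE391) (BT.leaf cE392)) (BT.node 393 (BT.leaf cE393) (BT.leaf cE394))) (BT.node 396 (BT.node 395 (BT.leaf cE395) (BT.leaf cE396)) (BT.leaf cE397))) (BT.node 401 (BT.node 399 (BT.node 398 (BT.leaf cE398) (BT.leaf cE399)) (BT.node 400 (BT.leaf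 cE400) (BT.leaf cE401))) (BT.node 403 (BT.node 402 (BT.leaf cE402) (BT.leaf cE403)) (BT.leaf cE404)))))) (BT.node 433 (BT.node 419 (BT.node 412 (BT.node 408 (BT.node 406 (BT.node 405 (BT.leaf cE405) (BT.leaf cE406)) (BT.node 407 (BT.leaf cE407) (BT.leaf cE408))) (BT.node 410 (BT.node 409 (BT.leaf cE409) (BT.leaf cE410)) (BT.node 411 (BT.leaf cE411) (BT.leaf cE412)))) (BT.node 416 (BT.node 414 (BT.node 413 (BT.leaf cE413) (BT.leaf cE414)) (BT.node 415 (BT.leaf cE415) (BT.leaf cE416))) (BT.node 418 (BT.node 417 (BT.leaf cE417) (BT.leaf cE418)) (BT.leaf cE419)))) (BT.node 426 (BT.node 423 (BT.node 421 (BT.node 420 (BT.leaf cE420) (BT.leaf cE421)) (BT.node 422 (BT.leaf cE422) (BT.leaf cE423))) (BT.node 425 (BT.node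 424 (BT.leaf cE424) (BT.leaf cE425)) (BT.leaf cE426))) (BT.node 430 (BT.node 428 (BT.node 427 (BT.leaf cE427) (BT.leaf cE428)) (BT.node 429 (BT.leaf cE429) (BT.leaf cE430))) (BT.node 432 (BT.node 431 (BT.leaf cE431) (BT.leaf cE432)) (BT.leaf cE433))))) (BT.node 447 (BT.node 440 (BT.node 437 (BT.node 435 (BT.node 434 (BT.leaf cE434) (BT.leaf cE435)) (BT.node 436 (BT.leaf cE436) (BT.leaf cE437))) (BT.node 439 (BT.node 438 (BT.leaf cE438) (BT.leaf cE439)) (BT.leaf cE440))) (BT.node 444 (BT.node 442 (BT.node 441 (BT.leaf cE441) (BT.leaf cE442)) (BT.node 443 (BT.leaf cE443) (BT.leaf cE444))) (BT.node 446 (BT.node 445 (BT.leaf cE445) (BT.leaf cE446)) (BT.leaf cE447)))) (BT.node 454 (BT.node 451 (BT.node 449 (BT.node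 448 (BT.leaf cE448) (BT.leaf cE449)) (BT.node 450 (BT.leaf cE450) (BT.leaf cE451))) (BT.node 453 (BT.node 452 (BT.leaf cE452) (BT.leaf cE453)) (BT.leaf cE454))) (BT.node 458 (BT.node 456 (BT.node 455 (BT.leaf cE455) (BT.leaf cE456)) (BT.node 457 (BT.leaf cE457) (BT.leaf cE458))) (BT.node 460 (BT.node 459 (BT.leaf cE459) (BT.leaf cE460)) (BT.leaf cE461))))))))) (BT.node 692 (BT.node 577 (BT.node 519 (BT.node 490 (BT.node 476 (BT.node 469 (BT.node 465 (BT.node 463 (BT.node 462 (BT.leaf cE462) (BT.leaf cE463)) (BT.node 464 (BT.leaf cE464) (BT.leaf cE465))) (BT.node 467 (BT.node 466 (BT.leaf cE466) (BT.leaf cE467)) (BT.node 468 (BT.leaf cE468) (BT.leaf cE469)))) (BT.node 473 (BT.node 471 (BT.node 470 (BT.leaf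 cE470) (BT.leaf cE471)) (BT.node 472 (BT.leaf cE472) (BT.leaf cE473))) (BT.node 475 (BT.node 474 (BT.leaf cE474) (BT.leaf cE475)) (BT.leaf cE476)))) (BT.node 483 (BT.node 480 (BT.node 478 (BT.node 477 (BT.leaf cE477) (BT.leaf cE478)) (BT.node 479 (BT.leaf cE479) (BT.leaf cE480))) (BT.node 482 (BT.node 481 (BT.leaf cE481) (BT.leaf cE482)) (BT.leaf cE483))) (BT.node 487 (BT.node 485 (BT.node 484 (BT.leaf cE484) (BT.leaf cE485)) (BT.node 486 (BT.leaf cE486) (BT.leaf cE487))) (BT.node 489 (BT.node 488 (BT.leaf cE488) (BT.leaf cE489)) (BT.leaf cE490))))) (BT.node 505 (BT.node 498 (BT.node 494 (BT.node 492 (BT.node 491 (BT.leaf cE491) (BT.leaf cE492)) (BT.node 493 (BT.leaf cE493) (BT.leaf cE494))) (BT.node 496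 (BT.node 495 (BT.leaf cE495) (BT.leaf cE496)) (BT.node 497 (BT.leaf cE497) (BT.leaf cE498)))) (BT.node 502 (BT.node 500 (BT.node 499 (BT.leaf cE499) (BT.leaf cE500)) (BT.node 501 (BT.leaf cE501) (BT.leaf cE502))) (BT.node 504 (BT.node 503 (BT.leaf cE503) (BT.leaf cE504)) (BT.leaf cE505)))) (BT.node 512 (BT.node 509 (BT.node 507 (BT.node 506 (BT.leaf cE506) (BT.leaf cE507)) (BT.node 508 (BT.leaf cE508) (BT.leaf cE509))) (BT.node 511 (BT.node 510 (BT.leaf cE510) (BT.leaf cE511)) (BT.leaf cE512))) (BT.node 516 (BT.node 514 (BT.node 513 (BT.leaf cE513) (BT.leaf cE514)) (BT.node 515 (BT.leaf cE515) (BT.leaf cE516))) (BT.node 518 (BT.node 517 (BT.leaf cE517) (BT.leaf cE518)) (BT.leaf cE519)))))) (BT.node 548 (BT.node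 534 (BT.node 527 (BT.node 523 (BT.node 521 (BT.node 520 (BT.leaf cE520) (BT.leaf cE521)) (BT.node 522 (BT.leaf cE522) (BT.leaf cE523))) (BT.node 525 (BT.node 524 (BT.leaf cE524) (BT.leaf cE525)) (BT.node 526 (BT.leaf cE526) (BT.leaf cE527)))) (BT.node 531 (BT.node 529 (BT.node 528 (BT.leaf cE528) (BT.leaf cE529)) (BT.node 530 (BT.leaf cE530) (BT.leaf cE531))) (BT.node 533 (BT.node 532 (BT.leaf cE532) (BT.leaf cE533)) (BT.leaf cE534)))) (BT.node 541 (BT.node 538 (BT.node 536 (BT.node 535 (BT.leaf cE535) (BT.leaf cE536)) (BT.node 537 (BT.leaf cE537) (BT.leaf cE538))) (BT.node 540 (BT.node 539 (BT.leaf cE539) (BT.leaf cE540)) (BT.leaf cE541))) (BT.node 545 (BT.node 543 (BT.node 542 (BT.leaf cE542) (BT.leaf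 cE543)) (BT.node 544 (BT.leaf cE544) (BT.leaf cE545))) (BT.node 547 (BT.node 546 (BT.leaf cE546) (BT.leaf cE547)) (BT.leaf cE548))))) (BT.node 563 (BT.node 556 (BT.node 552 (BT.node 550 (BT.node 549 (BT.leaf cE549) (BT.leaf cE550)) (BT.node 551 (BT.leaf cE551) (BT.leaf cE552))) (BT.node 554 (BT.node 553 (BT.leaf cE553) (BT.leaf cE554)) (BT.node 555 (BT.leaf cE555) (BT.leaf cE556)))) (BT.node 560 (BT.node 558 (BT.node 557 (BT.leaf cE557) (BT.leaf cE558)) (BT.node 559 (BT.leaf cE559) (BT.leaf cE560))) (BT.node 562 (BT.node 561 (BT.leaf cE561) (BT.leaf cE562)) (BT.leaf cE563)))) (BT.node 570 (BT.node 567 (BT.node 565 (BT.node 564 (BT.leaf cE564) (BT.leaf cE565)) (BT.node 566 (BT.leaf cE566) (BT.leaf cE567)))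 (BT.node 569 (BT.node 568 (BT.leaf cE568) (BT.leaf cE569)) (BT.leaf cE570))) (BT.node 574 (BT.node 572 (BT.node 571 (BT.leaf cE571) (BT.leaf cE572)) (BT.node 573 (BT.leaf cE573) (BT.leaf cE574))) (BT.node 576 (BT.node 575 (BT.leaf cE575) (BT.leaf cE576)) (BT.leaf cE577))))))) (BT.node 635 (BT.node 606 (BT.node 592 (BT.node 585 (BT.node 581 (BT.node 579 (BT.node 578 (BT.leaf cE578) (BT.leaf cE579)) (BT.node 580 (BT.leaf cE580) (BT.leaf cE581))) (BT.node 583 (BT.node 582 (BT.leaf cE582) (BT.leaf cE583)) (BT.node 584 (BT.leaf cE584) (BT.leaf cE585)))) (BT.node 589 (BT.node 587 (BT.node 586 (BT.leaf cE586) (BT.leaf cE587)) (BT.node 588 (BT.leaf cE588) (BT.leaf cE589))) (BT.node 591 (BT.node 590 (BT.leaf cE590)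 (BT.leaf cE591)) (BT.leaf cE592)))) (BT.node 599 (BT.node 596 (BT.node 594 (BT.node 593 (BT.leaf cE593) (BT.leaf cE594)) (BT.node 595 (BT.leaf cE595) (BT.leaf cE596))) (BT.node 598 (BT.node 597 (BT.leaf cE597) (BT.leaf cE598)) (BT.leaf cE599))) (BT.node 603 (BT.node 601 (BT.node 600 (BT.leaf cE600) (BT.leaf cE601)) (BT.node 602 (BT.leaf cE602) (BT.leaf cE603))) (BT.node 605 (BT.node 604 (BT.leaf cE604) (BT.leaf cE605)) (BT.leaf cE606))))) (BT.node 621 (BT.node 614 (BT.node 610 (BT.node 608 (BT.node 607 (BT.leaf cE607) (BT.leaf cE608)) (BT.node 609 (BT.leaf cE609) (BT.leaf cE610))) (BT.node 612 (BT.node 611 (BT.leaf cE611) (BT.leaf cE612)) (BT.node 613 (BT.leaf cE613) (BT.leaf cE614)))) (BT.node 618 (BT.node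 616 (BT.node 615 (BT.leaf cE615) (BT.leaf cE616)) (BT.node 617 (BT.leaf cE617) (BT.leaf cE618))) (BT.node 620 (BT.node 619 (BT.leaf cE619) (BT.leaf cE620)) (BT.leaf cE621)))) (BT.node 628 (BT.node 625 (BT.node 623 (BT.node 622 (BT.leaf cE622) (BT.leaf cE623)) (BT.node 624 (BT.leaf cE624) (BT.leaf cE625))) (BT.node 627 (BT.node 626 (BT.leaf cE626) (BT.leaf cE627)) (BT.leaf cE628))) (BT.node 632 (BT.node 630 (BT.node 629 (BT.leaf cE629) (BT.leaf cE630)) (BT.node 631 (BT.leaf cE631) (BT.leaf cE632))) (BT.node 634 (BT.node 633 (BT.leaf cE633) (BT.leaf cE634)) (BT.leaf cE635)))))) (BT.node 664 (BT.node 650 (BT.node 643 (BT.node 639 (BT.node 637 (BT.node 636 (BT.leaf cE636) (BT.leaf cE637)) (BT.node 638 (BT.leaf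 cE638) (BT.leaf cE639))) (BT.node 641 (BT.node 640 (BT.leaf cE640) (BT.leaf cE641)) (BT.node 642 (BT.leaf cE642) (BT.leaf cE643)))) (BT.node 647 (BT.node 645 (BT.node 644 (BT.leaf cE644) (BT.leaf cE645)) (BT.node 646 (BT.leaf cE646) (BT.leaf cE647))) (BT.node 649 (BT.node 648 (BT.leaf cE648) (BT.leaf cE649)) (BT.leaf cE650)))) (BT.node 657 (BT.node 654 (BT.node 652 (BT.node 651 (BT.leaf cE651) (BT.leaf cE652)) (BT.node 653 (BT.leaf cE653) (BT.leaf cE654))) (BT.node 656 (BT.node 655 (BT.leaf cE655) (BT.leaf cE656)) (BT.leaf cE657))) (BT.node 661 (BT.node 659 (BT.node 658 (BT.leaf cE658) (BT.leaf cE659)) (BT.node 660 (BT.leaf cE660) (BT.leaf cE661))) (BT.node 663 (BT.node 662 (BT.leaf cE662) (BT.leaf cE663))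 (BT.leaf cE664))))) (BT.node 678 (BT.node 671 (BT.node 668 (BT.node 666 (BT.node 665 (BT.leaf cE665) (BT.leaf cE666)) (BT.node 667 (BT.leaf cE667) (BT.leaf cE668))) (BT.node 670 (BT.node 669 (BT.leaf cE669) (BT.leaf cE670)) (BT.leaf cE671))) (BT.node 675 (BT.node 673 (BT.node 672 (BT.leaf cE672) (BT.leaf cE673)) (BT.node 674 (BT.leaf cE674) (BT.leaf cE675))) (BT.node 677 (BT.node 676 (BT.leaf cE676) (BT.leaf cE677)) (BT.leaf cE678)))) (BT.node 685 (BT.node 682 (BT.node 680 (BT.node 679 (BT.leaf cE679) (BT.leaf cE680)) (BT.node 681 (BT.leaf cE681) (BT.leaf cE682))) (BT.node 684 (BT.node 683 (BT.leaf cE683) (BT.leaf cE684)) (BT.leaf cE685))) (BT.node 689 (BT.node 687 (BT.node 686 (BT.leaf cE686) (BT.leaf cE687))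 (BT.node 688 (BT.leaf cE688) (BT.leaf cE689))) (BT.node 691 (BT.node 690 (BT.leaf cE690) (BT.leaf cE691)) (BT.leaf cE692)))))))) (BT.node 808 (BT.node 750 (BT.node 721 (BT.node 707 (BT.node 700 (BT.node 696 (BT.node 694 (BT.node 693 (BT.leaf cE693) (BT.leaf cE694)) (BT.node 695 (BT.leaf cE695) (BT.leaf cE696))) (BT.node 698 (BT.node 697 (BT.leaf cE697) (BT.leaf cE698)) (BT.node 699 (BT.leaf cE699) (BT.leaf cE700)))) (BT.node 704 (BT.node 702 (BT.node 701 (BT.leaf cE701) (BT.leaf cE702)) (BT.node 703 (BT.leaf cE703) (BT.leaf cE704))) (BT.node 706 (BT.node 705 (BT.leaf cE705) (BT.leaf cE706)) (BT.leaf cE707)))) (BT.node 714 (BT.node 711 (BT.node 709 (BT.node 708 (BT.leaf cE708) (BT.leaf cE709)) (BT.node 710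 (BT.leaf cE710) (BT.leaf cE711))) (BT.node 713 (BT.node 712 (BT.leaf cE712) (BT.leaf cE713)) (BT.leaf cE714))) (BT.node 718 (BT.node 716 (BT.node 715 (BT.leaf cE715) (BT.leaf cE716)) (BT.node 717 (BT.leaf cE717) (BT.leaf cE718))) (BT.node 720 (BT.node 719 (BT.leaf cE719) (BT.leaf cE720)) (BT.leaf cE721))))) (BT.node 736 (BT.node 729 (BT.node 725 (BT.node 723 (BT.node 722 (BT.leaf cE722) (BT.leaf cE723)) (BT.node 724 (BT.leaf cE724) (BT.leaf cE725))) (BT.node 727 (BT.node 726 (BT.leaf cE726) (BT.leaf cE727)) (BT.node 728 (BT.leaf cE728) (BT.leaf cE729)))) (BT.node 733 (BT.node 731 (BT.node 730 (BT.leaf cE730) (BT.leaf cE731)) (BT.node 732 (BT.leaf cE732) (BT.leaf cE733))) (BT.node 735 (BT.node 734 (BT.leaf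 cE734) (BT.leaf cE735)) (BT.leaf cE736)))) (BT.node 743 (BT.node 740 (BT.node 738 (BT.node 737 (BT.leaf cE737) (BT.leaf cE738)) (BT.node 739 (BT.leaf cE739) (BT.leaf cE740))) (BT.node 742 (BT.node 741 (BT.leaf cE741) (BT.leaf cE742)) (BT.leaf cE743))) (BT.node 747 (BT.node 745 (BT.node 744 (BT.leaf cE744) (BT.leaf cE745)) (BT.node 746 (BT.leaf cE746) (BT.leaf cE747))) (BT.node 749 (BT.node 748 (BT.leaf cE748) (BT.leaf cE749)) (BT.leaf cE750)))))) (BT.node 779 (BT.node 765 (BT.node 758 (BT.node 754 (BT.node 752 (BT.node 751 (BT.leaf cE751) (BT.leaf cE752)) (BT.node 753 (BT.leaf cE753) (BT.leaf cE754))) (BT.node 756 (BT.node 755 (BT.leaf cE755) (BT.leaf cE756)) (BT.node 757 (BT.leaf cE757) (BT.leaf cE758))))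 (BT.node 762 (BT.node 760 (BT.node 759 (BT.leaf cE759) (BT.leaf cE760)) (BT.node 761 (BT.leaf cE761) (BT.leaf cE762))) (BT.node 764 (BT.node 763 (BT.leaf cE763) (BT.leaf cE764)) (BT.leaf cE765)))) (BT.node 772 (BT.node 769 (BT.node 767 (BT.node 766 (BT.leaf cE766) (BT.leaf cE767)) (BT.node 768 (BT.leaf cE768) (BT.leaf cE769))) (BT.node 771 (BT.node 770 (BT.leaf cE770) (BT.leaf cE771)) (BT.leaf cE772))) (BT.node 776 (BT.node 774 (BT.node 773 (BT.leaf cE773) (BT.leaf cE774)) (BT.node 775 (BT.leaf cE775) (BT.leaf cE776))) (BT.node 778 (BT.node 777 (BT.leaf cE777) (BT.leaf cE778)) (BT.leaf cE779))))) (BT.node 794 (BT.node 787 (BT.node 783 (BT.node 781 (BT.node 780 (BT.leaf cE780) (BT.leaf cE781)) (BT.node 782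 (BT.leaf cE782) (BT.leaf cE783))) (BT.node 785 (BT.node 784 (BT.leaf cE784) (BT.leaf cE785)) (BT.node 786 (BT.leaf cE786) (BT.leaf cE787)))) (BT.node 791 (BT.node 789 (BT.node 788 (BT.leaf cE788) (BT.leaf cE789)) (BT.node 790 (BT.leaf cE790) (BT.leaf cE791))) (BT.node 793 (BT.node 792 (BT.leaf cE792) (BT.leaf cE793)) (BT.leaf cE794)))) (BT.node 801 (BT.node 798 (BT.node 796 (BT.node 795 (BT.leaf cE795) (BT.leaf cE796)) (BT.node 797 (BT.leaf cE797) (BT.leaf cE798))) (BT.node 800 (BT.node 799 (BT.leaf cE799) (BT.leaf cE800)) (BT.leaf cE801))) (BT.node 805 (BT.node 803 (BT.node 802 (BT.leaf cE802) (BT.leaf cE803)) (BT.node 804 (BT.leaf cE804) (BT.leaf cE805))) (BT.node 807 (BT.node 806 (BT.leaf cE806) (BT.leaf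 cE807)) (BT.leaf cE808))))))) (BT.node 866 (BT.node 837 (BT.node 823 (BT.node 816 (BT.node 812 (BT.node 810 (BT.node 809 (BT.leaf cE809) (BT.leaf cE810)) (BT.node 811 (BT.leaf cE811) (BT.leaf cE812))) (BT.node 814 (BT.node 813 (BT.leaf cE813) (BT.leaf cE814)) (BT.node 815 (BT.leaf cE815) (BT.leaf cE816)))) (BT.node 820 (BT.node 818 (BT.node 817 (BT.leaf cE817) (BT.leaf cE818)) (BT.node 819 (BT.leaf cE819) (BT.leaf cE820))) (BT.node 822 (BT.node 821 (BT.leaf cE821) (BT.leaf cE822)) (BT.leaf cE823)))) (BT.node 830 (BT.node 827 (BT.node 825 (BT.node 824 (BT.leaf cE824) (BT.leaf cE825)) (BT.node 826 (BT.leaf cE826) (BT.leaf cE827))) (BT.node 829 (BT.node 828 (BT.leaf cE828) (BT.leaf cE829)) (BT.leaf cE830)))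 (BT.node 834 (BT.node 832 (BT.node 831 (BT.leaf cE831) (BT.leaf cE832)) (BT.node 833 (BT.leaf cE833) (BT.leaf cE834))) (BT.node 836 (BT.node 835 (BT.leaf cE835) (BT.leaf cE836)) (BT.leaf cE837))))) (BT.node 852 (BT.node 845 (BT.node 841 (BT.node 839 (BT.node 838 (BT.leaf cE838) (BT.leaf cE839)) (BT.node 840 (BT.leaf cE840) (BT.leaf cE841))) (BT.node 843 (BT.node 842 (BT.leaf cE842) (BT.leaf cE843)) (BT.node 844 (BT.leaf cE844) (BT.leaf cE845)))) (BT.node 849 (BT.node 847 (BT.node 846 (BT.leaf cE846) (BT.leaf cE847)) (BT.node 848 (BT.leaf cE848) (BT.leaf cE849))) (BT.node 851 (BT.node 850 (BT.leaf cE850) (BT.leaf cE851)) (BT.leaf cE852)))) (BT.node 859 (BT.node 856 (BT.node 854 (BT.node 853 (BT.leaf cE853)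 (BT.leaf cE854)) (BT.node 855 (BT.leaf cE855) (BT.leaf cE856))) (BT.node 858 (BT.node 857 (BT.leaf cE857) (BT.leaf cE858)) (BT.leaf cE859))) (BT.node 863 (BT.node 861 (BT.node 860 (BT.leaf cE860) (BT.leaf cE861)) (BT.node 862 (BT.leaf cE862) (BT.leaf cE863))) (BT.node 865 (BT.node 864 (BT.leaf cE864) (BT.leaf cE865)) (BT.leaf cE866)))))) (BT.node 895 (BT.node 881 (BT.node 874 (BT.node 870 (BT.node 868 (BT.node 867 (BT.leaf cE867) (BT.leaf cE868)) (BT.node 869 (BT.leaf cE869) (BT.leaf cE870))) (BT.node 872 (BT.node 871 (BT.leaf cE871) (BT.leaf cE872)) (BT.node 873 (BT.leaf cE873) (BT.leaf cE874)))) (BT.node 878 (BT.node 876 (BT.node 875 (BT.leaf cE875) (BT.leaf cE876)) (BT.node 877 (BT.leaf cE877) (BT.leaf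 cE878))) (BT.node 880 (BT.node 879 (BT.leaf cE879) (BT.leaf cE880)) (BT.leaf cE881)))) (BT.node 888 (BT.node 885 (BT.node 883 (BT.node 882 (BT.leaf cE882) (BT.leaf cE883)) (BT.node 884 (BT.leaf cE884) (BT.leaf cE885))) (BT.node 887 (BT.node 886 (BT.leaf cE886) (BT.leaf cE887)) (BT.leaf cE888))) (BT.node 892 (BT.node 890 (BT.node 889 (BT.leaf cE889) (BT.leaf cE890)) (BT.node 891 (BT.leaf cE891) (BT.leaf cE892))) (BT.node 894 (BT.node 893 (BT.leaf cE893) (BT.leaf cE894)) (BT.leaf cE895))))) (BT.node 909 (BT.node 902 (BT.node 899 (BT.node 897 (BT.node 896 (BT.leaf cE896) (BT.leaf cE897)) (BT.node 898 (BT.leaf cE898) (BT.leaf cE899))) (BT.node 901 (BT.node 900 (BT.leaf cE900) (BT.leaf cE901)) (BT.leaf cE902)))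 (BT.node 906 (BT.node 904 (BT.node 903 (BT.leaf cE903) (BT.leaf cE904)) (BT.node 905 (BT.leaf cE905) (BT.leaf cE906))) (BT.node 908 (BT.node 907 (BT.leaf cE907) (BT.leaf cE908)) (BT.leaf cE909)))) (BT.node 916 (BT.node 913 (BT.node 911 (BT.node 910 (BT.leaf cE910) (BT.leaf cE911)) (BT.node 912 (BT.leaf cE912) (BT.leaf cE913))) (BT.node 915 (BT.node 914 (BT.leaf cE914) (BT.leaf cE915)) (BT.leaf cE916))) (BT.node 920 (BT.node 918 (BT.node 917 (BT.leaf cE917) (BT.leaf cE918)) (BT.node 919 (BT.leaf cE919) (BT.leaf cE920))) (BT.node 922 (BT.node 921 (BT.leaf cE921) (BT.leaf cE922)) (BT.leaf cE923))))))))))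
/-- justification chunks -/
def colJT : BT ℕ := (BT.node 461 (BT.node 230 (BT.node 115 (BT.node 57 (BT.node 28 (BT.node 14 (BT.node 7 (BT.node 3 (BT.node 1 (BT.node 0 (BT.leaf cJ0) (BT.leaf cJ1)) (BT.node 2 (BT.leaf cJ2) (BT.leaf cJ3))) (BT.node 5 (BT.node 4 (BT.leaf cJ4) (BT.leaf cJ5)) (BT.node 6 (BT.leaf cJ6) (BT.leaf cJ7)))) (BT.node 11 (BT.node 9 (BT.node 8 (BT.leaf cJ8) (BT.leaf cJ9)) (BT.node 10 (BT.leaf cJ10) (BT.leaf cJ11))) (BT.node 13 (BT.node 12 (BT.leaf cJ12) (BT.leaf cJ13)) (BT.leaf cJ14)))) (BT.node 21 (BT.node 18 (BT.node 16 (BT.node 15 (BT.leaf cJ15) (BT.leaf cJ16)) (BT.node 17 (BT.leaf cJ17) (BT.leaf cJ18))) (BT.node 20 (BT.node 19 (BT.leaf cJ19) (BT.leaf cJ20)) (BT.leaf cJ21))) (BT.node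 25 (BT.node 23 (BT.node 22 (BT.leaf cJ22) (BT.leaf cJ23)) (BT.node 24 (BT.leaf cJ24) (BT.leaf cJ25))) (BT.node 27 (BT.node 26 (BT.leaf cJ26) (BT.leaf cJ27)) (BT.leaf cJ28))))) (BT.node 43 (BT.node 36 (BT.node 32 (BT.node 30 (BT.node 29 (BT.leaf cJ29) (BT.leaf cJ30)) (BT.node 31 (BT.leaf cJ31) (BT.leaf cJ32))) (BT.node 34 (BT.node 33 (BT.leaf cJ33) (BT.leaf cJ34)) (BT.node 35 (BT.leaf cJ35) (BT.leaf cJ36)))) (BT.node 40 (BT.node 38 (BT.node 37 (BT.leaf cJ37) (BT.leaf cJ38)) (BT.node 39 (BT.leaf cJ39) (BT.leaf cJ40))) (BT.node 42 (BT.node 41 (BT.leaf cJ41) (BT.leaf cJ42)) (BT.leaf cJ43)))) (BT.node 50 (BT.node 47 (BT.node 45 (BT.node 44 (BT.leaf cJ44) (BT.leaf cJ45)) (BT.node 46 (BT.leaf cJ46) (BT.leaf cJ47)))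 (BT.node 49 (BT.node 48 (BT.leaf cJ48) (BT.leaf cJ49)) (BT.leaf cJ50))) (BT.node 54 (BT.node 52 (BT.node 51 (BT.leaf cJ51) (BT.leaf cJ52)) (BT.node 53 (BT.leaf cJ53) (BT.leaf cJ54))) (BT.node 56 (BT.node 55 (BT.leaf cJ55) (BT.leaf cJ56)) (BT.leaf cJ57)))))) (BT.node 86 (BT.node 72 (BT.node 65 (BT.node 61 (BT.node 59 (BT.node 58 (BT.leaf cJ58) (BT.leaf cJ59)) (BT.node 60 (BT.leaf cJ60) (BT.leaf cJ61))) (BT.node 63 (BT.node 62 (BT.leaf cJ62) (BT.leaf cJ63)) (BT.node 64 (BT.leaf cJ64) (BT.leaf cJ65)))) (BT.node 69 (BT.node 67 (BT.node 66 (BT.leaf cJ66) (BT.leaf cJ67)) (BT.node 68 (BT.leaf cJ68) (BT.leaf cJ69))) (BT.node 71 (BT.node 70 (BT.leaf cJ70) (BT.leaf cJ71)) (BT.leaf cJ72)))) (BT.node 79 (BT.node 76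 (BT.node 74 (BT.node 73 (BT.leaf cJ73) (BT.leaf cJ74)) (BT.node 75 (BT.leaf cJ75) (BT.leaf cJ76))) (BT.node 78 (BT.node 77 (BT.leaf cJ77) (BT.leaf cJ78)) (BT.leaf cJ79))) (BT.node 83 (BT.node 81 (BT.node 80 (BT.leaf cJ80) (BT.leaf cJ81)) (BT.node 82 (BT.leaf cJ82) (BT.leaf cJ83))) (BT.node 85 (BT.node 84 (BT.leaf cJ84) (BT.leaf cJ85)) (BT.leaf cJ86))))) (BT.node 101 (BT.node 94 (BT.node 90 (BT.node 88 (BT.node 87 (BT.leaf cJ87) (BT.leaf cJ88)) (BT.node 89 (BT.leaf cJ89) (BT.leaf cJ90))) (BT.node 92 (BT.node 91 (BT.leaf cJ91) (BT.leaf cJ92)) (BT.node 93 (BT.leaf cJ93) (BT.leaf cJ94)))) (BT.node 98 (BT.node 96 (BT.node 95 (BT.leaf cJ95) (BT.leaf cJ96)) (BT.node 97 (BT.leaf cJ97) (BT.leaf cJ98))) (BT.node 100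 (BT.node 99 (BT.leaf cJ99) (BT.leaf cJ100)) (BT.leaf cJ101)))) (BT.node 108 (BT.node 105 (BT.node 103 (BT.node 102 (BT.leaf cJ102) (BT.leaf cJ103)) (BT.node 104 (BT.leaf cJ104) (BT.leaf cJ105))) (BT.node 107 (BT.node 106 (BT.leaf cJ106) (BT.leaf cJ107)) (BT.leaf cJ108))) (BT.node 112 (BT.node 110 (BT.node 109 (BT.leaf cJ109) (BT.leaf cJ110)) (BT.node 111 (BT.leaf cJ111) (BT.leaf cJ112))) (BT.node 114 (BT.node 113 (BT.leaf cJ113) (BT.leaf cJ114)) (BT.leaf cJ115))))))) (BT.node 173 (BT.node 144 (BT.node 130 (BT.node 123 (BT.node 119 (BT.node 117 (BT.node 116 (BT.leaf cJ116) (BT.leaf cJ117)) (BT.node 118 (BT.leaf cJ118) (BT.leaf cJ119))) (BT.node 121 (BT.node 120 (BT.leaf cJ120) (BT.leaf cJ121)) (BT.node 122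 (BT.leaf cJ122) (BT.leaf cJ123)))) (BT.node 127 (BT.node 125 (BT.node 124 (BT.leaf cJ124) (BT.leaf cJ125)) (BT.node 126 (BT.leaf cJ126) (BT.leaf cJ127))) (BT.node 129 (BT.node 128 (BT.leaf cJ128) (BT.leaf cJ129)) (BT.leaf cJ130)))) (BT.node 137 (BT.node 134 (BT.node 132 (BT.node 131 (BT.leaf cJ131) (BT.leaf cJ132)) (BT.node 133 (BT.leaf cJ133) (BT.leaf cJ134))) (BT.node 136 (BT.node 135 (BT.leaf cJ135) (BT.leaf cJ136)) (BT.leaf cJ137))) (BT.node 141 (BT.node 139 (BT.node 138 (BT.leaf cJ138) (BT.leaf cJ139)) (BT.node 140 (BT.leaf cJ140) (BT.leaf cJ141))) (BT.node 143 (BT.node 142 (BT.leaf cJ142) (BT.leaf cJ143)) (BT.leaf cJ144))))) (BT.node 159 (BT.node 152 (BT.node 148 (BT.node 146 (BT.node 145 (BT.leaf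 cJ145) (BT.leaf cJ146)) (BT.node 147 (BT.leaf cJ147) (BT.leaf cJ148))) (BT.node 150 (BT.node 149 (BT.leaf cJ149) (BT.leaf cJ150)) (BT.node 151 (BT.leaf cJ151) (BT.leaf cJ152)))) (BT.node 156 (BT.node 154 (BT.node 153 (BT.leaf cJ153) (BT.leaf cJ154)) (BT.node 155 (BT.leaf cJ155) (BT.leaf cJ156))) (BT.node 158 (BT.node 157 (BT.leaf cJ157) (BT.leaf cJ158)) (BT.leaf cJ159)))) (BT.node 166 (BT.node 163 (BT.node 161 (BT.node 160 (BT.leaf cJ160) (BT.leaf cJ161)) (BT.node 162 (BT.leaf cJ162) (BT.leaf cJ163))) (BT.node 165 (BT.node 164 (BT.leaf cJ164) (BT.leaf cJ165)) (BT.leaf cJ166))) (BT.node 170 (BT.node 168 (BT.node 167 (BT.leaf cJ167) (BT.leaf cJ168)) (BT.node 169 (BT.leaf cJ169) (BT.leaf cJ170))) (BT.node 172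 (BT.node 171 (BT.leaf cJ171) (BT.leaf cJ172)) (BT.leaf cJ173)))))) (BT.node 202 (BT.node 188 (BT.node 181 (BT.node 177 (BT.node 175 (BT.node 174 (BT.leaf cJ174) (BT.leaf cJ175)) (BT.node 176 (BT.leaf cJ176) (BT.leaf cJ177))) (BT.node 179 (BT.node 178 (BT.leaf cJ178) (BT.leaf cJ179)) (BT.node 180 (BT.leaf cJ180) (BT.leaf cJ181)))) (BT.node 185 (BT.node 183 (BT.node 182 (BT.leaf cJ182) (BT.leaf cJ183)) (BT.node 184 (BT.leaf cJ184) (BT.leaf cJ185))) (BT.node 187 (BT.node 186 (BT.leaf cJ186) (BT.leaf cJ187)) (BT.leaf cJ188)))) (BT.node 195 (BT.node 192 (BT.node 190 (BT.node 189 (BT.leaf cJ189) (BT.leaf cJ190)) (BT.node 191 (BT.leaf cJ191) (BT.leaf cJ192))) (BT.node 194 (BT.node 193 (BT.leaf cJ193) (BT.leaf cJ194))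 (BT.leaf cJ195))) (BT.node 199 (BT.node 197 (BT.node 196 (BT.leaf cJ196) (BT.leaf cJ197)) (BT.node 198 (BT.leaf cJ198) (BT.leaf cJ199))) (BT.node 201 (BT.node 200 (BT.leaf cJ200) (BT.leaf cJ201)) (BT.leaf cJ202))))) (BT.node 216 (BT.node 209 (BT.node 206 (BT.node 204 (BT.node 203 (BT.leaf cJ203) (BT.leaf cJ204)) (BT.node 205 (BT.leaf cJ205) (BT.leaf cJ206))) (BT.node 208 (BT.node 207 (BT.leaf cJ207) (BT.leaf cJ208)) (BT.leaf cJ209))) (BT.node 213 (BT.node 211 (BT.node 210 (BT.leaf cJ210) (BT.leaf cJ211)) (BT.node 212 (BT.leaf cJ212) (BT.leaf cJ213))) (BT.node 215 (BT.node 214 (BT.leaf cJ214) (BT.leaf cJ215)) (BT.leaf cJ216)))) (BT.node 223 (BT.node 220 (BT.node 218 (BT.node 217 (BT.leaf cJ217) (BT.leaf cJ218))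 (BT.node 219 (BT.leaf cJ219) (BT.leaf cJ220))) (BT.node 222 (BT.node 221 (BT.leaf cJ221) (BT.leaf cJ222)) (BT.leaf cJ223))) (BT.node 227 (BT.node 225 (BT.node 224 (BT.leaf cJ224) (BT.leaf cJ225)) (BT.node 226 (BT.leaf cJ226) (BT.leaf cJ227))) (BT.node 229 (BT.node 228 (BT.leaf cJ228) (BT.leaf cJ229)) (BT.leaf cJ230)))))))) (BT.node 346 (BT.node 288 (BT.node 259 (BT.node 245 (BT.node 238 (BT.node 234 (BT.node 232 (BT.node 231 (BT.leaf cJ231) (BT.leaf cJ232)) (BT.node 233 (BT.leaf cJ233) (BT.leaf cJ234))) (BT.node 236 (BT.node 235 (BT.leaf cJ235) (BT.leaf cJ236)) (BT.node 237 (BT.leaf cJ237) (BT.leaf cJ238)))) (BT.node 242 (BT.node 240 (BT.node 239 (BT.leaf cJ239) (BT.leaf cJ240)) (BT.node 241 (BT.leaf cJ241)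 (BT.leaf cJ242))) (BT.node 244 (BT.node 243 (BT.leaf cJ243) (BT.leaf cJ244)) (BT.leaf cJ245)))) (BT.node 252 (BT.node 249 (BT.node 247 (BT.node 246 (BT.leaf cJ246) (BT.leaf cJ247)) (BT.node 248 (BT.leaf cJ248) (BT.leaf cJ249))) (BT.node 251 (BT.node 250 (BT.leaf cJ250) (BT.leaf cJ251)) (BT.leaf cJ252))) (BT.node 256 (BT.node 254 (BT.node 253 (BT.leaf cJ253) (BT.leaf cJ254)) (BT.node 255 (BT.leaf cJ255) (BT.leaf cJ256))) (BT.node 258 (BT.node 257 (BT.leaf cJ257) (BT.leaf cJ258)) (BT.leaf cJ259))))) (BT.node 274 (BT.node 267 (BT.node 263 (BT.node 261 (BT.node 260 (BT.leaf cJ260) (BT.leaf cJ261)) (BT.node 262 (BT.leaf cJ262) (BT.leaf cJ263))) (BT.node 265 (BT.node 264 (BT.leaf cJ264) (BT.leaf cJ265)) (BT.node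 266 (BT.leaf cJ266) (BT.leaf cJ267)))) (BT.node 271 (BT.node 269 (BT.node 268 (BT.leaf cJ268) (BT.leaf cJ269)) (BT.node 270 (BT.leaf cJ270) (BT.leaf cJ271))) (BT.node 273 (BT.node 272 (BT.leaf cJ272) (BT.leaf cJ273)) (BT.leaf cJ274)))) (BT.node 281 (BT.node 278 (BT.node 276 (BT.node 275 (BT.leaf cJ275) (BT.leaf cJ276)) (BT.node 277 (BT.leaf cJ277) (BT.leaf cJ278))) (BT.node 280 (BT.node 279 (BT.leaf cJ279) (BT.leaf cJ280)) (BT.leaf cJ281))) (BT.node 285 (BT.node 283 (BT.node 282 (BT.leaf cJ282) (BT.leaf cJ283)) (BT.node 284 (BT.leaf cJ284) (BT.leaf cJ285))) (BT.node 287 (BT.node 286 (BT.leaf cJ286) (BT.leaf cJ287)) (BT.leaf cJ288)))))) (BT.node 317 (BT.node 303 (BT.node 296 (BT.node 292 (BT.node 290 (BT.node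 289 (BT.leaf cJ289) (BT.leaf cJ290)) (BT.node 291 (BT.leaf cJ291) (BT.leaf cJ292))) (BT.node 294 (BT.node 293 (BT.leaf cJ293) (BT.leaf cJ294)) (BT.node 295 (BT.leaf cJ295) (BT.leaf cJ296)))) (BT.node 300 (BT.node 298 (BT.node 297 (BT.leaf cJ297) (BT.leaf cJ298)) (BT.node 299 (BT.leaf cJ299) (BT.leaf cJ300))) (BT.node 302 (BT.node 301 (BT.leaf cJ301) (BT.leaf cJ302)) (BT.leaf cJ303)))) (BT.node 310 (BT.node 307 (BT.node 305 (BT.node 304 (BT.leaf cJ304) (BT.leaf cJ305)) (BT.node 306 (BT.leaf cJ306) (BT.leaf cJ307))) (BT.node 309 (BT.node 308 (BT.leaf cJ308) (BT.leaf cJ309)) (BT.leaf cJ310))) (BT.node 314 (BT.node 312 (BT.node 311 (BT.leaf cJ311) (BT.leaf cJ312)) (BT.node 313 (BT.leaf cJ313) (BT.leaf cJ314)))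 (BT.node 316 (BT.node 315 (BT.leaf cJ315) (BT.leaf cJ316)) (BT.leaf cJ317))))) (BT.node 332 (BT.node 325 (BT.node 321 (BT.node 319 (BT.node 318 (BT.leaf cJ318) (BT.leaf cJ319)) (BT.node 320 (BT.leaf cJ320) (BT.leaf cJ321))) (BT.node 323 (BT.node 322 (BT.leaf cJ322) (BT.leaf cJ323)) (BT.node 324 (BT.leaf cJ324) (BT.leaf cJ325)))) (BT.node 329 (BT.node 327 (BT.node 326 (BT.leaf cJ326) (BT.leaf cJ327)) (BT.node 328 (BT.leaf cJ328) (BT.leaf cJ329))) (BT.node 331 (BT.node 330 (BT.leaf cJ330) (BT.leaf cJ331)) (BT.leaf cJ332)))) (BT.node 339 (BT.node 336 (BT.node 334 (BT.node 333 (BT.leaf cJ333) (BT.leaf cJ334)) (BT.node 335 (BT.leaf cJ335) (BT.leaf cJ336))) (BT.node 338 (BT.node 337 (BT.leaf cJ337) (BT.leaf cJ338))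 (BT.leaf cJ339))) (BT.node 343 (BT.node 341 (BT.node 340 (BT.leaf cJ340) (BT.leaf cJ341)) (BT.node 342 (BT.leaf cJ342) (BT.leaf cJ343))) (BT.node 345 (BT.node 344 (BT.leaf cJ344) (BT.leaf cJ345)) (BT.leaf cJ346))))))) (BT.node 404 (BT.node 375 (BT.node 361 (BT.node 354 (BT.node 350 (BT.node 348 (BT.node 347 (BT.leaf cJ347) (BT.leaf cJ348)) (BT.node 349 (BT.leaf cJ349) (BT.leaf cJ350))) (BT.node 352 (BT.node 351 (BT.leaf cJ351) (BT.leaf cJ352)) (BT.node 353 (BT.leaf cJ353) (BT.leaf cJ354)))) (BT.node 358 (BT.node 356 (BT.node 355 (BT.leaf cJ355) (BT.leaf cJ356)) (BT.node 357 (BT.leaf cJ357) (BT.leaf cJ358))) (BT.node 360 (BT.node 359 (BT.leaf cJ359) (BT.leaf cJ360)) (BT.leaf cJ361)))) (BT.node 368 (BT.node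 365 (BT.node 363 (BT.node 362 (BT.leaf cJ362) (BT.leaf cJ363)) (BT.node 364 (BT.leaf cJ364) (BT.leaf cJ365))) (BT.node 367 (BT.node 366 (BT.leaf cJ366) (BT.leaf cJ367)) (BT.leaf cJ368))) (BT.node 372 (BT.node 370 (BT.node 369 (BT.leaf cJ369) (BT.leaf cJ370)) (BT.node 371 (BT.leaf cJ371) (BT.leaf cJ372))) (BT.node 374 (BT.node 373 (BT.leaf cJ373) (BT.leaf cJ374)) (BT.leaf cJ375))))) (BT.node 390 (BT.node 383 (BT.node 379 (BT.node 377 (BT.node 376 (BT.leaf cJ376) (BT.leaf cJ377)) (BT.node 378 (BT.leaf cJ378) (BT.leaf cJ379))) (BT.node 381 (BT.node 380 (BT.leaf cJ380) (BT.leaf cJ381)) (BT.node 382 (BT.leaf cJ382) (BT.leaf cJ383)))) (BT.node 387 (BT.node 385 (BT.node 384 (BT.leaf cJ384) (BT.leaf cJ385)) (BT.node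 386 (BT.leaf cJ386) (BT.leaf cJ387))) (BT.node 389 (BT.node 388 (BT.leaf cJ388) (BT.leaf cJ389)) (BT.leaf cJ390)))) (BT.node 397 (BT.node 394 (BT.node 392 (BT.node 391 (BT.leaf cJ391) (BT.leaf cJ392)) (BT.node 393 (BT.leaf cJ393) (BT.leaf cJ394))) (BT.node 396 (BT.node 395 (BT.leaf cJ395) (BT.leaf cJ396)) (BT.leaf cJ397))) (BT.node 401 (BT.node 399 (BT.node 398 (BT.leaf cJ398) (BT.leaf cJ399)) (BT.node 400 (BT.leaf cJ400) (BT.leaf cJ401))) (BT.node 403 (BT.node 402 (BT.leaf cJ402) (BT.leaf cJ403)) (BT.leaf cJ404)))))) (BT.node 433 (BT.node 419 (BT.node 412 (BT.node 408 (BT.node 406 (BT.node 405 (BT.leaf cJ405) (BT.leaf cJ406)) (BT.node 407 (BT.leaf cJ407) (BT.leaf cJ408))) (BT.node 410 (BT.node 409 (BT.leaf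 cJ409) (BT.leaf cJ410)) (BT.node 411 (BT.leaf cJ411) (BT.leaf cJ412)))) (BT.node 416 (BT.node 414 (BT.node 413 (BT.leaf cJ413) (BT.leaf cJ414)) (BT.node 415 (BT.leaf cJ415) (BT.leaf cJ416))) (BT.node 418 (BT.node 417 (BT.leaf cJ417) (BT.leaf cJ418)) (BT.leaf cJ419)))) (BT.node 426 (BT.node 423 (BT.node 421 (BT.node 420 (BT.leaf cJ420) (BT.leaf cJ421)) (BT.node 422 (BT.leaf cJ422) (BT.leaf cJ423))) (BT.node 425 (BT.node 424 (BT.leaf cJ424) (BT.leaf cJ425)) (BT.leaf cJ426))) (BT.node 430 (BT.node 428 (BT.node 427 (BT.leaf cJ427) (BT.leaf cJ428)) (BT.node 429 (BT.leaf cJ429) (BT.leaf cJ430))) (BT.node 432 (BT.node 431 (BT.leaf cJ431) (BT.leaf cJ432)) (BT.leaf cJ433))))) (BT.node 447 (BT.node 440 (BT.node 437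 (BT.node 435 (BT.node 434 (BT.leaf cJ434) (BT.leaf cJ435)) (BT.node 436 (BT.leaf cJ436) (BT.leaf cJ437))) (BT.node 439 (BT.node 438 (BT.leaf cJ438) (BT.leaf cJ439)) (BT.leaf cJ440))) (BT.node 444 (BT.node 442 (BT.node 441 (BT.leaf cJ441) (BT.leaf cJ442)) (BT.node 443 (BT.leaf cJ443) (BT.leaf cJ444))) (BT.node 446 (BT.node 445 (BT.leaf cJ445) (BT.leaf cJ446)) (BT.leaf cJ447)))) (BT.node 454 (BT.node 451 (BT.node 449 (BT.node 448 (BT.leaf cJ448) (BT.leaf cJ449)) (BT.node 450 (BT.leaf cJ450) (BT.leaf cJ451))) (BT.node 453 (BT.node 452 (BT.leaf cJ452) (BT.leaf cJ453)) (BT.leaf cJ454))) (BT.node 458 (BT.node 456 (BT.node 455 (BT.leaf cJ455) (BT.leaf cJ456)) (BT.node 457 (BT.leaf cJ457) (BT.leaf cJ458))) (BT.node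 460 (BT.node 459 (BT.leaf cJ459) (BT.leaf cJ460)) (BT.leaf cJ461))))))))) (BT.node 692 (BT.node 577 (BT.node 519 (BT.node 490 (BT.node 476 (BT.node 469 (BT.node 465 (BT.node 463 (BT.node 462 (BT.leaf cJ462) (BT.leaf cJ463)) (BT.node 464 (BT.leaf cJ464) (BT.leaf cJ465))) (BT.node 467 (BT.node 466 (BT.leaf cJ466) (BT.leaf cJ467)) (BT.node 468 (BT.leaf cJ468) (BT.leaf cJ469)))) (BT.node 473 (BT.node 471 (BT.node 470 (BT.leaf cJ470) (BT.leaf cJ471)) (BT.node 472 (BT.leaf cJ472) (BT.leaf cJ473))) (BT.node 475 (BT.node 474 (BT.leaf cJ474) (BT.leaf cJ475)) (BT.leaf cJ476)))) (BT.node 483 (BT.node 480 (BT.node 478 (BT.node 477 (BT.leaf cJ477) (BT.leaf cJ478)) (BT.node 479 (BT.leaf cJ479) (BT.leaf cJ480))) (BT.node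 482 (BT.node 481 (BT.leaf cJ481) (BT.leaf cJ482)) (BT.leaf cJ483))) (BT.node 487 (BT.node 485 (BT.node 484 (BT.leaf cJ484) (BT.leaf cJ485)) (BT.node 486 (BT.leaf cJ486) (BT.leaf cJ487))) (BT.node 489 (BT.node 488 (BT.leaf cJ488) (BT.leaf cJ489)) (BT.leaf cJ490))))) (BT.node 505 (BT.node 498 (BT.node 494 (BT.node 492 (BT.node 491 (BT.leaf cJ491) (BT.leaf cJ492)) (BT.node 493 (BT.leaf cJ493) (BT.leaf cJ494))) (BT.node 496 (BT.node 495 (BT.leaf cJ495) (BT.leaf cJ496)) (BT.node 497 (BT.leaf cJ497) (BT.leaf cJ498)))) (BT.node 502 (BT.node 500 (BT.node 499 (BT.leaf cJ499) (BT.leaf cJ500)) (BT.node 501 (BT.leaf cJ501) (BT.leaf cJ502))) (BT.node 504 (BT.node 503 (BT.leaf cJ503) (BT.leaf cJ504)) (BT.leaf cJ505))))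 (BT.node 512 (BT.node 509 (BT.node 507 (BT.node 506 (BT.leaf cJ506) (BT.leaf cJ507)) (BT.node 508 (BT.leaf cJ508) (BT.leaf cJ509))) (BT.node 511 (BT.node 510 (BT.leaf cJ510) (BT.leaf cJ511)) (BT.leaf cJ512))) (BT.node 516 (BT.node 514 (BT.node 513 (BT.leaf cJ513) (BT.leaf cJ514)) (BT.node 515 (BT.leaf cJ515) (BT.leaf cJ516))) (BT.node 518 (BT.node 517 (BT.leaf cJ517) (BT.leaf cJ518)) (BT.leaf cJ519)))))) (BT.node 548 (BT.node 534 (BT.node 527 (BT.node 523 (BT.node 521 (BT.node 520 (BT.leaf cJ520) (BT.leaf cJ521)) (BT.node 522 (BT.leaf cJ522) (BT.leaf cJ523))) (BT.node 525 (BT.node 524 (BT.leaf cJ524) (BT.leaf cJ525)) (BT.node 526 (BT.leaf cJ526) (BT.leaf cJ527)))) (BT.node 531 (BT.node 529 (BT.node 528 (BT.leaf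 cJ528) (BT.leaf cJ529)) (BT.node 530 (BT.leaf cJ530) (BT.leaf cJ531))) (BT.node 533 (BT.node 532 (BT.leaf cJ532) (BT.leaf cJ533)) (BT.leaf cJ534)))) (BT.node 541 (BT.node 538 (BT.node 536 (BT.node 535 (BT.leaf cJ535) (BT.leaf cJ536)) (BT.node 537 (BT.leaf cJ537) (BT.leaf cJ538))) (BT.node 540 (BT.node 539 (BT.leaf cJ539) (BT.leaf cJ540)) (BT.leaf cJ541))) (BT.node 545 (BT.node 543 (BT.node 542 (BT.leaf cJ542) (BT.leaf cJ543)) (BT.node 544 (BT.leaf cJ544) (BT.leaf cJ545))) (BT.node 547 (BT.node 546 (BT.leaf cJ546) (BT.leaf cJ547)) (BT.leaf cJ548))))) (BT.node 563 (BT.node 556 (BT.node 552 (BT.node 550 (BT.node 549 (BT.leaf cJ549) (BT.leaf cJ550)) (BT.node 551 (BT.leaf cJ551) (BT.leaf cJ552))) (BT.node 554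 (BT.node 553 (BT.leaf cJ553) (BT.leaf cJ554)) (BT.node 555 (BT.leaf cJ555) (BT.leaf cJ556)))) (BT.node 560 (BT.node 558 (BT.node 557 (BT.leaf cJ557) (BT.leaf cJ558)) (BT.node 559 (BT.leaf cJ559) (BT.leaf cJ560))) (BT.node 562 (BT.node 561 (BT.leaf cJ561) (BT.leaf cJ562)) (BT.leaf cJ563)))) (BT.node 570 (BT.node 567 (BT.node 565 (BT.node 564 (BT.leaf cJ564) (BT.leaf cJ565)) (BT.node 566 (BT.leaf cJ566) (BT.leaf cJ567))) (BT.node 569 (BT.node 568 (BT.leaf cJ568) (BT.leaf cJ569)) (BT.leaf cJ570))) (BT.node 574 (BT.node 572 (BT.node 571 (BT.leaf cJ571) (BT.leaf cJ572)) (BT.node 573 (BT.leaf cJ573) (BT.leaf cJ574))) (BT.node 576 (BT.node 575 (BT.leaf cJ575) (BT.leaf cJ576)) (BT.leaf cJ577))))))) (BT.node 635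 (BT.node 606 (BT.node 592 (BT.node 585 (BT.node 581 (BT.node 579 (BT.node 578 (BT.leaf cJ578) (BT.leaf cJ579)) (BT.node 580 (BT.leaf cJ580) (BT.leaf cJ581))) (BT.node 583 (BT.node 582 (BT.leaf cJ582) (BT.leaf cJ583)) (BT.node 584 (BT.leaf cJ584) (BT.leaf cJ585)))) (BT.node 589 (BT.node 587 (BT.node 586 (BT.leaf cJ586) (BT.leaf cJ587)) (BT.node 588 (BT.leaf cJ588) (BT.leaf cJ589))) (BT.node 591 (BT.node 590 (BT.leaf cJ590) (BT.leaf cJ591)) (BT.leaf cJ592)))) (BT.node 599 (BT.node 596 (BT.node 594 (BT.node 593 (BT.leaf cJ593) (BT.leaf cJ594)) (BT.node 595 (BT.leaf cJ595) (BT.leaf cJ596))) (BT.node 598 (BT.node 597 (BT.leaf cJ597) (BT.leaf cJ598)) (BT.leaf cJ599))) (BT.node 603 (BT.node 601 (BT.node 600 (BT.leaf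 cJ600) (BT.leaf cJ601)) (BT.node 602 (BT.leaf cJ602) (BT.leaf cJ603))) (BT.node 605 (BT.node 604 (BT.leaf cJ604) (BT.leaf cJ605)) (BT.leaf cJ606))))) (BT.node 621 (BT.node 614 (BT.node 610 (BT.node 608 (BT.node 607 (BT.leaf cJ607) (BT.leaf cJ608)) (BT.node 609 (BT.leaf cJ609) (BT.leaf cJ610))) (BT.node 612 (BT.node 611 (BT.leaf cJ611) (BT.leaf cJ612)) (BT.node 613 (BT.leaf cJ613) (BT.leaf cJ614)))) (BT.node 618 (BT.node 616 (BT.node 615 (BT.leaf cJ615) (BT.leaf cJ616)) (BT.node 617 (BT.leaf cJ617) (BT.leaf cJ618))) (BT.node 620 (BT.node 619 (BT.leaf cJ619) (BT.leaf cJ620)) (BT.leaf cJ621)))) (BT.node 628 (BT.node 625 (BT.node 623 (BT.node 622 (BT.leaf cJ622) (BT.leaf cJ623)) (BT.node 624 (BT.leaf cJ624)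 (BT.leaf cJ625))) (BT.node 627 (BT.node 626 (BT.leaf cJ626) (BT.leaf cJ627)) (BT.leaf cJ628))) (BT.node 632 (BT.node 630 (BT.node 629 (BT.leaf cJ629) (BT.leaf cJ630)) (BT.node 631 (BT.leaf cJ631) (BT.leaf cJ632))) (BT.node 634 (BT.node 633 (BT.leaf cJ633) (BT.leaf cJ634)) (BT.leaf cJ635)))))) (BT.node 664 (BT.node 650 (BT.node 643 (BT.node 639 (BT.node 637 (BT.node 636 (BT.leaf cJ636) (BT.leaf cJ637)) (BT.node 638 (BT.leaf cJ638) (BT.leaf cJ639))) (BT.node 641 (BT.node 640 (BT.leaf cJ640) (BT.leaf cJ641)) (BT.node 642 (BT.leaf cJ642) (BT.leaf cJ643)))) (BT.node 647 (BT.node 645 (BT.node 644 (BT.leaf cJ644) (BT.leaf cJ645)) (BT.node 646 (BT.leaf cJ646) (BT.leaf cJ647))) (BT.node 649 (BT.node 648 (BT.leaf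 cJ648) (BT.leaf cJ649)) (BT.leaf cJ650)))) (BT.node 657 (BT.node 654 (BT.node 652 (BT.node 651 (BT.leaf cJ651) (BT.leaf cJ652)) (BT.node 653 (BT.leaf cJ653) (BT.leaf cJ654))) (BT.node 656 (BT.node 655 (BT.leaf cJ655) (BT.leaf cJ656)) (BT.leaf cJ657))) (BT.node 661 (BT.node 659 (BT.node 658 (BT.leaf cJ658) (BT.leaf cJ659)) (BT.node 660 (BT.leaf cJ660) (BT.leaf cJ661))) (BT.node 663 (BT.node 662 (BT.leaf cJ662) (BT.leaf cJ663)) (BT.leaf cJ664))))) (BT.node 678 (BT.node 671 (BT.node 668 (BT.node 666 (BT.node 665 (BT.leaf cJ665) (BT.leaf cJ666)) (BT.node 667 (BT.leaf cJ667) (BT.leaf cJ668))) (BT.node 670 (BT.node 669 (BT.leaf cJ669) (BT.leaf cJ670)) (BT.leaf cJ671))) (BT.node 675 (BT.node 673 (BT.node 672 (BT.leaf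 cJ672) (BT.leaf cJ673)) (BT.node 674 (BT.leaf cJ674) (BT.leaf cJ675))) (BT.node 677 (BT.node 676 (BT.leaf cJ676) (BT.leaf cJ677)) (BT.leaf cJ678)))) (BT.node 685 (BT.node 682 (BT.node 680 (BT.node 679 (BT.leaf cJ679) (BT.leaf cJ680)) (BT.node 681 (BT.leaf cJ681) (BT.leaf cJ682))) (BT.node 684 (BT.node 683 (BT.leaf cJ683) (BT.leaf cJ684)) (BT.leaf cJ685))) (BT.node 689 (BT.node 687 (BT.node 686 (BT.leaf cJ686) (BT.leaf cJ687)) (BT.node 688 (BT.leaf cJ688) (BT.leaf cJ689))) (BT.node 691 (BT.node 690 (BT.leaf cJ690) (BT.leaf cJ691)) (BT.leaf cJ692)))))))) (BT.node 808 (BT.node 750 (BT.node 721 (BT.node 707 (BT.node 700 (BT.node 696 (BT.node 694 (BT.node 693 (BT.leaf cJ693) (BT.leaf cJ694)) (BT.node 695 (BT.leaf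 cJ695) (BT.leaf cJ696))) (BT.node 698 (BT.node 697 (BT.leaf cJ697) (BT.leaf cJ698)) (BT.node 699 (BT.leaf cJ699) (BT.leaf cJ700)))) (BT.node 704 (BT.node 702 (BT.node 701 (BT.leaf cJ701) (BT.leaf cJ702)) (BT.node 703 (BT.leaf cJ703) (BT.leaf cJ704))) (BT.node 706 (BT.node 705 (BT.leaf cJ705) (BT.leaf cJ706)) (BT.leaf cJ707)))) (BT.node 714 (BT.node 711 (BT.node 709 (BT.node 708 (BT.leaf cJ708) (BT.leaf cJ709)) (BT.node 710 (BT.leaf cJ710) (BT.leaf cJ711))) (BT.node 713 (BT.node 712 (BT.leaf cJ712) (BT.leaf cJ713)) (BT.leaf cJ714))) (BT.node 718 (BT.node 716 (BT.node 715 (BT.leaf cJ715) (BT.leaf cJ716)) (BT.node 717 (BT.leaf cJ717) (BT.leaf cJ718))) (BT.node 720 (BT.node 719 (BT.leaf cJ719) (BT.leaf cJ720))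 (BT.leaf cJ721))))) (BT.node 736 (BT.node 729 (BT.node 725 (BT.node 723 (BT.node 722 (BT.leaf cJ722) (BT.leaf cJ723)) (BT.node 724 (BT.leaf cJ724) (BT.leaf cJ725))) (BT.node 727 (BT.node 726 (BT.leaf cJ726) (BT.leaf cJ727)) (BT.node 728 (BT.leaf cJ728) (BT.leaf cJ729)))) (BT.node 733 (BT.node 731 (BT.node 730 (BT.leaf cJ730) (BT.leaf cJ731)) (BT.node 732 (BT.leaf cJ732) (BT.leaf cJ733))) (BT.node 735 (BT.node 734 (BT.leaf cJ734) (BT.leaf cJ735)) (BT.leaf cJ736)))) (BT.node 743 (BT.node 740 (BT.node 738 (BT.node 737 (BT.leaf cJ737) (BT.leaf cJ738)) (BT.node 739 (BT.leaf cJ739) (BT.leaf cJ740))) (BT.node 742 (BT.node 741 (BT.leaf cJ741) (BT.leaf cJ742)) (BT.leaf cJ743))) (BT.node 747 (BT.node 745 (BT.node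 744 (BT.leaf cJ744) (BT.leaf cJ745)) (BT.node 746 (BT.leaf cJ746) (BT.leaf cJ747))) (BT.node 749 (BT.node 748 (BT.leaf cJ748) (BT.leaf cJ749)) (BT.leaf cJ750)))))) (BT.node 779 (BT.node 765 (BT.node 758 (BT.node 754 (BT.node 752 (BT.node 751 (BT.leaf cJ751) (BT.leaf cJ752)) (BT.node 753 (BT.leaf cJ753) (BT.leaf cJ754))) (BT.node 756 (BT.node 755 (BT.leaf cJ755) (BT.leaf cJ756)) (BT.node 757 (BT.leaf cJ757) (BT.leaf cJ758)))) (BT.node 762 (BT.node 760 (BT.node 759 (BT.leaf cJ759) (BT.leaf cJ760)) (BT.node 761 (BT.leaf cJ761) (BT.leaf cJ762))) (BT.node 764 (BT.node 763 (BT.leaf cJ763) (BT.leaf cJ764)) (BT.leaf cJ765)))) (BT.node 772 (BT.node 769 (BT.node 767 (BT.node 766 (BT.leaf cJ766) (BT.leaf cJ767)) (BT.node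 768 (BT.leaf cJ768) (BT.leaf cJ769))) (BT.node 771 (BT.node 770 (BT.leaf cJ770) (BT.leaf cJ771)) (BT.leaf cJ772))) (BT.node 776 (BT.node 774 (BT.node 773 (BT.leaf cJ773) (BT.leaf cJ774)) (BT.node 775 (BT.leaf cJ775) (BT.leaf cJ776))) (BT.node 778 (BT.node 777 (BT.leaf cJ777) (BT.leaf cJ778)) (BT.leaf cJ779))))) (BT.node 794 (BT.node 787 (BT.node 783 (BT.node 781 (BT.node 780 (BT.leaf cJ780) (BT.leaf cJ781)) (BT.node 782 (BT.leaf cJ782) (BT.leaf cJ783))) (BT.node 785 (BT.node 784 (BT.leaf cJ784) (BT.leaf cJ785)) (BT.node 786 (BT.leaf cJ786) (BT.leaf cJ787)))) (BT.node 791 (BT.node 789 (BT.node 788 (BT.leaf cJ788) (BT.leaf cJ789)) (BT.node 790 (BT.leaf cJ790) (BT.leaf cJ791))) (BT.node 793 (BT.node 792 (BT.leaf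 cJ792) (BT.leaf cJ793)) (BT.leaf cJ794)))) (BT.node 801 (BT.node 798 (BT.node 796 (BT.node 795 (BT.leaf cJ795) (BT.leaf cJ796)) (BT.node 797 (BT.leaf cJ797) (BT.leaf cJ798))) (BT.node 800 (BT.node 799 (BT.leaf cJ799) (BT.leaf cJ800)) (BT.leaf cJ801))) (BT.node 805 (BT.node 803 (BT.node 802 (BT.leaf cJ802) (BT.leaf cJ803)) (BT.node 804 (BT.leaf cJ804) (BT.leaf cJ805))) (BT.node 807 (BT.node 806 (BT.leaf cJ806) (BT.leaf cJ807)) (BT.leaf cJ808))))))) (BT.node 866 (BT.node 837 (BT.node 823 (BT.node 816 (BT.node 812 (BT.node 810 (BT.node 809 (BT.leaf cJ809) (BT.leaf cJ810)) (BT.node 811 (BT.leaf cJ811) (BT.leaf cJ812))) (BT.node 814 (BT.node 813 (BT.leaf cJ813) (BT.leaf cJ814)) (BT.node 815 (BT.leaf cJ815) (BT.leaf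 cJ816)))) (BT.node 820 (BT.node 818 (BT.node 817 (BT.leaf cJ817) (BT.leaf cJ818)) (BT.node 819 (BT.leaf cJ819) (BT.leaf cJ820))) (BT.node 822 (BT.node 821 (BT.leaf cJ821) (BT.leaf cJ822)) (BT.leaf cJ823)))) (BT.node 830 (BT.node 827 (BT.node 825 (BT.node 824 (BT.leaf cJ824) (BT.leaf cJ825)) (BT.node 826 (BT.leaf cJ826) (BT.leaf cJ827))) (BT.node 829 (BT.node 828 (BT.leaf cJ828) (BT.leaf cJ829)) (BT.leaf cJ830))) (BT.node 834 (BT.node 832 (BT.node 831 (BT.leaf cJ831) (BT.leaf cJ832)) (BT.node 833 (BT.leaf cJ833) (BT.leaf cJ834))) (BT.node 836 (BT.node 835 (BT.leaf cJ835) (BT.leaf cJ836)) (BT.leaf cJ837))))) (BT.node 852 (BT.node 845 (BT.node 841 (BT.node 839 (BT.node 838 (BT.leaf cJ838) (BT.leaf cJ839)) (BT.node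 840 (BT.leaf cJ840) (BT.leaf cJ841))) (BT.node 843 (BT.node 842 (BT.leaf cJ842) (BT.leaf cJ843)) (BT.node 844 (BT.leaf cJ844) (BT.leaf cJ845)))) (BT.node 849 (BT.node 847 (BT.node 846 (BT.leaf cJ846) (BT.leaf cJ847)) (BT.node 848 (BT.leaf cJ848) (BT.leaf cJ849))) (BT.node 851 (BT.node 850 (BT.leaf cJ850) (BT.leaf cJ851)) (BT.leaf cJ852)))) (BT.node 859 (BT.node 856 (BT.node 854 (BT.node 853 (BT.leaf cJ853) (BT.leaf cJ854)) (BT.node 855 (BT.leaf cJ855) (BT.leaf cJ856))) (BT.node 858 (BT.node 857 (BT.leaf cJ857) (BT.leaf cJ858)) (BT.leaf cJ859))) (BT.node 863 (BT.node 861 (BT.node 860 (BT.leaf cJ860) (BT.leaf cJ861)) (BT.node 862 (BT.leaf cJ862) (BT.leaf cJ863))) (BT.node 865 (BT.node 864 (BT.leaf cJ864) (BT.leaf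 cJ865)) (BT.leaf cJ866)))))) (BT.node 895 (BT.node 881 (BT.node 874 (BT.node 870 (BT.node 868 (BT.node 867 (BT.leaf cJ867) (BT.leaf cJ868)) (BT.node 869 (BT.leaf cJ869) (BT.leaf cJ870))) (BT.node 872 (BT.node 871 (BT.leaf cJ871) (BT.leaf cJ872)) (BT.node 873 (BT.leaf cJ873) (BT.leaf cJ874)))) (BT.node 878 (BT.node 876 (BT.node 875 (BT.leaf cJ875) (BT.leaf cJ876)) (BT.node 877 (BT.leaf cJ877) (BT.leaf cJ878))) (BT.node 880 (BT.node 879 (BT.leaf cJ879) (BT.leaf cJ880)) (BT.leaf cJ881)))) (BT.node 888 (BT.node 885 (BT.node 883 (BT.node 882 (BT.leaf cJ882) (BT.leaf cJ883)) (BT.node 884 (BT.leaf cJ884) (BT.leaf cJ885))) (BT.node 887 (BT.node 886 (BT.leaf cJ886) (BT.leaf cJ887)) (BT.leaf cJ888))) (BT.node 892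 (BT.node 890 (BT.node 889 (BT.leaf cJ889) (BT.leaf cJ890)) (BT.node 891 (BT.leaf cJ891) (BT.leaf cJ892))) (BT.node 894 (BT.node 893 (BT.leaf cJ893) (BT.leaf cJ894)) (BT.leaf cJ895))))) (BT.node 909 (BT.node 902 (BT.node 899 (BT.node 897 (BT.node 896 (BT.leaf cJ896) (BT.leaf cJ897)) (BT.node 898 (BT.leaf cJ898) (BT.leaf cJ899))) (BT.node 901 (BT.node 900 (BT.leaf cJ900) (BT.leaf cJ901)) (BT.leaf cJ902))) (BT.node 906 (BT.node 904 (BT.node 903 (BT.leaf cJ903) (BT.leaf cJ904)) (BT.node 905 (BT.leaf cJ905) (BT.leaf cJ906))) (BT.node 908 (BT.node 907 (BT.leaf cJ907) (BT.leaf cJ908)) (BT.leaf cJ909)))) (BT.node 916 (BT.node 913 (BT.node 911 (BT.node 910 (BT.leaf cJ910) (BT.leaf cJ911)) (BT.node 912 (BT.leaf cJ912)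 (BT.leaf cJ913))) (BT.node 915 (BT.node 914 (BT.leaf cJ914) (BT.leaf cJ915)) (BT.leaf cJ916))) (BT.node 920 (BT.node 918 (BT.node 917 (BT.leaf cJ917) (BT.leaf cJ918)) (BT.node 919 (BT.leaf cJ919) (BT.leaf cJ920))) (BT.node 922 (BT.node 921 (BT.leaf cJ921) (BT.leaf cJ922)) (BT.leaf cJ923))))))))))
/-- parent chunks -/
def parCT : BT ℕ := (BT.node 65 (BT.node 32 (BT.node 16 (BT.node 8 (BT.node 4 (BT.node 2 (BT.node 1 (BT.node 0 (BT.leaf cP0) (BT.leaf cP1)) (BT.leaf cP2)) (BT.node 3 (BT.leaf cP3) (BT.leaf cP4))) (BT.node 6 (BT.node 5 (BT.leaf cP5) (BT.leaf cP6)) (BT.node 7 (BT.leaf cP7) (BT.leaf cP8)))) (BT.node 12 (BT.node 10 (BT.node 9 (BT.leaf cP9) (BT.leaf cP10)) (BT.node 11 (BT.leaf cP11) (BT.leaf cP12)))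 (BT.node 14 (BT.node 13 (BT.leaf cP13) (BT.leaf cP14)) (BT.node 15 (BT.leaf cP15) (BT.leaf cP16))))) (BT.node 24 (BT.node 20 (BT.node 18 (BT.node 17 (BT.leaf cP17) (BT.leaf cP18)) (BT.node 19 (BT.leaf cP19) (BT.leaf cP20))) (BT.node 22 (BT.node 21 (BT.leaf cP21) (BT.leaf cP22)) (BT.node 23 (BT.leaf cP23) (BT.leaf cP24)))) (BT.node 28 (BT.node 26 (BT.node 25 (BT.leaf cP25) (BT.leaf cP26)) (BT.node 27 (BT.leaf cP27) (BT.leaf cP28))) (BT.node 30 (BT.node 29 (BT.leaf cP29) (BT.leaf cP30)) (BT.node 31 (BT.leaf cP31) (BT.leaf cP32)))))) (BT.node 49 (BT.node 41 (BT.node 37 (BT.node 35 (BT.node 34 (BT.node 33 (BT.leaf cP33) (BT.leaf cP34)) (BT.leaf cP35)) (BT.node 36 (BT.leaf cP36) (BT.leaf cP37))) (BT.node 39 (BT.node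 38 (BT.leaf cP38) (BT.leaf cP39)) (BT.node 40 (BT.leaf cP40) (BT.leaf cP41)))) (BT.node 45 (BT.node 43 (BT.node 42 (BT.leaf cP42) (BT.leaf cP43)) (BT.node 44 (BT.leaf cP44) (BT.leaf cP45))) (BT.node 47 (BT.node 46 (BT.leaf cP46) (BT.leaf cP47)) (BT.node 48 (BT.leaf cP48) (BT.leaf cP49))))) (BT.node 57 (BT.node 53 (BT.node 51 (BT.node 50 (BT.leaf cP50) (BT.leaf cP51)) (BT.node 52 (BT.leaf cP52) (BT.leaf cP53))) (BT.node 55 (BT.node 54 (BT.leaf cP54) (BT.leaf cP55)) (BT.node 56 (BT.leaf cP56) (BT.leaf cP57)))) (BT.node 61 (BT.node 59 (BT.node 58 (BT.leaf cP58) (BT.leaf cP59)) (BT.node 60 (BT.leaf cP60) (BT.leaf cP61))) (BT.node 63 (BT.node 62 (BT.leaf cP62) (BT.leaf cP63)) (BT.node 64 (BT.leaf cP64) (BT.leaf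 cP65))))))) (BT.node 98 (BT.node 82 (BT.node 74 (BT.node 70 (BT.node 68 (BT.node 67 (BT.node 66 (BT.leaf cP66) (BT.leaf cP67)) (BT.leaf cP68)) (BT.node 69 (BT.leaf cP69) (BT.leaf cP70))) (BT.node 72 (BT.node 71 (BT.leaf cP71) (BT.leaf cP72)) (BT.node 73 (BT.leaf cP73) (BT.leaf cP74)))) (BT.node 78 (BT.node 76 (BT.node 75 (BT.leaf cP75) (BT.leaf cP76)) (BT.node 77 (BT.leaf cP77) (BT.leaf cP78))) (BT.node 80 (BT.node 79 (BT.leaf cP79) (BT.leaf cP80)) (BT.node 81 (BT.leaf cP81) (BT.leaf cP82))))) (BT.node 90 (BT.node 86 (BT.node 84 (BT.node 83 (BT.leaf cP83) (BT.leaf cP84)) (BT.node 85 (BT.leaf cP85) (BT.leaf cP86))) (BT.node 88 (BT.node 87 (BT.leaf cP87) (BT.leaf cP88)) (BT.node 89 (BT.leaf cP89) (BT.leaf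 cP90)))) (BT.node 94 (BT.node 92 (BT.node 91 (BT.leaf cP91) (BT.leaf cP92)) (BT.node 93 (BT.leaf cP93) (BT.leaf cP94))) (BT.node 96 (BT.node 95 (BT.leaf cP95) (BT.leaf cP96)) (BT.node 97 (BT.leaf cP97) (BT.leaf cP98)))))) (BT.node 115 (BT.node 107 (BT.node 103 (BT.node 101 (BT.node 100 (BT.node 99 (BT.leaf cP99) (BT.leaf cP100)) (BT.leaf cP101)) (BT.node 102 (BT.leaf cP102) (BT.leaf cP103))) (BT.node 105 (BT.node 104 (BT.leaf cP104) (BT.leaf cP105)) (BT.node 106 (BT.leaf cP106) (BT.leaf cP107)))) (BT.node 111 (BT.node 109 (BT.node 108 (BT.leaf cP108) (BT.leaf cP109)) (BT.node 110 (BT.leaf cP110) (BT.leaf cP111))) (BT.node 113 (BT.node 112 (BT.leaf cP112) (BT.leaf cP113)) (BT.node 114 (BT.leaf cP114) (BT.leaf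 cP115))))) (BT.node 123 (BT.node 119 (BT.node 117 (BT.node 116 (BT.leaf cP116) (BT.leaf cP117)) (BT.node 118 (BT.leaf cP118) (BT.leaf cP119))) (BT.node 121 (BT.node 120 (BT.leaf cP120) (BT.leaf cP121)) (BT.node 122 (BT.leaf cP122) (BT.leaf cP123)))) (BT.node 127 (BT.node 125 (BT.node 124 (BT.leaf cP124) (BT.leaf cP125)) (BT.node 126 (BT.leaf cP126) (BT.leaf cP127))) (BT.node 129 (BT.node 128 (BT.leaf cP128) (BT.leaf cP129)) (BT.node 130 (BT.leaf cP130) (BT.leaf cP131))))))))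
/-- the certificate -/
def data : Data where
  k := 6
  N := 67241
  W := 35
  MW := 34359738368
  B := 131072
  CH := 512
  NCH := 132
  colE := colET
  JW := 64
  MJ := 18446744073709551616
  A := 1048576
  colJ := colJT
  PW := 27
  MP := 134217728
  parC := parCT
  inv := (BT.node 3 (BT.node 1 (BT.node 0 (BT.leaf 1) (BT.leaf 0)) (BT.node 2 (BT.leaf 3) (BT.leaf 2))) (BT.node 5 (BT.node 4 (BT.leaf 5) (BT.leaf 4)) (BT.leaf 6)))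
  rel := relT
  sub := subT
  fuel := 64

end Cfsg.Agent.Lib.Helper16.HSM.EHSData
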