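import Cfsg.Agent.Lib.Helper28.TC2Range
import Cfsg.Agent.Lib.Helper16.HSM.EHSData
set_option autoImplicit false
set_option maxRecDepth 100000
set_option maxHeartbeats 0

namespace Cfsg.Agent.Lib.Helper16.HSM.EHSM0
open Cfsg.Agent.Lib.Helper28.TC2Upper Cfsg.Agent.Lib.Helper28.TC2Lower Cfsg.Agent.Lib.Helper28.TC2Range Cfsg.Agent.Lib.Helper16.HSM.EHSData

theorem hlive0 : data.isLive 0 = true := by decide +kernel
theorem fin0 : Data.finalRange data 0 6000 = true := by decide +kernel
theorem fin1 : Data.finalRange data 6000 6000 = true := by decide +kernel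
theorem fin2 : Data.finalRange data 12000 6000 = true := by decide +kernel
theorem fin3 : Data.finalRange data 18000 6000 = true := by decide +kernel

end Cfsg.Agent.Lib.Helper16.HSM.EHSM0
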