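import Cfsg.Agent.Lib.Helper28.TC2Range
import Cfsg.Agent.Lib.Helper16.HSM.EHSData
set_option autoImplicit false
set_option maxRecDepth 100000
set_option maxHeartbeats 0

namespace Cfsg.Agent.Lib.Helper16.HSM.EHSM1
open Cfsg.Agent.Lib.Helper28.TC2Upper Cfsg.Agent.Lib.Helper28.TC2Lower Cfsg.Agent.Lib.Helper28.TC2Range Cfsg.Agent.Lib.Helper16.HSM.EHSData

theorem fin4 : Data.finalRange data 24000 6000 = true := by decide +kernel
theorem fin5 : Data.finalRange data 30000 6000 = true := by decide +kernel
theorem fin6 : Data.finalRange data 36000 6000 = true := by decide +kernel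
theorem fin7 : Data.finalRange data 42000 6000 = true := by decide +kernel
theorem fin8 : Data.finalRange data 48000 6000 = true := by decide +kernel

end Cfsg.Agent.Lib.Helper16.HSM.EHSM1
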