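import Cfsg.Agent.Lib.Helper16.HSM.EHSData
set_option autoImplicit false
set_option maxRecDepth 100000
set_option maxHeartbeats 0

namespace Cfsg.Agent.Lib.Helper16.HSM.EHSU8
open Cfsg.Agent.Lib.Helper28.TC2Upper Cfsg.Agent.Lib.Helper16.HSM.EHSData

theorem chk40 : data.checkRange 45235 1456 = true := by decide +kernel
theorem chk41 : data.checkRange 46691 1548 = true := by decide +kernel
theorem chk42 : data.checkRange 48239 1544 = true := by decide +kernel
theorem chk43 : data.checkRange 49783 1547 = true := by decide +kernel
theorem chk44 : data.checkRange 51330 1562 = true := by decide +kernel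

end Cfsg.Agent.Lib.Helper16.HSM.EHSU8
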