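import Cfsg.Agent.Lib.Helper16.HSM.EHSData
set_option autoImplicit false
set_option maxRecDepth 100000
set_option maxHeartbeats 0

namespace Cfsg.Agent.Lib.Helper16.HSM.EHSU9
open Cfsg.Agent.Lib.Helper28.TC2Upper Cfsg.Agent.Lib.Helper16.HSM.EHSData

theorem chk45 : data.checkRange 52892 1651 = true := by decide +kernel
theorem chk46 : data.checkRange 54543 1806 = true := by decide +kernel
theorem chk47 : data.checkRange 56349 1559 = true := by decide +kernel
theorem chk48 : data.checkRange 57908 1577 = true := by decide +kernel
theorem chk49 : data.checkRange 59485 1568 = true := by decide +kernel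

end Cfsg.Agent.Lib.Helper16.HSM.EHSU9
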