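import Cfsg.Agent.Lib.Helper28.TC2Glue
import Cfsg.Agent.Lib.Helper28.TC2Range
import Cfsg.Agent.Lib.Helper16.HSM.EHSLink
import Cfsg.Agent.Lib.Helper16.HSM.EHSM0
import Cfsg.Agent.Lib.Helper16.HSM.EHSM1
import Cfsg.Agent.Lib.Helper16.HSM.EHSM2
import Cfsg.Agent.Lib.Helper16.HSM.EHSM3
import Cfsg.Agent.Lib.Helper16.HSM.EHSM4
import Cfsg.Agent.Lib.Helper16.HSM.EHSU0
import Cfsg.Agent.Lib.Helper16.HSM.EHSU1
import Cfsg.Agent.Lib.Helper16.HSM.EHSU2
import Cfsg.Agent.Lib.Helper16.HSM.EHSU3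
import Cfsg.Agent.Lib.Helper16.HSM.EHSU4
import Cfsg.Agent.Lib.Helper16.HSM.EHSU5
import Cfsg.Agent.Lib.Helper16.HSM.EHSU6
import Cfsg.Agent.Lib.Helper16.HSM.EHSU7
import Cfsg.Agent.Lib.Helper16.HSM.EHSU8
import Cfsg.Agent.Lib.Helper16.HSM.EHSU9
import Cfsg.Agent.Lib.Helper16.HSM.EHSU10

set_option autoImplicit false
set_option maxRecDepth 100000
open Cfsg

namespace Cfsg.Agent.Lib.Helper16.HSM.EHSMainU
open Cfsg.Agent.Lib.Helper28.TC2Upper Cfsg.Agent.Lib.Helper28.TC2Lower Cfsg.Agent.Lib.Helper28.TC2Glue Cfsg.Agent.Lib.Helper28.TC2Range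
open Cfsg.Agent.Lib.Helper16.HSM.EHSData Cfsg.Agent.Lib.Helper16.HSM.EHSTable Cfsg.Agent.Lib.Helper16.HSM.EHSLink

theorem hchk : ∀ v, v < data.N → data.checkNode v = true := by
  intro v hv
  have hv' : v < 67241 := hv
  rcases Nat.lt_or_ge v 833 with h0 | h0
  · exact (data.checkRange_iff 0 833).mp Cfsg.Agent.Lib.Helper16.HSM.EHSU0.chk0 v (by omega) (by omega)
  rcases Nat.lt_or_ge v 1665 with h1 | h1
  · exact (data.checkRange_iff 833 832).mp Cfsg.Agent.Lib.Helper16.HSM.EHSU0.chk1 v (by omega) (by omega)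
  rcases Nat.lt_or_ge v 2538 with h2 | h2
  · exact (data.checkRange_iff 1665 873).mp Cfsg.Agent.Lib.Helper16.HSM.EHSU0.chk2 v (by omega) (by omega)
  rcases Nat.lt_or_ge v 3389 with h3 | h3
  · exact (data.checkRange_iff 2538 851).mp Cfsg.Agent.Lib.Helper16.HSM.EHSU0.chk3 v (by omega) (by omega)
  rcases Nat.lt_or_ge v 4292 with h4 | h4
  · exact (data.checkRange_iff 3389 903).mp Cfsg.Agent.Lib.Helper16.HSM.EHSU0.chk4 v (by omega) (by omega)
  rcases Nat.lt_or_ge v 5271 with h5 | h5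
  · exact (data.checkRange_iff 4292 979).mp Cfsg.Agent.Lib.Helper16.HSM.EHSU1.chk5 v (by omega) (by omega)
  rcases Nat.lt_or_ge v 6261 with h6 | h6
  · exact (data.checkRange_iff 5271 990).mp Cfsg.Agent.Lib.Helper16.HSM.EHSU1.chk6 v (by omega) (by omega)
  rcases Nat.lt_or_ge v 7162 with h7 | h7
  · exact (data.checkRange_iff 6261 901).mp Cfsg.Agent.Lib.Helper16.HSM.EHSU1.chk7 v (by omega) (by omega)
  rcases Nat.lt_or_ge v 8120 with h8 | h8
  · exact (data.checkRange_iff 7162 958).mp Cfsg.Agent.Lib.Helper16.HSM.EHSU1.chk8 v (by omega) (by omega)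
  rcases Nat.lt_or_ge v 9034 with h9 | h9
  · exact (data.checkRange_iff 8120 914).mp Cfsg.Agent.Lib.Helper16.HSM.EHSU1.chk9 v (by omega) (by omega)
  rcases Nat.lt_or_ge v 9997 with h10 | h10
  · exact (data.checkRange_iff 9034 963).mp Cfsg.Agent.Lib.Helper16.HSM.EHSU2.chk10 v (by omega) (by omega)
  rcases Nat.lt_or_ge v 11040 with h11 | h11
  · exact (data.checkRange_iff 9997 1043).mp Cfsg.Agent.Lib.Helper16.HSM.EHSU2.chk11 v (by omega) (by omega)
  rcases Nat.lt_or_ge v 12043 with h12 | h12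
  · exact (data.checkRange_iff 11040 1003).mp Cfsg.Agent.Lib.Helper16.HSM.EHSU2.chk12 v (by omega) (by omega)
  rcases Nat.lt_or_ge v 13179 with h13 | h13
  · exact (data.checkRange_iff 12043 1136).mp Cfsg.Agent.Lib.Helper16.HSM.EHSU2.chk13 v (by omega) (by omega)
  rcases Nat.lt_or_ge v 14466 with h14 | h14
  · exact (data.checkRange_iff 13179 1287).mp Cfsg.Agent.Lib.Helper16.HSM.EHSU2.chk14 v (by omega) (by omega)
  rcases Nat.lt_or_ge v 15568 with h15 | h15
  · exact (data.checkRange_iff 14466 1102).mp Cfsg.Agent.Lib.Helper16.HSM.EHSU3.chk15 v (by omega) (by omega)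
  rcases Nat.lt_or_ge v 16572 with h16 | h16
  · exact (data.checkRange_iff 15568 1004).mp Cfsg.Agent.Lib.Helper16.HSM.EHSU3.chk16 v (by omega) (by omega)
  rcases Nat.lt_or_ge v 17561 with h17 | h17
  · exact (data.checkRange_iff 16572 989).mp Cfsg.Agent.Lib.Helper16.HSM.EHSU3.chk17 v (by omega) (by omega)
  rcases Nat.lt_or_ge v 18670 with h18 | h18
  · exact (data.checkRange_iff 17561 1109).mp Cfsg.Agent.Lib.Helper16.HSM.EHSU3.chk18 v (by omega) (by omega)
  rcases Nat.lt_or_ge v 19699 with h19 | h19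
  · exact (data.checkRange_iff 18670 1029).mp Cfsg.Agent.Lib.Helper16.HSM.EHSU3.chk19 v (by omega) (by omega)
  rcases Nat.lt_or_ge v 20775 with h20 | h20
  · exact (data.checkRange_iff 19699 1076).mp Cfsg.Agent.Lib.Helper16.HSM.EHSU4.chk20 v (by omega) (by omega)
  rcases Nat.lt_or_ge v 21894 with h21 | h21
  · exact (data.checkRange_iff 20775 1119).mp Cfsg.Agent.Lib.Helper16.HSM.EHSU4.chk21 v (by omega) (by omega)
  rcases Nat.lt_or_ge v 23019 with h22 | h22
  · exact (data.checkRange_iff 21894 1125).mp Cfsg.Agent.Lib.Helper16.HSM.EHSU4.chk22 v (by omega) (by omega)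
  rcases Nat.lt_or_ge v 24237 with h23 | h23
  · exact (data.checkRange_iff 23019 1218).mp Cfsg.Agent.Lib.Helper16.HSM.EHSU4.chk23 v (by omega) (by omega)
  rcases Nat.lt_or_ge v 25520 with h24 | h24
  · exact (data.checkRange_iff 24237 1283).mp Cfsg.Agent.Lib.Helper16.HSM.EHSU4.chk24 v (by omega) (by omega)
  rcases Nat.lt_or_ge v 26806 with h25 | h25
  · exact (data.checkRange_iff 25520 1286).mp Cfsg.Agent.Lib.Helper16.HSM.EHSU5.chk25 v (by omega) (by omega)
  rcases Nat.lt_or_ge v 28023 with h26 | h26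
  · exact (data.checkRange_iff 26806 1217).mp Cfsg.Agent.Lib.Helper16.HSM.EHSU5.chk26 v (by omega) (by omega)
  rcases Nat.lt_or_ge v 29304 with h27 | h27
  · exact (data.checkRange_iff 28023 1281).mp Cfsg.Agent.Lib.Helper16.HSM.EHSU5.chk27 v (by omega) (by omega)
  rcases Nat.lt_or_ge v 30823 with h28 | h28
  · exact (data.checkRange_iff 29304 1519).mp Cfsg.Agent.Lib.Helper16.HSM.EHSU5.chk28 v (by omega) (by omega)
  rcases Nat.lt_or_ge v 32337 with h29 | h29
  · exact (data.checkRange_iff 30823 1514).mp Cfsg.Agent.Lib.Helper16.HSM.EHSU5.chk29 v (by omega) (by omega)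
  rcases Nat.lt_or_ge v 33647 with h30 | h30
  · exact (data.checkRange_iff 32337 1310).mp Cfsg.Agent.Lib.Helper16.HSM.EHSU6.chk30 v (by omega) (by omega)
  rcases Nat.lt_or_ge v 34900 with h31 | h31
  · exact (data.checkRange_iff 33647 1253).mp Cfsg.Agent.Lib.Helper16.HSM.EHSU6.chk31 v (by omega) (by omega)
  rcases Nat.lt_or_ge v 36113 with h32 | h32
  · exact (data.checkRange_iff 34900 1213).mp Cfsg.Agent.Lib.Helper16.HSM.EHSU6.chk32 v (by omega) (by omega)
  rcases Nat.lt_or_ge v 37326 with h33 | h33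
  · exact (data.checkRange_iff 36113 1213).mp Cfsg.Agent.Lib.Helper16.HSM.EHSU6.chk33 v (by omega) (by omega)
  rcases Nat.lt_or_ge v 38546 with h34 | h34
  · exact (data.checkRange_iff 37326 1220).mp Cfsg.Agent.Lib.Helper16.HSM.EHSU6.chk34 v (by omega) (by omega)
  rcases Nat.lt_or_ge v 39946 with h35 | h35
  · exact (data.checkRange_iff 38546 1400).mp Cfsg.Agent.Lib.Helper16.HSM.EHSU7.chk35 v (by omega) (by omega)
  rcases Nat.lt_or_ge v 41147 with h36 | h36
  · exact (data.checkRange_iff 39946 1201).mp Cfsg.Agent.Lib.Helper16.HSM.EHSU7.chk36 v (by omega) (by omega)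
  rcases Nat.lt_or_ge v 42410 with h37 | h37
  · exact (data.checkRange_iff 41147 1263).mp Cfsg.Agent.Lib.Helper16.HSM.EHSU7.chk37 v (by omega) (by omega)
  rcases Nat.lt_or_ge v 43824 with h38 | h38
  · exact (data.checkRange_iff 42410 1414).mp Cfsg.Agent.Lib.Helper16.HSM.EHSU7.chk38 v (by omega) (by omega)
  rcases Nat.lt_or_ge v 45235 with h39 | h39
  · exact (data.checkRange_iff 43824 1411).mp Cfsg.Agent.Lib.Helper16.HSM.EHSU7.chk39 v (by omega) (by omega)
  rcases Nat.lt_or_ge v 46691 with h40 | h40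
  · exact (data.checkRange_iff 45235 1456).mp Cfsg.Agent.Lib.Helper16.HSM.EHSU8.chk40 v (by omega) (by omega)
  rcases Nat.lt_or_ge v 48239 with h41 | h41
  · exact (data.checkRange_iff 46691 1548).mp Cfsg.Agent.Lib.Helper16.HSM.EHSU8.chk41 v (by omega) (by omega)
  rcases Nat.lt_or_ge v 49783 with h42 | h42
  · exact (data.checkRange_iff 48239 1544).mp Cfsg.Agent.Lib.Helper16.HSM.EHSU8.chk42 v (by omega) (by omega)
  rcases Nat.lt_or_ge v 51330 with h43 | h43
  · exact (data.checkRange_iff 49783 1547).mp Cfsg.Agent.Lib.Helper16.HSM.EHSU8.chk43 v (by omega) (by omega)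
  rcases Nat.lt_or_ge v 52892 with h44 | h44
  · exact (data.checkRange_iff 51330 1562).mp Cfsg.Agent.Lib.Helper16.HSM.EHSU8.chk44 v (by omega) (by omega)
  rcases Nat.lt_or_ge v 54543 with h45 | h45
  · exact (data.checkRange_iff 52892 1651).mp Cfsg.Agent.Lib.Helper16.HSM.EHSU9.chk45 v (by omega) (by omega)
  rcases Nat.lt_or_ge v 56349 with h46 | h46
  · exact (data.checkRange_iff 54543 1806).mp Cfsg.Agent.Lib.Helper16.HSM.EHSU9.chk46 v (by omega) (by omega)
  rcases Nat.lt_or_ge v 57908 with h47 | h47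
  · exact (data.checkRange_iff 56349 1559).mp Cfsg.Agent.Lib.Helper16.HSM.EHSU9.chk47 v (by omega) (by omega)
  rcases Nat.lt_or_ge v 59485 with h48 | h48
  · exact (data.checkRange_iff 57908 1577).mp Cfsg.Agent.Lib.Helper16.HSM.EHSU9.chk48 v (by omega) (by omega)
  rcases Nat.lt_or_ge v 61053 with h49 | h49
  · exact (data.checkRange_iff 59485 1568).mp Cfsg.Agent.Lib.Helper16.HSM.EHSU9.chk49 v (by omega) (by omega)
  rcases Nat.lt_or_ge v 62666 with h50 | h50
  · exact (data.checkRange_iff 61053 1613).mp Cfsg.Agent.Lib.Helper16.HSM.EHSU10.chk50 v (by omega) (by omega)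
  rcases Nat.lt_or_ge v 64360 with h51 | h51
  · exact (data.checkRange_iff 62666 1694).mp Cfsg.Agent.Lib.Helper16.HSM.EHSU10.chk51 v (by omega) (by omega)
  rcases Nat.lt_or_ge v 65912 with h52 | h52
  · exact (data.checkRange_iff 64360 1552).mp Cfsg.Agent.Lib.Helper16.HSM.EHSU10.chk52 v (by omega) (by omega)
  rcases Nat.lt_or_ge v 67237 with h53 | h53
  · exact (data.checkRange_iff 65912 1325).mp Cfsg.Agent.Lib.Helper16.HSM.EHSU10.chk53 v (by omega) (by omega)
  exact (data.checkRange_iff 67237 4).mp Cfsg.Agent.Lib.Helper16.HSM.EHSU10.chk54 v (by omega) (by omega)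

theorem hrows : ∀ v, v < data.N → Data.rowOK data v = true := by
  intro v hv
  have hv' : v < 67241 := hv
  rcases Nat.lt_or_ge v 6000 with h0 | h0
  · exact (Data.finalRange_iff data 0 6000).mp Cfsg.Agent.Lib.Helper16.HSM.EHSM0.fin0 v (by omega) (by omega)
  rcases Nat.lt_or_ge v 12000 with h1 | h1
  · exact (Data.finalRange_iff data 6000 6000).mp Cfsg.Agent.Lib.Helper16.HSM.EHSM0.fin1 v (by omega) (by omega)
  rcases Nat.lt_or_ge v 18000 with h2 | h2
  · exact (Data.finalRange_iff data 12000 6000).mp Cfsg.Agent.Lib.Helper16.HSM.EHSM0.fin2 v (by omega) (by omega)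
  rcases Nat.lt_or_ge v 24000 with h3 | h3
  · exact (Data.finalRange_iff data 18000 6000).mp Cfsg.Agent.Lib.Helper16.HSM.EHSM0.fin3 v (by omega) (by omega)
  rcases Nat.lt_or_ge v 30000 with h4 | h4
  · exact (Data.finalRange_iff data 24000 6000).mp Cfsg.Agent.Lib.Helper16.HSM.EHSM1.fin4 v (by omega) (by omega)
  rcases Nat.lt_or_ge v 36000 with h5 | h5
  · exact (Data.finalRange_iff data 30000 6000).mp Cfsg.Agent.Lib.Helper16.HSM.EHSM1.fin5 v (by omega) (by omega)
  rcases Nat.lt_or_ge v 42000 with h6 | h6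
  · exact (Data.finalRange_iff data 36000 6000).mp Cfsg.Agent.Lib.Helper16.HSM.EHSM1.fin6 v (by omega) (by omega)
  rcases Nat.lt_or_ge v 48000 with h7 | h7
  · exact (Data.finalRange_iff data 42000 6000).mp Cfsg.Agent.Lib.Helper16.HSM.EHSM1.fin7 v (by omega) (by omega)
  rcases Nat.lt_or_ge v 54000 with h8 | h8
  · exact (Data.finalRange_iff data 48000 6000).mp Cfsg.Agent.Lib.Helper16.HSM.EHSM1.fin8 v (by omega) (by omega)
  rcases Nat.lt_or_ge v 60000 with h9 | h9
  · exact (Data.finalRange_iff data 54000 6000).mp Cfsg.Agent.Lib.Helper16.HSM.EHSM2.fin9 v (by omega) (by omega)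
  rcases Nat.lt_or_ge v 66000 with h10 | h10
  · exact (Data.finalRange_iff data 60000 6000).mp Cfsg.Agent.Lib.Helper16.HSM.EHSM2.fin10 v (by omega) (by omega)
  exact (Data.finalRange_iff data 66000 1241).mp Cfsg.Agent.Lib.Helper16.HSM.EHSM2.fin11 v (by omega) (by omega)

theorem hfin : data.finalOK = true := Data.finalOK_of_rows data Cfsg.Agent.Lib.Helper16.HSM.EHSM0.hlive0 (by decide) hrows

theorem pc0 : Data.countFrom data 0 6000 = 1688 := Cfsg.Agent.Lib.Helper16.HSM.EHSM2.cnt0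
theorem pc1 : Data.countFrom data 0 12000 = 3596 := Data.countFrom_step data pc0 Cfsg.Agent.Lib.Helper16.HSM.EHSM2.cnt1 (by norm_num) (by norm_num)
theorem pc2 : Data.countFrom data 0 18000 = 4680 := Data.countFrom_step data pc1 Cfsg.Agent.Lib.Helper16.HSM.EHSM3.cnt2 (by norm_num) (by norm_num)
theorem pc3 : Data.countFrom data 0 24000 = 6220 := Data.countFrom_step data pc2 Cfsg.Agent.Lib.Helper16.HSM.EHSM3.cnt3 (by norm_num) (by norm_num)
theorem pc4 : Data.countFrom data 0 30000 = 7182 := Data.countFrom_step data pc3 Cfsg.Agent.Lib.Helper16.HSM.EHSM3.cnt4 (by norm_num) (by norm_num)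
theorem pc5 : Data.countFrom data 0 36000 = 7769 := Data.countFrom_step data pc4 Cfsg.Agent.Lib.Helper16.HSM.EHSM3.cnt5 (by norm_num) (by norm_num)
theorem pc6 : Data.countFrom data 0 42000 = 8742 := Data.countFrom_step data pc5 Cfsg.Agent.Lib.Helper16.HSM.EHSM3.cnt6 (by norm_num) (by norm_num)
theorem pc7 : Data.countFrom data 0 48000 = 9679 := Data.countFrom_step data pc6 Cfsg.Agent.Lib.Helper16.HSM.EHSM4.cnt7 (by norm_num) (by norm_num)
theorem pc8 : Data.countFrom data 0 54000 = 10213 := Data.countFrom_step data pc7 Cfsg.Agent.Lib.Helper16.HSM.EHSM4.cnt8 (by norm_num) (by norm_num)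
theorem pc9 : Data.countFrom data 0 60000 = 10532 := Data.countFrom_step data pc8 Cfsg.Agent.Lib.Helper16.HSM.EHSM4.cnt9 (by norm_num) (by norm_num)
theorem pc10 : Data.countFrom data 0 66000 = 10844 := Data.countFrom_step data pc9 Cfsg.Agent.Lib.Helper16.HSM.EHSM4.cnt10 (by norm_num) (by norm_num)
theorem pc11 : Data.countFrom data 0 67241 = 11200 := Data.countFrom_step data pc10 Cfsg.Agent.Lib.Helper16.HSM.EHSM4.cnt11 (by norm_num) (by norm_num)

theorem hcount : data.countLive = 11200 := by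
  rw [Data.countLive_eq]
  exact pc11

/-- the number of cosets is at most `11200` -/
theorem mainU : Finite (PresentedGroup rels ⧸ (Subgroup.closure S).map (PresentedGroup.mk rels)) ∧
    Nat.card (PresentedGroup rels ⧸ (Subgroup.closure S).map (PresentedGroup.mk rels)) ≤ 11200 := by
  have h := upper link hchk hfin
  rw [hcount] at h
  exact h

end Cfsg.Agent.Lib.Helper16.HSM.EHSMainU
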