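import Cfsg.Agent.Lib.Helper28.TC2Range
import Cfsg.Agent.Lib.Helper16.HSM.L100Table
set_option autoImplicit false
set_option maxRecDepth 100000
set_option maxHeartbeats 0

namespace Cfsg.Agent.Lib.Helper16.HSM.L100C0
open Cfsg.Agent.Lib.Helper28.TC2Upper Cfsg.Agent.Lib.Helper28.TC2Lower Cfsg.Agent.Lib.Helper28.TC2Range Cfsg.Agent.Lib.Helper16.HSM.L100Table

theorem hinvOK : table.invOK = true := by decide +kernel
theorem prm0 : Table.permRange table 0 100 = true := by decide +kernel
theorem rel0 : table.relOK chkPaths 0 100 = true := by decide +kernel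

end Cfsg.Agent.Lib.Helper16.HSM.L100C0
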