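import Cfsg.Agent.Lib.Helper28.TC2Range
import Cfsg.Agent.Lib.Helper16.HSM.L704Table
import Cfsg.Agent.Lib.Helper16.HSM.L704C0
import Cfsg.Agent.Lib.Helper16.HSM.L704C1
import Cfsg.Agent.Lib.Helper16.HSM.L704C2
import Cfsg.Agent.Lib.Helper16.HSM.L704C3
import Cfsg.Agent.Lib.Helper16.HSM.L704C4
import Cfsg.Agent.Lib.Helper16.HSM.L704C5
import Cfsg.Agent.Lib.Helper16.HSM.L704C6
import Cfsg.Agent.Lib.Helper16.HSM.L704C7

set_option autoImplicit false
set_option maxRecDepth 100000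

namespace Cfsg.Agent.Lib.Helper16.HSM.L704Low
open Cfsg.Agent.Lib.Helper28.TC2Upper Cfsg.Agent.Lib.Helper28.TC2Lower Cfsg.Agent.Lib.Helper28.TC2Range Cfsg.Agent.Lib.Helper16.HSM.L704Table

theorem hpermAll : ∀ p, p < table.n → Table.permRow table p = true := by
  intro p hv
  have hv' : p < 704 := hv
  exact (Table.permRange_iff table 0 704).mp Cfsg.Agent.Lib.Helper16.HSM.L704C0.prm0 p (by omega) (by omega)

theorem hT : table.OK := Table.ok_of_rows table Cfsg.Agent.Lib.Helper16.HSM.L704C0.hinvOK hpermAll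

theorem hchkT : ∀ P ∈ chkPaths, ∀ p, p < table.n → table.walkT P p = p := by
  intro P hm p hv
  have hv' : p < 704 := hv
  rcases Nat.lt_or_ge p 20 with h0 | h0
  · exact (Table.relOK_iff chkPaths 0 20).mp Cfsg.Agent.Lib.Helper16.HSM.L704C0.rel0 p (by omega) (by omega) _ hm
  rcases Nat.lt_or_ge p 40 with h1 | h1
  · exact (Table.relOK_iff chkPaths 20 20).mp Cfsg.Agent.Lib.Helper16.HSM.L704C0.rel1 p (by omega) (by omega) _ hm
  rcases Nat.lt_or_ge p 60 with h2 | h2
  · exact (Table.relOK_iff chkPaths 40 20).mp Cfsg.Agent.Lib.Helper16.HSM.L704C0.rel2 p (by omega) (by omega) _ hm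
  rcases Nat.lt_or_ge p 80 with h3 | h3
  · exact (Table.relOK_iff chkPaths 60 20).mp Cfsg.Agent.Lib.Helper16.HSM.L704C1.rel3 p (by omega) (by omega) _ hm
  rcases Nat.lt_or_ge p 100 with h4 | h4
  · exact (Table.relOK_iff chkPaths 80 20).mp Cfsg.Agent.Lib.Helper16.HSM.L704C1.rel4 p (by omega) (by omega) _ hm
  rcases Nat.lt_or_ge p 120 with h5 | h5
  · exact (Table.relOK_iff chkPaths 100 20).mp Cfsg.Agent.Lib.Helper16.HSM.L704C1.rel5 p (by omega) (by omega) _ hm
  rcases Nat.lt_or_ge p 140 with h6 | h6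
  · exact (Table.relOK_iff chkPaths 120 20).mp Cfsg.Agent.Lib.Helper16.HSM.L704C1.rel6 p (by omega) (by omega) _ hm
  rcases Nat.lt_or_ge p 160 with h7 | h7
  · exact (Table.relOK_iff chkPaths 140 20).mp Cfsg.Agent.Lib.Helper16.HSM.L704C1.rel7 p (by omega) (by omega) _ hm
  rcases Nat.lt_or_ge p 180 with h8 | h8
  · exact (Table.relOK_iff chkPaths 160 20).mp Cfsg.Agent.Lib.Helper16.HSM.L704C2.rel8 p (by omega) (by omega) _ hm
  rcases Nat.lt_or_ge p 200 with h9 | h9
  · exact (Table.relOK_iff chkPaths 180 20).mp Cfsg.Agent.Lib.Helper16.HSM.L704C2.rel9 p (by omega) (by omega) _ hm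
  rcases Nat.lt_or_ge p 220 with h10 | h10
  · exact (Table.relOK_iff chkPaths 200 20).mp Cfsg.Agent.Lib.Helper16.HSM.L704C2.rel10 p (by omega) (by omega) _ hm
  rcases Nat.lt_or_ge p 240 with h11 | h11
  · exact (Table.relOK_iff chkPaths 220 20).mp Cfsg.Agent.Lib.Helper16.HSM.L704C2.rel11 p (by omega) (by omega) _ hm
  rcases Nat.lt_or_ge p 260 with h12 | h12
  · exact (Table.relOK_iff chkPaths 240 20).mp Cfsg.Agent.Lib.Helper16.HSM.L704C2.rel12 p (by omega) (by omega) _ hm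
  rcases Nat.lt_or_ge p 280 with h13 | h13
  · exact (Table.relOK_iff chkPaths 260 20).mp Cfsg.Agent.Lib.Helper16.HSM.L704C3.rel13 p (by omega) (by omega) _ hm
  rcases Nat.lt_or_ge p 300 with h14 | h14
  · exact (Table.relOK_iff chkPaths 280 20).mp Cfsg.Agent.Lib.Helper16.HSM.L704C3.rel14 p (by omega) (by omega) _ hm
  rcases Nat.lt_or_ge p 320 with h15 | h15
  · exact (Table.relOK_iff chkPaths 300 20).mp Cfsg.Agent.Lib.Helper16.HSM.L704C3.rel15 p (by omega) (by omega) _ hm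
  rcases Nat.lt_or_ge p 340 with h16 | h16
  · exact (Table.relOK_iff chkPaths 320 20).mp Cfsg.Agent.Lib.Helper16.HSM.L704C3.rel16 p (by omega) (by omega) _ hm
  rcases Nat.lt_or_ge p 360 with h17 | h17
  · exact (Table.relOK_iff chkPaths 340 20).mp Cfsg.Agent.Lib.Helper16.HSM.L704C3.rel17 p (by omega) (by omega) _ hm
  rcases Nat.lt_or_ge p 380 with h18 | h18
  · exact (Table.relOK_iff chkPaths 360 20).mp Cfsg.Agent.Lib.Helper16.HSM.L704C4.rel18 p (by omega) (by omega) _ hm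
  rcases Nat.lt_or_ge p 400 with h19 | h19
  · exact (Table.relOK_iff chkPaths 380 20).mp Cfsg.Agent.Lib.Helper16.HSM.L704C4.rel19 p (by omega) (by omega) _ hm
  rcases Nat.lt_or_ge p 420 with h20 | h20
  · exact (Table.relOK_iff chkPaths 400 20).mp Cfsg.Agent.Lib.Helper16.HSM.L704C4.rel20 p (by omega) (by omega) _ hm
  rcases Nat.lt_or_ge p 440 with h21 | h21
  · exact (Table.relOK_iff chkPaths 420 20).mp Cfsg.Agent.Lib.Helper16.HSM.L704C4.rel21 p (by omega) (by omega) _ hm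
  rcases Nat.lt_or_ge p 460 with h22 | h22
  · exact (Table.relOK_iff chkPaths 440 20).mp Cfsg.Agent.Lib.Helper16.HSM.L704C4.rel22 p (by omega) (by omega) _ hm
  rcases Nat.lt_or_ge p 480 with h23 | h23
  · exact (Table.relOK_iff chkPaths 460 20).mp Cfsg.Agent.Lib.Helper16.HSM.L704C5.rel23 p (by omega) (by omega) _ hm
  rcases Nat.lt_or_ge p 500 with h24 | h24
  · exact (Table.relOK_iff chkPaths 480 20).mp Cfsg.Agent.Lib.Helper16.HSM.L704C5.rel24 p (by omega) (by omega) _ hm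
  rcases Nat.lt_or_ge p 520 with h25 | h25
  · exact (Table.relOK_iff chkPaths 500 20).mp Cfsg.Agent.Lib.Helper16.HSM.L704C5.rel25 p (by omega) (by omega) _ hm
  rcases Nat.lt_or_ge p 540 with h26 | h26
  · exact (Table.relOK_iff chkPaths 520 20).mp Cfsg.Agent.Lib.Helper16.HSM.L704C5.rel26 p (by omega) (by omega) _ hm
  rcases Nat.lt_or_ge p 560 with h27 | h27
  · exact (Table.relOK_iff chkPaths 540 20).mp Cfsg.Agent.Lib.Helper16.HSM.L704C5.rel27 p (by omega) (by omega) _ hm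
  rcases Nat.lt_or_ge p 580 with h28 | h28
  · exact (Table.relOK_iff chkPaths 560 20).mp Cfsg.Agent.Lib.Helper16.HSM.L704C6.rel28 p (by omega) (by omega) _ hm
  rcases Nat.lt_or_ge p 600 with h29 | h29
  · exact (Table.relOK_iff chkPaths 580 20).mp Cfsg.Agent.Lib.Helper16.HSM.L704C6.rel29 p (by omega) (by omega) _ hm
  rcases Nat.lt_or_ge p 620 with h30 | h30
  · exact (Table.relOK_iff chkPaths 600 20).mp Cfsg.Agent.Lib.Helper16.HSM.L704C6.rel30 p (by omega) (by omega) _ hm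
  rcases Nat.lt_or_ge p 640 with h31 | h31
  · exact (Table.relOK_iff chkPaths 620 20).mp Cfsg.Agent.Lib.Helper16.HSM.L704C6.rel31 p (by omega) (by omega) _ hm
  rcases Nat.lt_or_ge p 660 with h32 | h32
  · exact (Table.relOK_iff chkPaths 640 20).mp Cfsg.Agent.Lib.Helper16.HSM.L704C6.rel32 p (by omega) (by omega) _ hm
  rcases Nat.lt_or_ge p 680 with h33 | h33
  · exact (Table.relOK_iff chkPaths 660 20).mp Cfsg.Agent.Lib.Helper16.HSM.L704C7.rel33 p (by omega) (by omega) _ hm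
  rcases Nat.lt_or_ge p 700 with h34 | h34
  · exact (Table.relOK_iff chkPaths 680 20).mp Cfsg.Agent.Lib.Helper16.HSM.L704C7.rel34 p (by omega) (by omega) _ hm
  exact (Table.relOK_iff chkPaths 700 4).mp Cfsg.Agent.Lib.Helper16.HSM.L704C7.rel35 p (by omega) (by omega) _ hm

end Cfsg.Agent.Lib.Helper16.HSM.L704Low
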