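import Cfsg.Agent.Lib.Helper28.TC2Upper
import Cfsg.Agent.Lib.Helper16.HSM.PHSDataC0
set_option autoImplicit false
set_option maxRecDepth 100000

namespace Cfsg.Agent.Lib.Helper16.HSM.PHSData
open Cfsg.Agent.Lib.Helper28.TC2Upper

/-- relators -/
def relT : BT (ℕ × List ℕ × List ℕ) := (BT.node 42 (BT.node 21 (BT.node 10 (BT.node 5 (BT.node 2 (BT.node 1 (BT.node 0 (BT.leaf (2, [0, 0], [1, 1])) (BT.leaf (4, [2, 2, 2, 2], [3, 3, 3, 3]))) (BT.leaf (22, [2, 0, 2, 0, 2, 0, 2, 0, 2, 0, 2, 0, 2, 0, 2, 0, 2, 0, 2, 0, 2, 0], [1, 3, 1, 3, 1, 3, 1, 3, 1, 3, 1, 3, 1, 3, 1, 3, 1, 3, 1, 3, 1, 3]))) (BT.node 4 (BT.node 3 (BT.leaf (18, [2, 2, 0, 2, 2, 0, 2, 2, 0, 2, 2, 0, 2, 2, 0, 2, 2, 0], [1, 3, 3, 1, 3,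 3, 1, 3, 3, 1, 3, 3, 1, 3, 3, 1, 3, 3])) (BT.leaf (19, [3, 0, 3, 0, 2, 0, 3, 0, 2, 2, 0, 2, 0, 3, 0, 2, 0, 2, 0], [1, 3, 1, 3, 1, 2, 1, 3, 1, 3, 3, 1, 2, 1, 3, 1, 2, 1, 2]))) (BT.leaf (2, [4, 4], [5, 5])))) (BT.node 8 (BT.node 7 (BT.node 6 (BT.leaf (8, [0, 4, 0, 2, 0, 4, 0, 3], [2, 1, 5, 1, 3, 1, 5, 1])) (BT.leaf (10, [4, 0, 3, 3, 0, 4, 0, 2, 2, 0], [1, 3, 3, 1, 5, 1, 2, 2, 1, 5]))) (BT.leaf (14, [0, 4, 0, 2, 4, 0, 2, 0, 4, 0, 3, 4, 0, 3], [2, 1, 5, 2, 1, 5, 1, 3, 1, 5, 3, 1, 5, 1]))) (BT.node 9 (BT.leaf (14, [0, 4, 0, 2, 4, 0, 3, 0, 4, 0, 2, 4, 0, 3], [2, 1, 5, 3, 1, 5, 1, 2, 1, 5, 3, 1, 5, 1])) (BT.leaf (14, [4, 0, 3, 4, 0, 2, 0, 4, 0, 3, 4, 0, 2, 0], [1, 3, 1, 5, 2, 1, 5, 1, 3, 1, 5,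 2, 1, 5]))))) (BT.node 16 (BT.node 13 (BT.node 12 (BT.node 11 (BT.leaf (16, [0, 4, 0, 2, 4, 0, 3, 3, 0, 4, 0, 2, 2, 4, 0, 3], [2, 1, 5, 3, 3, 1, 5, 1, 2, 2, 1, 5, 3, 1, 5, 1])) (BT.leaf (16, [4, 0, 3, 4, 0, 3, 3, 0, 4, 0, 2, 2, 4, 0, 2, 0], [1, 3, 1, 5, 3, 3, 1, 5, 1, 2, 2, 1, 5, 2, 1, 5]))) (BT.leaf (16, [4, 0, 3, 3, 4, 0, 2, 0, 4, 0, 3, 4, 0, 2, 2, 0], [1, 3, 3, 1, 5, 2, 1, 5, 1, 3, 1, 5, 2, 2, 1, 5]))) (BT.node 15 (BT.node 14 (BT.leaf (16, [3, 3, 0, 4, 3, 0, 4, 0, 2, 0, 4, 2, 2, 0, 4, 0], [1, 5, 1, 3, 3, 5, 1, 3, 1, 5, 1, 2, 5, 1, 2, 2])) (BT.leaf (16, [3, 0, 2, 0, 3, 0, 2, 4, 3, 0, 2, 0, 3, 0, 2, 4], [5, 3, 1, 2, 1, 3, 1, 2, 5, 3, 1, 2, 1, 3, 1, 2]))) (BT.leaf (18, [0, 4, 2, 4, 3, 0,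 2, 0, 3, 0, 2, 4, 3, 0, 2, 4, 0, 3], [2, 1, 5, 3, 1, 2, 5, 3, 1, 2, 1, 3, 1, 2, 5, 3, 5, 1])))) (BT.node 19 (BT.node 18 (BT.node 17 (BT.leaf (18, [3, 3, 0, 4, 3, 3, 0, 4, 0, 2, 2, 0, 4, 2, 2, 0, 4, 0], [1, 5, 1, 3, 3, 5, 1, 3, 3, 1, 5, 1, 2, 2, 5, 1, 2, 2])) (BT.leaf (20, [0, 4, 0, 2, 4, 0, 3, 4, 0, 3, 0, 4, 0, 2, 4, 0, 2, 4, 0, 3], [2, 1, 5, 3, 1, 5, 3, 1, 5, 1, 2, 1, 5, 2, 1, 5, 3, 1, 5, 1]))) (BT.leaf (20, [3, 0, 4, 3, 3, 0, 3, 3, 0, 3, 3, 0, 2, 2, 0, 2, 2, 4, 0, 3], [2, 1, 5, 3, 3, 1, 3, 3, 1, 2, 2, 1, 2, 2, 1, 2, 2, 5, 1, 2]))) (BT.node 20 (BT.leaf (20, [3, 0, 4, 3, 3, 0, 3, 3, 0, 2, 2, 0, 2, 2, 0, 2, 2, 4, 0, 3], [2, 1, 5, 3, 3, 1, 3, 3, 1, 3, 3, 1, 2, 2, 1, 2, 2, 5, 1, 2])) (BT.leaf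 (20, [3, 0, 4, 2, 0, 4, 2, 0, 4, 0, 3, 0, 4, 3, 0, 4, 2, 0, 4, 0], [1, 5, 1, 3, 5, 1, 2, 5, 1, 2, 1, 5, 1, 3, 5, 1, 3, 5, 1, 2])))))) (BT.node 32 (BT.node 27 (BT.node 24 (BT.node 23 (BT.node 22 (BT.leaf (20, [2, 0, 2, 0, 3, 0, 2, 0, 2, 4, 3, 0, 3, 0, 2, 0, 3, 0, 3, 4], [5, 2, 1, 2, 1, 3, 1, 2, 1, 2, 5, 3, 1, 3, 1, 2, 1, 3, 1, 3])) (BT.leaf (20, [2, 4, 3, 4, 0, 3, 4, 3, 4, 2, 4, 3, 4, 3, 4, 0, 3, 0, 3, 4], [5, 2, 1, 2, 1, 5, 2, 5, 2, 5, 3, 5, 2, 5, 2, 1, 5, 2, 5, 3]))) (BT.leaf (20, [0, 2, 0, 4, 0, 4, 3, 0, 2, 0, 3, 0, 2, 4, 3, 0, 2, 0, 3, 4], [5, 2, 1, 3, 1, 2, 5, 3, 1, 2, 1, 3, 1, 2, 5, 1, 5, 1, 3, 1]))) (BT.node 26 (BT.node 25 (BT.leaf (20, [3, 4, 0, 4, 2, 4, 2, 0, 4, 2, 4, 2, 0, 3, 4,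 3, 4, 0, 3, 4], [5, 2, 1, 5, 2, 5, 2, 1, 3, 5, 3, 5, 1, 3, 5, 3, 5, 1, 5, 2])) (BT.leaf (20, [2, 4, 3, 4, 3, 0, 3, 0, 4, 3, 4, 2, 4, 3, 4, 0, 3, 4, 3, 4], [5, 2, 5, 2, 1, 5, 2, 5, 3, 5, 2, 5, 1, 2, 1, 2, 5, 2, 5, 3]))) (BT.leaf (20, [3, 4, 3, 4, 3, 4, 3, 4, 3, 4, 3, 4, 3, 4, 3, 4, 3, 4, 3, 4], [5, 2, 5, 2, 5, 2, 5, 2, 5, 2, 5, 2, 5, 2, 5, 2, 5, 2, 5, 2])))) (BT.node 30 (BT.node 29 (BT.node 28 (BT.leaf (21, [0, 4, 2, 0, 3, 0, 3, 3, 0, 2, 0, 3, 0, 2, 0, 2, 0, 3, 4, 0, 3], [2, 1, 5, 2, 1, 3, 1, 3, 1, 2, 1, 3, 1, 2, 2, 1, 2, 1, 3, 5, 1])) (BT.leaf (22, [3, 0, 4, 2, 0, 2, 4, 3, 0, 3, 0, 2, 0, 3, 0, 3, 4, 2, 0, 2, 4, 0], [1, 5, 3, 1, 3, 5, 2, 1, 2, 1, 3, 1, 2, 1, 2, 5, 3, 1, 3, 5, 1, 2]))) (BT.leaf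 (22, [2, 0, 2, 0, 3, 0, 2, 0, 2, 4, 3, 0, 3, 0, 3, 3, 3, 0, 3, 0, 3, 4], [5, 2, 1, 2, 1, 2, 2, 2, 1, 2, 1, 2, 5, 3, 1, 3, 1, 2, 1, 3, 1, 3]))) (BT.node 31 (BT.leaf (22, [2, 4, 3, 4, 0, 3, 3, 4, 2, 4, 3, 4, 2, 4, 2, 2, 4, 0, 3, 0, 3, 4], [5, 2, 1, 2, 1, 5, 3, 3, 5, 3, 5, 2, 5, 3, 5, 2, 2, 1, 5, 2, 5, 3])) (BT.leaf (22, [3, 0, 3, 0, 4, 0, 4, 3, 4, 0, 4, 2, 4, 2, 0, 4, 2, 4, 2, 0, 3, 4], [5, 2, 1, 3, 5, 3, 5, 1, 3, 5, 3, 5, 1, 5, 2, 5, 1, 5, 1, 2, 1, 2]))))) (BT.node 37 (BT.node 35 (BT.node 34 (BT.node 33 (BT.leaf (22, [2, 4, 3, 4, 3, 0, 3, 0, 3, 4, 2, 4, 3, 4, 2, 4, 3, 0, 3, 4, 3, 4], [5, 2, 5, 2, 1, 2, 5, 3, 5, 2, 5, 3, 5, 2, 1, 2, 1, 2, 5, 2, 5, 3])) (BT.leaf (22, [3, 4, 3, 4, 3, 4, 3, 4,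 3, 4, 2, 2, 2, 4, 3, 4, 3, 4, 3, 4, 3, 4], [5, 2, 5, 2, 5, 2, 5, 2, 5, 3, 3, 3, 5, 2, 5, 2, 5, 2, 5, 2, 5, 2]))) (BT.leaf (23, [0, 2, 0, 4, 3, 0, 2, 4, 2, 0, 2, 0, 3, 0, 2, 0, 2, 4, 0, 3, 0, 3, 4], [5, 2, 1, 2, 1, 5, 3, 1, 3, 1, 2, 1, 3, 1, 3, 5, 3, 1, 2, 5, 1, 3, 1]))) (BT.node 36 (BT.leaf (23, [0, 3, 0, 3, 0, 4, 0, 4, 0, 3, 4, 0, 3, 4, 0, 3, 4, 0, 3, 4, 0, 3, 4], [5, 2, 1, 5, 2, 1, 5, 2, 1, 5, 2, 1, 5, 2, 1, 5, 1, 5, 1, 2, 1, 2, 1])) (BT.leaf (23, [0, 3, 0, 3, 0, 4, 3, 0, 4, 3, 0, 4, 3, 0, 4, 3, 0, 4, 3, 0, 4, 0, 4], [5, 1, 5, 1, 2, 5, 1, 2, 5, 1, 2, 5, 1, 2, 5, 1, 2, 5, 1, 2, 1, 2, 1])))) (BT.node 40 (BT.node 39 (BT.node 38 (BT.leaf (23, [0, 2, 0, 3, 0, 2, 0, 3, 0, 2, 0, 3, 4, 0, 4, 0,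 4, 0, 4, 0, 4, 0, 4], [5, 1, 5, 1, 5, 1, 5, 1, 5, 1, 5, 2, 1, 3, 1, 2, 1, 3, 1, 2, 1, 3, 1])) (BT.leaf (23, [3, 3, 4, 3, 3, 4, 3, 4, 3, 4, 0, 2, 4, 0, 3, 0, 2, 4, 2, 4, 2, 2, 4], [5, 3, 3, 5, 3, 5, 3, 1, 2, 1, 5, 3, 1, 5, 2, 5, 2, 5, 2, 2, 5, 2, 2]))) (BT.leaf (23, [3, 3, 4, 3, 3, 4, 3, 4, 3, 4, 0, 2, 0, 3, 0, 4, 2, 4, 2, 4, 2, 2, 4], [5, 3, 3, 5, 3, 5, 3, 5, 1, 2, 1, 3, 1, 5, 2, 5, 2, 5, 2, 2, 5, 2, 2]))) (BT.node 41 (BT.leaf (23, [3, 3, 4, 3, 3, 4, 3, 4, 3, 0, 2, 0, 4, 3, 0, 4, 2, 4, 2, 4, 2, 2, 4], [5, 3, 3, 5, 3, 5, 3, 5, 1, 2, 5, 1, 3, 1, 2, 5, 2, 5, 2, 2, 5, 2, 2])) (BT.leaf (24, [2, 0, 3, 4, 3, 3, 0, 3, 3, 4, 0, 4, 3, 3, 4, 3, 0, 2, 2, 4, 3, 0, 3, 4], [5, 2, 1, 2, 5, 3, 3, 1, 2, 5,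 2, 2, 5, 1, 5, 2, 2, 1, 2, 2, 5, 2, 1, 3]))))))) (BT.node 63 (BT.node 53 (BT.node 48 (BT.node 45 (BT.node 44 (BT.node 43 (BT.leaf (24, [2, 0, 3, 4, 3, 3, 0, 3, 3, 4, 0, 4, 2, 2, 4, 3, 0, 2, 2, 4, 3, 0, 3, 4], [5, 2, 1, 2, 5, 3, 3, 1, 2, 5, 3, 3, 5, 1, 5, 2, 2, 1, 2, 2, 5, 2, 1, 3])) (BT.leaf (24, [2, 0, 3, 0, 2, 0, 3, 0, 2, 0, 3, 4, 2, 0, 3, 0, 2, 0, 3, 0, 2, 0, 3, 4], [5, 2, 1, 3, 1, 2, 1, 3, 1, 2, 1, 3, 5, 2, 1, 3, 1, 2, 1, 3, 1, 2, 1, 3]))) (BT.leaf (24, [0, 3, 0, 2, 4, 3, 4, 3, 4, 3, 4, 0, 4, 2, 4, 2, 2, 4, 0, 2, 2, 0, 3, 4], [5, 2, 1, 3, 3, 1, 5, 3, 3, 5, 3, 5, 1, 5, 2, 5, 2, 5, 2, 5, 3, 1, 2, 1]))) (BT.node 47 (BT.node 46 (BT.leaf (24, [3, 3, 0, 3, 3, 4, 0, 4, 3, 3, 4, 3, 0, 3, 3,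 4, 3, 0, 3, 4, 2, 0, 3, 4], [5, 2, 1, 3, 5, 2, 1, 2, 5, 2, 2, 1, 2, 5, 2, 2, 5, 1, 5, 2, 2, 1, 2, 2])) (BT.leaf (24, [3, 0, 3, 0, 4, 0, 4, 3, 4, 0, 4, 2, 4, 3, 3, 3, 0, 4, 2, 4, 2, 0, 3, 4], [5, 2, 1, 3, 5, 3, 5, 1, 2, 2, 2, 5, 3, 5, 1, 5, 2, 5, 1, 5, 1, 2, 1, 2]))) (BT.leaf (24, [0, 3, 0, 4, 0, 4, 2, 4, 3, 4, 0, 3, 4, 3, 4, 2, 4, 3, 4, 3, 4, 0, 3, 4], [5, 2, 1, 5, 2, 5, 2, 5, 3, 5, 2, 5, 2, 1, 5, 2, 5, 3, 5, 1, 5, 1, 2, 1])))) (BT.node 51 (BT.node 50 (BT.node 49 (BT.leaf (24, [2, 0, 2, 0, 2, 0, 3, 3, 4, 0, 4, 3, 3, 0, 4, 3, 0, 3, 4, 0, 3, 4, 0, 4], [5, 1, 5, 2, 1, 5, 2, 1, 2, 5, 1, 2, 2, 5, 1, 5, 2, 2, 1, 3, 1, 3, 1, 3])) (BT.leaf (24, [3, 3, 0, 3, 0, 3, 0, 3, 4, 0, 4, 2, 0, 4, 2, 0, 2,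 4, 0, 2, 2, 4, 0, 4], [5, 1, 5, 3, 3, 1, 5, 3, 1, 3, 5, 1, 3, 5, 1, 5, 2, 1, 2, 1, 2, 1, 2, 2]))) (BT.leaf (24, [3, 3, 0, 3, 3, 4, 2, 0, 3, 4, 2, 0, 2, 4, 3, 3, 0, 2, 4, 2, 2, 4, 0, 4], [5, 1, 5, 3, 3, 5, 3, 1, 2, 2, 5, 3, 1, 3, 5, 2, 1, 3, 5, 2, 2, 1, 2, 2]))) (BT.node 52 (BT.leaf (24, [3, 3, 0, 3, 3, 4, 2, 0, 3, 4, 2, 0, 2, 4, 2, 2, 0, 2, 4, 2, 2, 4, 0, 4], [5, 1, 5, 3, 3, 5, 3, 1, 3, 3, 5, 3, 1, 3, 5, 2, 1, 3, 5, 2, 2, 1, 2, 2])) (BT.leaf (24, [3, 0, 2, 0, 3, 0, 2, 4, 3, 4, 0, 2, 4, 0, 2, 0, 4, 0, 3, 4, 3, 0, 2, 4], [5, 3, 1, 2, 5, 2, 1, 5, 1, 3, 1, 5, 3, 1, 5, 2, 5, 3, 1, 2, 1, 3, 1, 2]))))) (BT.node 58 (BT.node 56 (BT.node 55 (BT.node 54 (BT.leaf (24, [3, 0, 3, 0, 3, 0, 2, 0, 2, 0,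 2, 4, 3, 0, 3, 0, 3, 0, 2, 0, 2, 0, 2, 4], [5, 3, 1, 3, 1, 3, 1, 2, 1, 2, 1, 2, 5, 3, 1, 3, 1, 3, 1, 2, 1, 2, 1, 2])) (BT.leaf (24, [0, 3, 3, 0, 3, 3, 4, 3, 4, 0, 4, 2, 4, 2, 4, 2, 4, 3, 4, 0, 2, 0, 2, 4], [5, 3, 1, 3, 1, 5, 2, 5, 3, 5, 3, 5, 3, 5, 1, 5, 2, 5, 2, 2, 1, 2, 2, 1]))) (BT.leaf (24, [3, 0, 3, 0, 2, 0, 3, 0, 3, 4, 3, 3, 4, 3, 0, 2, 0, 3, 0, 2, 4, 0, 2, 4], [5, 3, 1, 5, 3, 1, 2, 1, 3, 1, 2, 5, 2, 2, 5, 2, 1, 2, 1, 3, 1, 2, 1, 2]))) (BT.node 57 (BT.leaf (24, [2, 0, 3, 4, 3, 4, 0, 3, 4, 3, 4, 2, 0, 4, 0, 3, 0, 2, 4, 2, 0, 4, 2, 4], [5, 3, 5, 1, 3, 5, 3, 1, 2, 1, 5, 1, 3, 5, 2, 5, 2, 1, 5, 2, 5, 2, 1, 3])) (BT.leaf (24, [3, 3, 0, 3, 3, 0, 4, 3, 0, 3, 0, 4, 2, 4, 3, 4, 3, 4, 3, 4,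 0, 4, 2, 4], [5, 3, 5, 1, 5, 2, 5, 2, 5, 2, 5, 3, 5, 1, 2, 1, 2, 5, 1, 2, 2, 1, 2, 2])))) (BT.node 61 (BT.node 60 (BT.node 59 (BT.leaf (25, [0, 2, 0, 4, 3, 0, 2, 4, 2, 0, 2, 4, 0, 3, 0, 4, 2, 0, 2, 4, 0, 3, 0, 3, 4], [5, 2, 1, 2, 1, 5, 3, 1, 3, 5, 1, 2, 1, 5, 3, 1, 3, 5, 3, 1, 2, 5, 1, 3, 1])) (BT.leaf (25, [2, 0, 2, 0, 4, 3, 0, 4, 2, 0, 2, 0, 3, 3, 4, 0, 4, 2, 2, 4, 0, 3, 0, 3, 4], [5, 2, 1, 2, 1, 5, 3, 3, 5, 1, 5, 2, 2, 1, 3, 1, 3, 5, 1, 2, 5, 1, 3, 1, 3]))) (BT.leaf (25, [0, 2, 0, 3, 0, 3, 0, 3, 0, 3, 0, 4, 0, 4, 2, 4, 3, 4, 3, 0, 4, 3, 0, 3, 4], [5, 2, 1, 2, 5, 1, 2, 5, 2, 5, 3, 5, 1, 5, 1, 2, 1, 2, 1, 2, 1, 2, 1, 3, 1]))) (BT.node 62 (BT.leaf (25, [3, 0, 3, 0, 4, 2, 0, 3, 4, 2, 0, 4,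 3, 0, 3, 4, 0, 4, 0, 4, 2, 2, 0, 3, 4], [5, 2, 1, 3, 3, 5, 1, 5, 1, 5, 2, 1, 2, 5, 1, 3, 5, 2, 1, 3, 5, 1, 2, 1, 2])) (BT.leaf (25, [0, 3, 0, 3, 0, 4, 3, 0, 4, 3, 0, 4, 2, 0, 4, 0, 2, 2, 4, 0, 3, 4, 0, 3, 4], [5, 2, 1, 5, 2, 1, 5, 3, 3, 1, 5, 1, 3, 5, 1, 2, 5, 1, 2, 5, 1, 2, 1, 2, 1])))))) (BT.node 74 (BT.node 69 (BT.node 66 (BT.node 65 (BT.node 64 (BT.leaf (25, [2, 0, 3, 0, 2, 0, 4, 2, 4, 2, 0, 3, 3, 4, 0, 4, 0, 4, 2, 0, 2, 4, 0, 3, 4], [5, 2, 1, 5, 3, 1, 3, 5, 1, 5, 1, 5, 2, 2, 1, 3, 5, 3, 5, 1, 3, 1, 2, 1, 3])) (BT.leaf (25, [2, 0, 3, 0, 3, 0, 3, 0, 3, 0, 2, 0, 2, 0, 2, 0, 2, 0, 4, 3, 4, 2, 4, 3, 4], [5, 2, 5, 3, 5, 2, 5, 1, 3, 1, 3, 1, 3, 1, 3, 1, 2, 1, 2, 1, 2, 1, 2, 1, 3]))) (BT.leaf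 (25, [3, 3, 0, 3, 0, 3, 4, 3, 3, 4, 3, 0, 2, 4, 3, 0, 2, 4, 2, 2, 0, 3, 4, 0, 4], [5, 1, 5, 2, 1, 3, 3, 5, 3, 1, 2, 5, 3, 1, 2, 5, 2, 2, 5, 2, 1, 2, 1, 2, 2]))) (BT.node 68 (BT.node 67 (BT.leaf (25, [0, 2, 0, 3, 0, 2, 0, 3, 0, 2, 0, 3, 4, 0, 4, 0, 4, 2, 0, 4, 0, 3, 4, 0, 4], [5, 1, 5, 2, 1, 5, 1, 3, 5, 1, 5, 1, 5, 2, 1, 3, 1, 2, 1, 3, 1, 2, 1, 3, 1])) (BT.leaf (25, [0, 2, 0, 3, 0, 2, 0, 3, 0, 2, 0, 3, 4, 0, 4, 2, 0, 4, 0, 3, 4, 0, 4, 0, 4], [5, 1, 5, 1, 5, 2, 1, 5, 1, 3, 5, 1, 5, 2, 1, 3, 1, 2, 1, 3, 1, 2, 1, 3, 1]))) (BT.leaf (25, [0, 2, 0, 3, 0, 2, 0, 3, 0, 2, 0, 3, 4, 0, 4, 3, 0, 4, 0, 2, 4, 0, 4, 0, 4], [5, 1, 5, 1, 5, 3, 1, 5, 1, 2, 5, 1, 5, 2, 1, 3, 1, 2, 1, 3, 1, 2, 1, 3, 1])))) (BT.node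 72 (BT.node 71 (BT.node 70 (BT.leaf (25, [3, 0, 3, 0, 2, 0, 3, 0, 3, 4, 3, 3, 4, 2, 0, 2, 0, 3, 0, 2, 0, 2, 4, 0, 4], [5, 1, 5, 3, 1, 3, 1, 2, 1, 3, 1, 3, 5, 2, 2, 5, 2, 1, 2, 1, 3, 1, 2, 1, 2])) (BT.leaf (25, [0, 2, 0, 3, 0, 2, 0, 3, 0, 2, 0, 3, 4, 0, 4, 0, 4, 3, 0, 4, 0, 2, 4, 0, 4], [5, 1, 5, 3, 1, 5, 1, 2, 5, 1, 5, 1, 5, 2, 1, 3, 1, 2, 1, 3, 1, 2, 1, 3, 1]))) (BT.leaf (25, [3, 0, 2, 0, 2, 4, 3, 3, 4, 2, 0, 3, 4, 2, 0, 3, 4, 2, 2, 4, 2, 2, 0, 2, 4], [5, 3, 1, 3, 3, 5, 3, 3, 5, 2, 1, 3, 5, 2, 1, 3, 5, 2, 2, 5, 3, 1, 3, 1, 2]))) (BT.node 73 (BT.leaf (25, [3, 0, 3, 4, 3, 4, 0, 4, 3, 3, 0, 4, 2, 0, 4, 2, 2, 0, 2, 4, 2, 4, 0, 2, 4], [5, 3, 1, 5, 3, 5, 3, 1, 3, 3, 5, 1, 3, 5, 1, 2, 2, 5, 1,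 5, 2, 5, 2, 1, 2])) (BT.leaf (25, [2, 0, 2, 0, 3, 3, 4, 0, 4, 2, 0, 3, 3, 4, 3, 0, 2, 4, 3, 0, 2, 4, 2, 2, 4], [5, 3, 3, 5, 3, 1, 2, 5, 3, 1, 2, 5, 2, 2, 1, 3, 5, 1, 5, 2, 2, 1, 3, 1, 3]))))) (BT.node 79 (BT.node 77 (BT.node 76 (BT.node 75 (BT.leaf (26, [2, 0, 2, 0, 3, 3, 4, 2, 0, 3, 4, 2, 4, 3, 3, 4, 2, 4, 3, 0, 3, 0, 3, 0, 3, 4], [5, 2, 1, 2, 1, 2, 1, 2, 5, 3, 5, 2, 2, 5, 3, 5, 2, 1, 3, 5, 2, 2, 1, 3, 1, 3])) (BT.leaf (26, [2, 0, 3, 0, 2, 0, 3, 0, 2, 0, 3, 4, 2, 0, 3, 4, 0, 2, 0, 4, 3, 0, 2, 0, 3, 4], [5, 2, 1, 3, 1, 2, 5, 1, 3, 1, 5, 2, 1, 3, 5, 2, 1, 3, 1, 2, 1, 3, 1, 2, 1, 3]))) (BT.leaf (26, [3, 3, 0, 3, 0, 3, 4, 2, 0, 2, 0, 2, 0, 2, 4, 3, 4, 2, 2, 4, 3, 4, 2, 0, 3, 4], [5, 2, 1, 3,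 5, 2, 5, 3, 3, 5, 2, 5, 3, 1, 3, 1, 3, 1, 3, 5, 2, 1, 2, 1, 2, 2]))) (BT.node 78 (BT.leaf (26, [3, 3, 0, 4, 2, 4, 2, 4, 2, 4, 0, 4, 3, 4, 3, 4, 3, 4, 0, 2, 2, 4, 2, 0, 3, 4], [5, 2, 1, 3, 5, 3, 3, 1, 5, 2, 5, 2, 5, 2, 5, 1, 5, 3, 5, 3, 5, 3, 5, 1, 2, 2])) (BT.leaf (26, [2, 0, 3, 0, 2, 0, 3, 0, 2, 0, 3, 4, 2, 0, 4, 3, 0, 2, 0, 3, 0, 2, 4, 0, 3, 4], [5, 2, 1, 5, 3, 1, 2, 1, 3, 1, 2, 5, 1, 3, 5, 2, 1, 3, 1, 2, 1, 3, 1, 2, 1, 3])))) (BT.node 82 (BT.node 81 (BT.node 80 (BT.leaf (26, [0, 2, 0, 3, 0, 4, 2, 0, 4, 3, 0, 4, 2, 0, 4, 0, 4, 0, 3, 4, 0, 2, 4, 0, 3, 4], [5, 2, 1, 5, 3, 1, 5, 2, 1, 5, 1, 5, 1, 3, 5, 1, 2, 5, 1, 3, 5, 1, 2, 1, 3, 1])) (BT.leaf (26, [0, 2, 0, 3, 0, 4, 0, 4, 0, 2, 4, 0, 3,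 4, 0, 2, 4, 0, 3, 4, 0, 2, 4, 0, 3, 4], [5, 2, 1, 5, 3, 1, 5, 2, 1, 5, 3, 1, 5, 2, 1, 5, 3, 1, 5, 1, 5, 1, 2, 1, 3, 1]))) (BT.leaf (26, [0, 3, 3, 4, 2, 0, 3, 4, 3, 3, 0, 4, 2, 4, 2, 4, 2, 4, 0, 4, 3, 4, 3, 4, 3, 4], [5, 2, 5, 2, 5, 2, 5, 1, 5, 3, 5, 3, 5, 3, 5, 1, 2, 2, 5, 2, 1, 3, 5, 2, 2, 1]))) (BT.node 83 (BT.leaf (26, [0, 3, 0, 4, 0, 4, 3, 4, 3, 4, 3, 4, 3, 4, 3, 4, 3, 4, 3, 4, 3, 4, 3, 4, 0, 4], [5, 1, 5, 2, 5, 2, 5, 2, 5, 2, 5, 2, 5, 2, 5, 2, 5, 2, 5, 2, 5, 1, 5, 1, 2, 1])) (BT.leaf (26, [3, 0, 2, 4, 3, 4, 3, 0, 3, 0, 3, 4, 3, 0, 3, 4, 0, 2, 4, 2, 2, 4, 3, 4, 0, 4], [5, 1, 5, 2, 5, 3, 3, 5, 3, 1, 5, 2, 1, 2, 5, 2, 1, 2, 1, 2, 5, 2, 5, 3, 1, 2]))))))))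
/-- subgroup generators -/
def subT : BT (ℕ × List ℕ × List ℕ) := (BT.node 0 (BT.leaf (1, [0], [1])) (BT.leaf (1, [2], [3])))
/-- fact chunks -/
def colET : BT ℕ := (BT.node 38 (BT.node 19 (BT.node 9 (BT.node 4 (BT.node 2 (BT.node 1 (BT.node 0 (BT.leaf cE0) (BT.leaf cE1)) (BT.leaf cE2)) (BT.node 3 (BT.leaf cE3) (BT.leaf cE4))) (BT.node 7 (BT.node 6 (BT.node 5 (BT.leaf cE5) (BT.leaf cE6)) (BT.leaf cE7)) (BT.node 8 (BT.leaf cE8) (BT.leaf cE9)))) (BT.node 14 (BT.node 12 (BT.node 11 (BT.node 10 (BT.leaf cE10) (BT.leaf cE11)) (BT.leaf cE12)) (BT.node 13 (BT.leaf cE13) (BT.leaf cE14))) (BT.node 17 (BT.node 16 (BT.node 15 (BT.leaf cE15) (BT.leaf cE16)) (BT.leaf cE17)) (BT.node 18 (BT.leaf cE18)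 (BT.leaf cE19))))) (BT.node 29 (BT.node 24 (BT.node 22 (BT.node 21 (BT.node 20 (BT.leaf cE20) (BT.leaf cE21)) (BT.leaf cE22)) (BT.node 23 (BT.leaf cE23) (BT.leaf cE24))) (BT.node 27 (BT.node 26 (BT.node 25 (BT.leaf cE25) (BT.leaf cE26)) (BT.leaf cE27)) (BT.node 28 (BT.leaf cE28) (BT.leaf cE29)))) (BT.node 34 (BT.node 32 (BT.node 31 (BT.node 30 (BT.leaf cE30) (BT.leaf cE31)) (BT.leaf cE32)) (BT.node 33 (BT.leaf cE33) (BT.leaf cE34))) (BT.node 36 (BT.node 35 (BT.leaf cE35) (BT.leaf cE36)) (BT.node 37 (BT.leaf cE37) (BT.leaf cE38)))))) (BT.node 57 (BT.node 48 (BT.node 43 (BT.node 41 (BT.node 40 (BT.node 39 (BT.leaf cE39) (BT.leaf cE40)) (BT.leaf cE41)) (BT.node 42 (BT.leaf cE42) (BT.leaf cE43)))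 (BT.node 46 (BT.node 45 (BT.node 44 (BT.leaf cE44) (BT.leaf cE45)) (BT.leaf cE46)) (BT.node 47 (BT.leaf cE47) (BT.leaf cE48)))) (BT.node 53 (BT.node 51 (BT.node 50 (BT.node 49 (BT.leaf cE49) (BT.leaf cE50)) (BT.leaf cE51)) (BT.node 52 (BT.leaf cE52) (BT.leaf cE53))) (BT.node 55 (BT.node 54 (BT.leaf cE54) (BT.leaf cE55)) (BT.node 56 (BT.leaf cE56) (BT.leaf cE57))))) (BT.node 67 (BT.node 62 (BT.node 60 (BT.node 59 (BT.node 58 (BT.leaf cE58) (BT.leaf cE59)) (BT.leaf cE60)) (BT.node 61 (BT.leaf cE61) (BT.leaf cE62))) (BT.node 65 (BT.node 64 (BT.node 63 (BT.leaf cE63) (BT.leaf cE64)) (BT.leaf cE65)) (BT.node 66 (BT.leaf cE66) (BT.leaf cE67)))) (BT.node 72 (BT.node 70 (BT.node 69 (BT.node 68 (BT.leaf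 cE68) (BT.leaf cE69)) (BT.leaf cE70)) (BT.node 71 (BT.leaf cE71) (BT.leaf cE72))) (BT.node 74 (BT.node 73 (BT.leaf cE73) (BT.leaf cE74)) (BT.node 75 (BT.leaf cE75) (BT.leaf cE76)))))))
/-- justification chunks -/
def colJT : BT ℕ := (BT.node 38 (BT.node 19 (BT.node 9 (BT.node 4 (BT.node 2 (BT.node 1 (BT.node 0 (BT.leaf cJ0) (BT.leaf cJ1)) (BT.leaf cJ2)) (BT.node 3 (BT.leaf cJ3) (BT.leaf cJ4))) (BT.node 7 (BT.node 6 (BT.node 5 (BT.leaf cJ5) (BT.leaf cJ6)) (BT.leaf cJ7)) (BT.node 8 (BT.leaf cJ8) (BT.leaf cJ9)))) (BT.node 14 (BT.node 12 (BT.node 11 (BT.node 10 (BT.leaf cJ10) (BT.leaf cJ11)) (BT.leaf cJ12)) (BT.node 13 (BT.leaf cJ13) (BT.leaf cJ14))) (BT.node 17 (BT.node 16 (BT.node 15 (BT.leaf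 cJ15) (BT.leaf cJ16)) (BT.leaf cJ17)) (BT.node 18 (BT.leaf cJ18) (BT.leaf cJ19))))) (BT.node 29 (BT.node 24 (BT.node 22 (BT.node 21 (BT.node 20 (BT.leaf cJ20) (BT.leaf cJ21)) (BT.leaf cJ22)) (BT.node 23 (BT.leaf cJ23) (BT.leaf cJ24))) (BT.node 27 (BT.node 26 (BT.node 25 (BT.leaf cJ25) (BT.leaf cJ26)) (BT.leaf cJ27)) (BT.node 28 (BT.leaf cJ28) (BT.leaf cJ29)))) (BT.node 34 (BT.node 32 (BT.node 31 (BT.node 30 (BT.leaf cJ30) (BT.leaf cJ31)) (BT.leaf cJ32)) (BT.node 33 (BT.leaf cJ33) (BT.leaf cJ34))) (BT.node 36 (BT.node 35 (BT.leaf cJ35) (BT.leaf cJ36)) (BT.node 37 (BT.leaf cJ37) (BT.leaf cJ38)))))) (BT.node 57 (BT.node 48 (BT.node 43 (BT.node 41 (BT.node 40 (BT.node 39 (BT.leaf cJ39) (BT.leaf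 cJ40)) (BT.leaf cJ41)) (BT.node 42 (BT.leaf cJ42) (BT.leaf cJ43))) (BT.node 46 (BT.node 45 (BT.node 44 (BT.leaf cJ44) (BT.leaf cJ45)) (BT.leaf cJ46)) (BT.node 47 (BT.leaf cJ47) (BT.leaf cJ48)))) (BT.node 53 (BT.node 51 (BT.node 50 (BT.node 49 (BT.leaf cJ49) (BT.leaf cJ50)) (BT.leaf cJ51)) (BT.node 52 (BT.leaf cJ52) (BT.leaf cJ53))) (BT.node 55 (BT.node 54 (BT.leaf cJ54) (BT.leaf cJ55)) (BT.node 56 (BT.leaf cJ56) (BT.leaf cJ57))))) (BT.node 67 (BT.node 62 (BT.node 60 (BT.node 59 (BT.node 58 (BT.leaf cJ58) (BT.leaf cJ59)) (BT.leaf cJ60)) (BT.node 61 (BT.leaf cJ61) (BT.leaf cJ62))) (BT.node 65 (BT.node 64 (BT.node 63 (BT.leaf cJ63) (BT.leaf cJ64)) (BT.leaf cJ65)) (BT.node 66 (BT.leaf cJ66)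 (BT.leaf cJ67)))) (BT.node 72 (BT.node 70 (BT.node 69 (BT.node 68 (BT.leaf cJ68) (BT.leaf cJ69)) (BT.leaf cJ70)) (BT.node 71 (BT.leaf cJ71) (BT.leaf cJ72))) (BT.node 74 (BT.node 73 (BT.leaf cJ73) (BT.leaf cJ74)) (BT.node 75 (BT.leaf cJ75) (BT.leaf cJ76)))))))
/-- parent chunks -/
def parCT : BT ℕ := (BT.node 5 (BT.node 2 (BT.node 1 (BT.node 0 (BT.leaf cP0) (BT.leaf cP1)) (BT.leaf cP2)) (BT.node 4 (BT.node 3 (BT.leaf cP3) (BT.leaf cP4)) (BT.leaf cP5))) (BT.node 8 (BT.node 7 (BT.node 6 (BT.leaf cP6) (BT.leaf cP7)) (BT.leaf cP8)) (BT.node 9 (BT.leaf cP9) (BT.leaf cP10))))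
/-- the certificate -/
def data : Data where
  k := 6
  N := 5600
  W := 29
  MW := 536870912
  B := 8192
  CH := 512
  NCH := 11
  colE := colET
  JW := 64
  MJ := 18446744073709551616
  A := 1048576
  colJ := colJT
  PW := 23
  MP := 8388608
  parC := parCT
  inv := (BT.node 3 (BT.node 1 (BT.node 0 (BT.leaf 1) (BT.leaf 0)) (BT.node 2 (BT.leaf 3) (BT.leaf 2))) (BT.node 5 (BT.node 4 (BT.leaf 5) (BT.leaf 4)) (BT.leaf 6)))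
  rel := relT
  sub := subT
  fuel := 4

end Cfsg.Agent.Lib.Helper16.HSM.PHSData
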