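import Cfsg.Agent.Lib.Helper28.TC2Glue
import Cfsg.Agent.Lib.Helper28.TC2Range
import Cfsg.Agent.Lib.Helper16.HSM.PHSLink
import Cfsg.Agent.Lib.Helper16.HSM.PHSM0
import Cfsg.Agent.Lib.Helper16.HSM.PHSU0
import Cfsg.Agent.Lib.Helper16.HSM.PHSU1

set_option autoImplicit false
set_option maxRecDepth 100000
open Cfsg

namespace Cfsg.Agent.Lib.Helper16.HSM.PHSMainU
open Cfsg.Agent.Lib.Helper28.TC2Upper Cfsg.Agent.Lib.Helper28.TC2Lower Cfsg.Agent.Lib.Helper28.TC2Glue Cfsg.Agent.Lib.Helper28.TC2Range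
open Cfsg.Agent.Lib.Helper16.HSM.PHSData Cfsg.Agent.Lib.Helper16.HSM.PHSTable Cfsg.Agent.Lib.Helper16.HSM.PHSLink

theorem hchk : ∀ v, v < data.N → data.checkNode v = true := by
  intro v hv
  have hv' : v < 5600 := hv
  rcases Nat.lt_or_ge v 858 with h0 | h0
  · exact (data.checkRange_iff 0 858).mp Cfsg.Agent.Lib.Helper16.HSM.PHSU0.chk0 v (by omega) (by omega)
  rcases Nat.lt_or_ge v 1716 with h1 | h1
  · exact (data.checkRange_iff 858 858).mp Cfsg.Agent.Lib.Helper16.HSM.PHSU0.chk1 v (by omega) (by omega)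
  rcases Nat.lt_or_ge v 2574 with h2 | h2
  · exact (data.checkRange_iff 1716 858).mp Cfsg.Agent.Lib.Helper16.HSM.PHSU0.chk2 v (by omega) (by omega)
  rcases Nat.lt_or_ge v 3432 with h3 | h3
  · exact (data.checkRange_iff 2574 858).mp Cfsg.Agent.Lib.Helper16.HSM.PHSU0.chk3 v (by omega) (by omega)
  rcases Nat.lt_or_ge v 4290 with h4 | h4
  · exact (data.checkRange_iff 3432 858).mp Cfsg.Agent.Lib.Helper16.HSM.PHSU0.chk4 v (by omega) (by omega)
  rcases Nat.lt_or_ge v 5148 with h5 | h5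
  · exact (data.checkRange_iff 4290 858).mp Cfsg.Agent.Lib.Helper16.HSM.PHSU1.chk5 v (by omega) (by omega)
  exact (data.checkRange_iff 5148 452).mp Cfsg.Agent.Lib.Helper16.HSM.PHSU1.chk6 v (by omega) (by omega)

theorem hrows : ∀ v, v < data.N → Data.rowOK data v = true := by
  intro v hv
  have hv' : v < 5600 := hv
  exact (Data.finalRange_iff data 0 5600).mp Cfsg.Agent.Lib.Helper16.HSM.PHSM0.fin0 v (by omega) (by omega)

theorem hfin : data.finalOK = true := Data.finalOK_of_rows data Cfsg.Agent.Lib.Helper16.HSM.PHSM0.hlive0 (by decide) hrows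

theorem pc0 : Data.countFrom data 0 5600 = 5600 := Cfsg.Agent.Lib.Helper16.HSM.PHSM0.cnt0

theorem hcount : data.countLive = 5600 := by
  rw [Data.countLive_eq]
  exact pc0

/-- the number of cosets is at most `5600` -/
theorem mainU : Finite (PresentedGroup rels ⧸ (Subgroup.closure S).map (PresentedGroup.mk rels)) ∧
    Nat.card (PresentedGroup rels ⧸ (Subgroup.closure S).map (PresentedGroup.mk rels)) ≤ 5600 := by
  have h := upper link hchk hfin
  rw [hcount] at h
  exact h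

end Cfsg.Agent.Lib.Helper16.HSM.PHSMainU
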