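import Cfsg.Agent.Lib.Helper3.Cover.Finite
import Cfsg.Agent.Lib.Helper3.Cover.Lower
import Cfsg.Agent.Lib.Helper3.Cover.M12Main
import Cfsg.Agent.Lib.Helper28.TC2Tower
import Cfsg.Agent.Lib.Helper28.TC2Tower2
import Cfsg.Agent.Lib.Helper16.HSM.EHSMainU
import Cfsg.Agent.Lib.Helper16.HSM.PHSMainU
import Cfsg.Agent.Lib.Helper16.HSM.HS100
import Cfsg.Agent.Lib.Helper16.HSM.L704Low

set_option autoImplicit false
set_option maxRecDepth 100000

/-!
# The Schur multiplier of the Higman-Sims group has order 2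

`PHS = ⟨a, b, c | R⟩` with `⟨a, b⟩` a quotient of helper3's presentation `P11` of `M11`;
`|PHS| ≤ 5600 * 7920`, the covering presentation `EHS` has order at most `11200 * 7920`
(the subgroup `⟨a, b⟩` is a quotient of the covering presentation `E11` of `M11`, of order at most `7920`);
`PHS` acts on 100 points as a rank 3 group of order at least `44352000`, hence is the Higman-Sims group;
the relator `c c` is not trivial in `EHS` (permutation representation on 704 points).
-/

namespace Cfsg.Agent.Lib.Helper16.HSM.HSMain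

open Cfsg Cfsg.Agent.Lib.Helper3.Cover
open Cfsg.Agent.Lib.Helper28.TC2Upper Cfsg.Agent.Lib.Helper28.TC2Lower Cfsg.Agent.Lib.Helper28.TC2Glue
open Cfsg.Agent.Lib.Helper28.TC2Tower Cfsg.Agent.Lib.Helper28.TC2Tower2

/-- the covering data of the presentation of `M11` -/
abbrev D11 : CoverData E11Def.Gen := E11Def.cover
/-- the covering data of the presentation of `HS` -/
abbrev DHS : CoverData EHSDef.Gen := EHSDef.cover

/-- the generators of `M11` as generators of `HS` -/
def up : E11Def.Gen → EHSDef.Gen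
  | .a => .a
  | .b => .b

theorem upP : ∀ L ∈ E11Def.R, upWord up L ∈ EHSDef.R := by decide +kernel
theorem upE : ∀ L ∈ E11Def.relWords, upWord up L ∈ EHSDef.relWords := by decide +kernel

/-! ### the group `PHS` -/

theorem hSP : ∀ s ∈ PHSLink.S, ∃ b, s = FreeGroup.of (up b) := by
  intro s hs
  simp only [PHSLink.S, Set.mem_insert_iff, Set.mem_singleton_iff] at hs
  rcases hs with rfl | rfl
  exacts [⟨.a, rfl⟩, ⟨.b, rfl⟩]

theorem cardP' : Finite (PresentedGroup PHSLink.rels) ∧
    Nat.card (PresentedGroup PHSLink.rels) ≤ 5600 * 7920 := by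
  haveI : Finite (PresentedGroup P11Link.rels) := M12Main.cardP11.1
  have hrel := hrel_of_words PHSLink.rels P11Link.rels up PHSLink.relWords P11Link.relWords
    PHSLink.link.hrels P11Link.link.hrels upP
  obtain ⟨hfin, hle⟩ := card_le_of_subpres PHSLink.rels P11Link.rels up hrel PHSLink.S hSP
  obtain ⟨hq, hqle⟩ := PHSMainU.mainU
  exact card_le_of_quot _ hfin hq hqle (le_trans hle (le_of_eq M12Main.cardP11.2))

theorem cardP : Finite DHS.P ∧ Nat.card DHS.P ≤ 44352000 := cardP'

/-! ### the covering group `EHS` -/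

theorem hSE : ∀ s ∈ EHSLink.S, ∃ b, s = FreeGroup.of (up b) := by
  intro s hs
  simp only [EHSLink.S, Set.mem_insert_iff, Set.mem_singleton_iff] at hs
  rcases hs with rfl | rfl
  exacts [⟨.a, rfl⟩, ⟨.b, rfl⟩]

theorem cardE' : Finite (PresentedGroup EHSLink.rels) ∧
    Nat.card (PresentedGroup EHSLink.rels) ≤ 11200 * 7920 := by
  haveI : Finite (PresentedGroup D11.relsE) := M12Main.cardE11.1
  have hrel := hrel_of_words EHSLink.rels D11.relsE up EHSLink.relWords E11Def.relWords
    EHSLink.link.hrels (fun _ => Iff.rfl) upE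
  obtain ⟨hfin, hle⟩ := card_le_of_subpres EHSLink.rels D11.relsE up hrel EHSLink.S hSE
  obtain ⟨hq, hqle⟩ := EHSMainU.mainU
  exact card_le_of_quot _ hfin hq hqle (le_trans hle M12Main.cardE11.2)

theorem cardE : Finite DHS.E ∧ Nat.card DHS.E ≤ 88704000 := cardE'

/-! ### the action on 100 points -/

theorem lwk100 : ∀ xb, PHSLink.lw xb < L100Table.table.k := by
  rintro ⟨x, b⟩; cases x <;> cases b <;> decide
theorem lwinv100 : ∀ x, PHSLink.lw (x, false) = L100Table.table.invl (PHSLink.lw (x, true)) := by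
  intro x; cases x <;> decide +kernel
theorem hmem100 : ∀ L ∈ EHSDef.R, pathOf PHSLink.lw L ∈ L100Table.chkPaths := by decide +kernel

/-- the presented group, with the relators in list form -/
abbrev PP : Type := PresentedGroup (relSet EHSDef.R)

theorem cardPP : Finite PP ∧ Nat.card PP ≤ 44352000 := cardP'

theorem exists_iso_gam : Nonempty (PP ≃* ↥HS100.Gam) ∧ Nat.card ↥HS100.Gam = 44352000 := by
  haveI := cardPP.1
  obtain ⟨φ, hφ⟩ := lower_hom EHSDef.R PHSLink.lw L100Table.table HS100.hT lwk100 lwinv100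
    (fun L hL => L100Low.hchkT _ (hmem100 L hL))
  have hof : ∀ x b, φ (PresentedGroup.mk _ (FreeGroup.mk [(x, b)])) =
      Table.sigma HS100.hT (PHSLink.lw (x, b)) := by
    intro x b
    ext p
    rw [hφ [(x, b)] p, Table.sigma_apply HS100.hT (lwk100 _)]
    have e : pathOf PHSLink.lw [(x, b)] = [PHSLink.lw (x, b)] := rfl
    rw [e, Table.walkT_cons, Table.walkT_nil]
  have hmem : ∀ g : PP, φ g ∈ HS100.Gam := by
    intro g
    have hg : g ∈ Subgroup.closure (Set.range (PresentedGroup.of (rels := relSet EHSDef.R))) := by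
      rw [PresentedGroup.closure_range_of]; trivial
    induction hg using Subgroup.closure_induction with
    | mem y hy =>
      obtain ⟨x, rfl⟩ := hy
      have : (PresentedGroup.of x : PP) = PresentedGroup.mk _ (FreeGroup.mk [(x, true)]) := rfl
      rw [this, hof]
      exact HS100.sigma_mem (lwk100 _)
    | one => rw [map_one]; exact Subgroup.one_mem _
    | mul y z _ _ hy hz => rw [map_mul]; exact Subgroup.mul_mem _ hy hz
    | inv y _ hy => rw [map_inv]; exact Subgroup.inv_mem _ hy
  let ψ : PP →* ↥HS100.Gam := φ.codRestrict HS100.Gam hmem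
  have hge : HS100.Gam ≤ φ.range := by
    unfold HS100.Gam
    rw [Subgroup.closure_le]
    rintro π ⟨l, hl, rfl⟩
    have key : ∀ x b, Table.sigma HS100.hT (PHSLink.lw (x, b)) ∈ φ.range :=
      fun x b => ⟨_, hof x b⟩
    interval_cases l
    · exact key .a true
    · exact key .a false
    · exact key .b true
    · exact key .b false
    · exact key .c true
    · exact key .c false
  have hsurj : Function.Surjective ψ := by
    intro h
    obtain ⟨g, hg⟩ := hge h.2
    exact ⟨g, Subtype.ext hg⟩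
  have h1 : Nat.card ↥HS100.Gam ≤ Nat.card PP := Nat.card_le_card_of_surjective ψ hsurj
  have h2 := HS100.card_ge
  have h3 := cardPP.2
  have hc : Nat.card ↥HS100.Gam = 44352000 := le_antisymm (le_trans h1 h3) h2
  refine ⟨⟨MulEquiv.ofBijective ψ (hsurj.bijective_of_nat_card_le ?_)⟩, hc⟩
  rw [hc]; exact h3

theorem iso : Nonempty (DHS.P ≃* ↥Cfsg.Spor.HS) := by
  obtain ⟨⟨e1⟩, hc⟩ := exists_iso_gam
  obtain ⟨e2⟩ := Cfsg.Agent.Lib.Helper14.HSRec.isoHS_of_R3 HS100.r3 hc
  exact ⟨e1.trans e2⟩

theorem cardP_eq : Nat.card DHS.P = 44352000 := by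
  obtain ⟨⟨e1⟩, hc⟩ := exists_iso_gam
  have : Nat.card PP = 44352000 := by rw [Nat.card_congr e1.toEquiv, hc]
  exact this

/-! ### the kernel -/

theorem lwk704 : ∀ xb, EHSLink.lw xb < L704Table.table.k := by
  rintro ⟨x, b⟩; cases x <;> cases b <;> decide
theorem lwinv704 : ∀ x, EHSLink.lw (x, false) = L704Table.table.invl (EHSLink.lw (x, true)) := by
  intro x; cases x <;> decide +kernel
theorem hmem704 : ∀ L ∈ EHSDef.relWords, pathOf EHSLink.lw L ∈ L704Table.chkPaths := by decide +kernel

/-- the relator `c c` -/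
def zc : List (EHSDef.Gen × Bool) := EHSDef.R.getD 5 []

theorem zc_mem : zc ∈ EHSDef.R := by decide +kernel

theorem walk_zc : L704Table.table.walkT (pathOf EHSLink.lw zc) 0 ≠ 0 := by decide +kernel

/-- the kernel of the projection is not trivial -/
theorem ker_ne_bot : ∃ z ∈ DHS.proj.ker, z ≠ 1 := by
  obtain ⟨φ, hφ⟩ := lower_hom EHSDef.relWords EHSLink.lw L704Table.table L704Low.hT lwk704 lwinv704
    (fun L hL => L704Low.hchkT _ (hmem704 L hL))
  refine ⟨PresentedGroup.mk DHS.relsE (FreeGroup.mk zc), ?_, ?_⟩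
  · rw [MonoidHom.mem_ker, DHS.proj_mk]
    exact PresentedGroup.one_of_mem ⟨zc, zc_mem, rfl⟩
  · intro h
    have h1 : φ (PresentedGroup.mk _ (FreeGroup.mk zc)) ≠ 1 :=
      ne_one_of_walk φ hφ zc ⟨0, by decide⟩ walk_zc
    apply h1
    have : (PresentedGroup.mk (relSet EHSDef.relWords) (FreeGroup.mk zc)) = 1 := h
    rw [this, map_one]

theorem card_ker : Nat.card DHS.proj.ker = 2 := by
  haveI := cardE.1
  have h1 := DHS.card_E
  rw [cardP_eq] at h1
  have h2 := cardE.2
  have h3 : Nat.card DHS.proj.ker ≤ 2 := by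
    rw [h1] at h2
    have h5 : Nat.card ↥DHS.proj.ker * 44352000 ≤ 2 * 44352000 := h2
    exact Nat.le_of_mul_le_mul_right h5 (by norm_num)
  have h4 : 1 < Nat.card DHS.proj.ker := by
    obtain ⟨z, hz, hz1⟩ := ker_ne_bot
    rw [Finite.one_lt_card_iff_nontrivial]
    exact ⟨⟨⟨z, hz⟩, 1, fun h => hz1 (congrArg Subtype.val h)⟩⟩
  exact le_antisymm h3 h4

/-- the Schur multiplier of the Higman-Sims group is cyclic of order 2 -/
theorem schur_HS : Cfsg.HasCyclicSchurMultiplier ↥Cfsg.Spor.HS 2 := by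
  haveI := cardE.1
  obtain ⟨φ⟩ := iso
  haveI : Fact (Nat.Prime 2) := ⟨Nat.prime_two⟩
  have hc : IsCyclic DHS.proj.ker := isCyclic_of_prime_card card_ker
  have e : Nat.card DHS.proj.ker = Nat.card (Multiplicative (ZMod 2)) := by
    rw [card_ker, Nat.card_eq_fintype_card]; rfl
  exact DHS.hasSchurMultiplier φ (mulEquivOfCyclicCardEq e)

end Cfsg.Agent.Lib.Helper16.HSM.HSMain
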